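import Groth.Agent.L09.IndCoh.Extension
import Groth.Agent.L15.LocPres.FilColim
import Mathlib.CategoryTheory.ObjectProperty.Ind

/-!
# Modules covered by coherent modules
-/

set_option autoImplicit false
set_option linter.style.haveILetI false
set_option linter.unusedSectionVars false
set_option backward.isDefEq.respectTransparency false
set_option backward.isDefEq.respectTransparency.types false

universe u

open CategoryTheory CategoryTheory.Limits AlgebraicGeometry TopologicalSpace Opposite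

noncomputable section

namespace Groth.L09.IndCoh

open Groth.L17.FSheaf

variable {𝔛 : FSch.Sys.{u}} (hX : 𝔛.IsLocNoethFormal)

/-- Every section is locally in the image of a morphism from a coherent module. -/
def Cov (M : FSch.ModF 𝔛 hX.1) : Prop :=
  ∀ (W : (𝔛.X 0).Opens) (s : SF 𝔛 hX.1 M W), ∀ x ∈ W, ∃ (E : FSch.ModF 𝔛 hX.1) (_ : FSch.IsCohF 𝔛 hX.1 E) (f : E ⟶ M)
    (V : (𝔛.X 0).Opens) (hV : V ≤ W), x ∈ V ∧ ∃ e : SF 𝔛 hX.1 E V, apF f V e = rsF M hV s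

variable {M N : FSch.ModF 𝔛 hX.1}

theorem cov_coh (hM : FSch.IsCohF 𝔛 hX.1 M) : Cov hX M := fun W s x hx =>
  ⟨M, hM, 𝟙 M, W, le_rfl, hx, rsF M le_rfl s, rfl⟩

theorem cov_of_epi (hM : Cov hX M) (π : M ⟶ N) [Epi π] : Cov hX N := fun W s x hx => by
  obtain ⟨V₀, hV₀, hxV₀, a, ha⟩ := exists_lift π s x hx
  obtain ⟨E, hE, f, V, hV, hxV, e, he⟩ := hM V₀ a x hxV₀
  refine ⟨E, hE, f ≫ π, V, hV.trans hV₀, hxV, e, ?_⟩
  exact (congrArg (apF π V) he).trans ((apF_rsF π hV a).trans ((congrArg (rsF N hV) ha).trans (rsF_rsF N hV₀ hV s)))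

theorem genOn_cov (hM : Cov hX M) {U : (𝔛.X 0).Opens} (hU : IsAffineOpen U) : GenOn M U := fun W hW s x hx => by
  obtain ⟨E, hE, f, V₀, hV₀, hxV₀, e, he⟩ := hM W s x hx
  obtain ⟨V, hV, hxV, hmem⟩ := genOn_coh hX hE hU (hV₀.trans hW) e x hxV₀
  refine ⟨V, hV.trans hV₀, hxV, ?_⟩
  have h1 := Submodule.mem_map_of_mem (f := apF f V) hmem
  rw [apF_rsF f hV, he, rsF_rsF, Submodule.map_span] at h1
  refine Submodule.span_mono ?_ h1
  rintro _ ⟨_, ⟨t, rfl⟩, rfl⟩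
  exact ⟨apF f U t, (apF_rsF f _ t).symm⟩

theorem lGen_cov (hM : Cov hX M) : LGen M := fun x => by
  obtain ⟨U, hU, hxU, -⟩ := Opens.isBasis_iff_nbhd.1 (𝔛.X 0).isBasis_affineOpens (Opens.mem_top x)
  exact ⟨U, hU, hxU, genOn_cov hX hM hU⟩

theorem isCohF_free (n : ℕ) :
    FSch.IsCohF 𝔛 hX.1 (SheafOfModules.free (R := ModSite.ringSh (𝔛.Osh hX.1)) (ULift.{u} (Fin n))) :=
  isFinitePresentation_free (R := ModSite.ringSh (𝔛.Osh hX.1)) n

/-- A covered module with generated relations. -/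
def Good (M : FSch.ModF 𝔛 hX.1) : Prop := QR M ∧ Cov hX M

theorem good_coh (hM : FSch.IsCohF 𝔛 hX.1 M) : Good hX M := ⟨qr_coh hX hM, cov_coh hX hM⟩

theorem Good.of_iso (hM : Good hX M) (e : M ≅ N) : Good hX N :=
  ⟨hM.1.of_mono e.inv, cov_of_epi hX hM.2 e.hom⟩

theorem good_cokernel {A : FSch.ModF 𝔛 hX.1} (hA : Cov hX A) (hB : Good hX M) (f : A ⟶ M) :
    Good hX (cokernel f) :=
  ⟨qr_cokernel hX (lGen_cov hX hA) hB.1 f, cov_of_epi hX hB.2 (cokernel.π f)⟩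

theorem biprod_total (W : (𝔛.X 0).Opens) (z : SF 𝔛 hX.1 (M ⊞ N) W) :
    z = apF (biprod.inl : M ⟶ M ⊞ N) W (apF biprod.fst W z) + apF (biprod.inr : N ⟶ M ⊞ N) W (apF biprod.snd W z) :=
  (congrArg (fun t : M ⊞ N ⟶ M ⊞ N => apF t W z) (biprod.total (X := M) (Y := N))).symm

theorem qr_biprod (hM : QR M) (hN : QR N) : QR (M ⊞ N) :=
  qr_ext hX (biprod.inl : M ⟶ M ⊞ N) biprod.snd (fun W z hz =>
    ⟨apF biprod.fst W z, by conv_rhs => rw [biprod_total hX W z, hz, map_zero, add_zero]⟩) hM hN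

theorem exists_gens (hM : FSch.IsCohF 𝔛 hX.1 M) {U : (𝔛.X 0).Opens} (hU : IsAffineOpen U) :
    ∃ (n : ℕ) (g : Fin n → SF 𝔛 hX.1 M U), ∀ ⦃V : (𝔛.X 0).Opens⦄, IsAffineOpen V → ∀ (hV : V ≤ U)
      (z : SF 𝔛 hX.1 M V), ∃ c : Fin n → O 𝔛 hX.1 V, z = ∑ i, c i • rsF M hV (g i) := by
  obtain ⟨n, m, g, r, -, hg⟩ := exists_gen_rel_SF 𝔛 hX hM hU
  refine ⟨n, g, fun V hV hVU z => ?_⟩
  obtain ⟨c, hc⟩ := (Submodule.mem_span_range_iff_exists_fun _).1 ((hg hV hVU).1 ▸ Submodule.mem_top : z ∈ _)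
  exact ⟨c, hc.symm⟩

/-- Sums of two coherent modules are coherent. -/
theorem isCohF_biprod (hM : FSch.IsCohF 𝔛 hX.1 M) (hN : FSch.IsCohF 𝔛 hX.1 N) : FSch.IsCohF 𝔛 hX.1 (M ⊞ N) := by
  refine isCohF_of_qr_finGen hX (qr_biprod hX (qr_coh hX hM) (qr_coh hX hN)) fun x => ?_
  obtain ⟨U, hU, hxU, -⟩ := Opens.isBasis_iff_nbhd.1 (𝔛.X 0).isBasis_affineOpens (Opens.mem_top x)
  obtain ⟨n, g, hg⟩ := exists_gens hX hM hU
  obtain ⟨m, g', hg'⟩ := exists_gens hX hN hU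
  refine ⟨U, hxU, n + m, Fin.append (fun i => apF (biprod.inl : M ⟶ M ⊞ N) U (g i))
    (fun i => apF (biprod.inr : N ⟶ M ⊞ N) U (g' i)), fun W hW y hy z => ?_⟩
  obtain ⟨V, hV, hyV, hVW⟩ := Opens.isBasis_iff_nbhd.1 (𝔛.X 0).isBasis_affineOpens hy
  obtain ⟨c, hc⟩ := hg hV (hVW.trans hW) (apF biprod.fst V (rsF (M ⊞ N) hVW z))
  obtain ⟨c', hc'⟩ := hg' hV (hVW.trans hW) (apF biprod.snd V (rsF (M ⊞ N) hVW z))
  refine ⟨V, hVW, hyV, Fin.append c c', (biprod_total hX V _).trans ?_⟩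
  rw [hc, hc', map_sum, map_sum, Fin.sum_univ_add]
  simp only [Fin.append_left, Fin.append_right]
  exact congrArg₂ (· + ·)
    (Finset.sum_congr rfl fun i _ => ((apF (biprod.inl : M ⟶ M ⊞ N) V).map_smul _ _).trans
      (congrArg (fun t => c i • t) (apF_rsF _ _ (g i))))
    (Finset.sum_congr rfl fun i _ => ((apF (biprod.inr : N ⟶ M ⊞ N) V).map_smul _ _).trans
      (congrArg (fun t => c' i • t) (apF_rsF _ _ (g' i))))

theorem cov_biprod (hM : Cov hX M) (hN : Cov hX N) : Cov hX (M ⊞ N) := fun W s x hx => by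
  obtain ⟨E, hE, f, V, hV, hxV, e, he⟩ := hM W (apF biprod.fst W s) x hx
  obtain ⟨E', hE', f', V', hV', hxV', e', he'⟩ := hN V (rsF N hV (apF biprod.snd W s)) x hxV
  refine ⟨E ⊞ E', isCohF_biprod hX hE hE', biprod.map f f', V', hV'.trans hV, hxV',
    apF (biprod.inl : E ⟶ E ⊞ E') V' (rsF E hV' e) + apF (biprod.inr : E' ⟶ E ⊞ E') V' e', ?_⟩
  rw [map_add, biprod_total hX V' (rsF (M ⊞ N) (hV'.trans hV) s)]
  refine congrArg₂ (· + ·) ?_ ?_
  · refine (congrArg (fun t : E ⟶ M ⊞ N => apF t V' (rsF E hV' e)) (biprod.inl_map f f')).trans ?_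
    refine congrArg (apF (biprod.inl : M ⟶ M ⊞ N) V') ?_
    exact ((apF_rsF f hV' e).trans ((congrArg (rsF M hV') he).trans (rsF_rsF M hV hV' _))).trans
      (apF_rsF (biprod.fst : M ⊞ N ⟶ M) (hV'.trans hV) s).symm
  · refine (congrArg (fun t : E' ⟶ M ⊞ N => apF t V' e') (biprod.inr_map f f')).trans ?_
    refine congrArg (apF (biprod.inr : N ⟶ M ⊞ N) V') ?_
    exact (he'.trans (rsF_rsF N hV hV' _)).trans (apF_rsF (biprod.snd : M ⊞ N ⟶ N) (hV'.trans hV) s).symm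

theorem good_biprod (hM : Good hX M) (hN : Good hX N) : Good hX (M ⊞ N) :=
  ⟨qr_biprod hX hM.1 hN.1, cov_biprod hX hM.2 hN.2⟩

/-- Properties closed under sums of two modules hold for finite coproducts. -/
theorem finCoprod_induction {C : Type*} [Category C] [Abelian C] (P : C → Prop)
    (hiso : ∀ {A B : C}, P A → (A ≅ B) → P B) (hzero : ∀ A : C, IsZero A → P A)
    (hbi : ∀ A B : C, P A → P B → P (A ⊞ B)) (α : Type u) [Finite α] :
    ∀ (f : α → C) [HasCoproduct f], (∀ a, P (f a)) → P (∐ f) := by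
  refine Finite.induction_empty_option (P := fun α => ∀ (f : α → C) [HasCoproduct f], (∀ a, P (f a)) → P (∐ f))
    ?_ ?_ ?_ α
  · intro α β e ih f _ hf
    haveI : HasCoproduct (fun x => f (e x)) := hasCoproduct_of_equiv_of_iso f (fun x => f (e x)) e fun _ => Iso.refl _
    exact hiso (ih (fun x => f (e x)) fun a => hf _) (Sigma.whiskerEquiv e fun _ => Iso.refl _)
  · intro f _ _
    exact hzero _ ((IsZero.iff_id_eq_zero _).2 (Sigma.hom_ext _ _ fun a => a.elim))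
  · intro α _ ih f _ hf
    haveI : Finite α := Finite.of_fintype α
    refine hiso (hbi _ _ (ih (fun a => f (some a)) fun a => hf _) (hf none))
      { hom := biprod.desc (Sigma.desc fun a => Sigma.ι f (some a)) (Sigma.ι f none)
        inv := Sigma.desc fun a => match a with
          | none => biprod.inr
          | some a => Sigma.ι (fun a => f (some a)) a ≫ biprod.inl
        hom_inv_id := ?_, inv_hom_id := ?_ }
    · refine biprod.hom_ext' _ _ ?_ ?_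
      · refine Sigma.hom_ext _ _ fun a => ?_
        simp
      · simp
    · refine Sigma.hom_ext _ _ fun a => ?_
      rcases a with _ | a <;> simp

theorem isCohF_of_iso (hM : FSch.IsCohF 𝔛 hX.1 M) (e : M ≅ N) : FSch.IsCohF 𝔛 hX.1 N :=
  isCohF_of_epi hX hM ((qr_coh hX hM).of_mono e.inv) e.hom

theorem isCohF_zero (hM : IsZero M) : FSch.IsCohF 𝔛 hX.1 M := by
  haveI : Mono (0 : M ⟶ SheafOfModules.free (R := ModSite.ringSh (𝔛.Osh hX.1)) (ULift.{u} (Fin 0))) :=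
    ⟨fun _ _ _ => hM.eq_of_tgt _ _⟩
  have h0 : QR M := (qr_coh hX (isCohF_free hX 0)).of_mono
    (0 : M ⟶ SheafOfModules.free (R := ModSite.ringSh (𝔛.Osh hX.1)) (ULift.{u} (Fin 0)))
  haveI : Epi (0 : SheafOfModules.free (R := ModSite.ringSh (𝔛.Osh hX.1)) (ULift.{u} (Fin 0)) ⟶ M) :=
    ⟨fun _ _ _ => hM.eq_of_src _ _⟩
  exact isCohF_of_epi hX (isCohF_free hX 0) h0 0

theorem isCohF_coprod (α : Type u) [Finite α] (f : α → FSch.ModF 𝔛 hX.1) (hf : ∀ a, FSch.IsCohF 𝔛 hX.1 (f a)) :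
    FSch.IsCohF 𝔛 hX.1 (∐ f) :=
  finCoprod_induction (FSch.IsCohF 𝔛 hX.1) (fun h e => isCohF_of_iso hX h e) (fun _ h => isCohF_zero hX h)
    (fun _ _ h h' => isCohF_biprod hX h h') α f hf

theorem good_coprod (α : Type u) [Finite α] (f : α → FSch.ModF 𝔛 hX.1) (hf : ∀ a, Good hX (f a)) : Good hX (∐ f) :=
  finCoprod_induction (Good hX) (fun h e => Good.of_iso hX h e) (fun _ h => good_coh hX (isCohF_zero hX h))
    (fun _ _ h h' => good_biprod hX h h') α f hf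

section Colim

variable {Λ : Type u} [SmallCategory Λ] [IsFiltered Λ] {D : Λ ⥤ FSch.ModF 𝔛 hX.1} {c : Cocone D} (hc : IsColimit c)
  (hD : ∀ j, Good hX (D.obj j))

include hc hD in
/-- Filtered colimits preserve generated relations and coverings. -/
theorem good_colimit : Good hX c.pt := by
  refine ⟨fun U n y x hx => ?_, fun W s x hx => ?_⟩
  · obtain ⟨S, hS, hlift⟩ := Groth.L15.LocPres.exists_lifts (O := 𝔛.Osh hX.1) hc (n := n) (U := U) y
    obtain ⟨V₀, f₀, hf₀, hxV₀⟩ := hS x hx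
    obtain ⟨j, z, hz⟩ := hlift f₀ hf₀
    obtain ⟨U₁, hU₁, hxU₁, hle⟩ := Opens.isBasis_iff_nbhd.1 (𝔛.X 0).isBasis_affineOpens hxV₀
    refine ⟨U₁, hle.trans (leOfHom f₀), hU₁, hxU₁, fun W hW a ha p hp => ?_⟩
    let z₁ : Fin n → SF 𝔛 hX.1 (D.obj j) U₁ := fun i => rsF (D.obj j) hle (z i)
    have hz₁ : ∀ i, apF (c.ι.app j) U₁ (z₁ i) = rsF c.pt (hle.trans (leOfHom f₀)) (y i) := fun i =>
      (apF_rsF (c.ι.app j) hle (z i)).trans ((congrArg (rsF c.pt hle) (hz i)).trans (rsF_rsF _ (leOfHom f₀) hle _))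
    obtain ⟨T, hT, hzero⟩ := Groth.L15.LocPres.exists_zero (O := 𝔛.Osh hX.1) hc (U := W) j
      (∑ i, a i • rsF (D.obj j) hW (z₁ i)) (by
        refine Eq.trans ?_ ha
        show apF (c.ι.app j) W _ = _
        rw [map_sum]
        exact Finset.sum_congr rfl fun i _ => ((apF (c.ι.app j) W).map_smul _ _).trans
          (congrArg (fun t => a i • t) ((apF_rsF (c.ι.app j) hW (z₁ i)).trans (congrArg (rsF c.pt hW) (hz₁ i)))))
    obtain ⟨W', g, hg, hpW'⟩ := hT p hp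
    obtain ⟨k, f, hf⟩ := hzero g hg
    let z₂ : Fin n → SF 𝔛 hX.1 (D.obj k) U₁ := fun i => apF (D.map f) U₁ (z₁ i)
    obtain ⟨V, hV, hpV, hmem⟩ := relGen_affine hX (hD k).1 hU₁ z₂ ((leOfHom g).trans hW)
      (fun i => resO 𝔛 hX.1 (leOfHom g) (a i)) (by
        refine Eq.trans ?_ hf
        show _ = apF (D.map f) W' (rsF (D.obj j) (leOfHom g) (∑ i, a i • rsF (D.obj j) hW (z₁ i)))
        rw [rsF_comb (D.obj j) hW (leOfHom g) a z₁, map_sum]
        exact Finset.sum_congr rfl fun i _ => (((apF (D.map f) W').map_smul _ _).trans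
          (congrArg (fun t => resO 𝔛 hX.1 (leOfHom g) (a i) • t) (apF_rsF (D.map f) _ (z₁ i)))).symm) p hpW'
    refine ⟨V, hV.trans (leOfHom g), hpV, ?_⟩
    have hle' : resRels (D.obj k) (hV.trans ((leOfHom g).trans hW)) z₂ ≤
        resRels c.pt ((hV.trans (leOfHom g)).trans hW) (fun i => rsF c.pt (hle.trans (leOfHom f₀)) (y i)) := by
      refine Submodule.span_mono (Set.image_mono ?_)
      intro r hr
      refine mem_Rels.2 (Eq.trans ?_ ((congrArg (apF (c.ι.app k) U₁) (mem_Rels.1 hr)).trans (map_zero _)))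
      rw [map_sum]
      refine Finset.sum_congr rfl fun i _ => ((apF (c.ι.app k) U₁).map_smul _ _).trans ?_ |>.symm
      exact congrArg (fun t => r i • t)
        ((congrArg (fun t : D.obj j ⟶ c.pt => apF t U₁ (z₁ i)) (c.w f)).trans (hz₁ i))
    convert hle' hmem using 1
    funext i
    exact (resO_resO (leOfHom g) hV (a i)).symm
  · obtain ⟨S, hS, hlift⟩ := Groth.L15.LocPres.exists_lift (O := 𝔛.Osh hX.1) hc (U := W) s
    obtain ⟨V₀, g, hg, hxV₀⟩ := hS x hx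
    obtain ⟨j, z, hz⟩ := hlift g hg
    obtain ⟨E, hE, f, V, hV, hxV, e, he⟩ := (hD j).2 V₀ z x hxV₀
    refine ⟨E, hE, f ≫ c.ι.app j, V, hV.trans (leOfHom g), hxV, e, ?_⟩
    exact (congrArg (apF (c.ι.app j) V) he).trans ((apF_rsF (c.ι.app j) hV z).trans
      ((congrArg (rsF c.pt hV) hz).trans (rsF_rsF _ (leOfHom g) hV s)))

end Colim

/-- A small filtered colimit of coherent modules is covered and has generated relations. -/
theorem good_of_ind {M : FSch.ModF 𝔛 hX.1}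
    (h : (ObjectProperty.ind.{u} fun 𝔊 : FSch.ModF 𝔛 hX.1 => FSch.IsCohF 𝔛 hX.1 𝔊) M) : Good hX M := by
  obtain ⟨Λ, _, _, pres, hp⟩ := h
  exact good_colimit hX pres.isColimit fun j => good_coh hX (hp j)

end Groth.L09.IndCoh
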