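import Groth.Agent.L09.IndCoh.Qcoh

/-!
# Modules of finite type with generated relations
-/

set_option autoImplicit false
set_option linter.style.haveILetI false
set_option linter.unusedSectionVars false
set_option backward.isDefEq.respectTransparency false
set_option backward.isDefEq.respectTransparency.types false

universe u

open CategoryTheory CategoryTheory.Limits AlgebraicGeometry TopologicalSpace Opposite

noncomputable section

namespace Groth.L09.IndCoh

open Groth.L17.FSheaf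

theorem exists_fin_gen_aux {Y : TopCat.{u}} {R : Sheaf (Opens.grothendieckTopology Y) RingCat.{u}}
    (M : SheafOfModules.{u} R) {U : Opens Y} (σ : (M.over U).GeneratingSections) [Finite σ.I] :
    ∃ (n : ℕ) (g : Fin n → M.val.obj (op U)), ∀ ⦃W : Opens Y⦄ (hW : W ≤ U), ∀ y ∈ W,
      ∀ z : M.val.obj (op W), ∃ (V : Opens Y) (hV : V ≤ W), y ∈ V ∧ ∃ c : Fin n → R.obj.obj (op V),
        res M hV z = ∑ i, c i • res M (hV.trans hW) (g i) := by
  haveI : Fintype σ.I := Fintype.ofFinite _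
  refine ⟨_, fun i => gsec σ ((Fintype.equivFin σ.I).symm i), fun W hW y hy z => ?_⟩
  obtain ⟨V, hV, hyV, a, ha⟩ := gen_of_presentation (σ := σ) hW y hy z
  exact ⟨V, hV, hyV, fun i => a ((Fintype.equivFin σ.I).symm i),
    ha.trans ((Fintype.equivFin σ.I).symm.sum_comp _).symm⟩

/-- Modules of finite type are locally generated by finitely many sections. -/
theorem exists_fin_gen {Y : TopCat.{u}} {R : Sheaf (Opens.grothendieckTopology Y) RingCat.{u}}
    (M : SheafOfModules.{u} R) [SheafOfModules.IsFiniteType.{u} M] (x : Y) :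
    ∃ U : Opens Y, x ∈ U ∧ ∃ (n : ℕ) (g : Fin n → M.val.obj (op U)), ∀ ⦃W : Opens Y⦄ (hW : W ≤ U), ∀ y ∈ W,
      ∀ z : M.val.obj (op W), ∃ (V : Opens Y) (hV : V ≤ W), y ∈ V ∧ ∃ c : Fin n → R.obj.obj (op V),
        res M hV z = ∑ i, c i • res M (hV.trans hW) (g i) := by
  obtain ⟨q, hq⟩ := SheafOfModules.IsFiniteType.exists_localGeneratorsData.{u} M
  obtain ⟨i₀, hi₀⟩ := Opens.mem_iSup.1 (show x ∈ ⨆ i, q.X i from
    (show TopologicalSpace.IsOpenCover q.X from (Opens.coversTop_iff _ q.X).1 q.coversTop).symm ▸ Opens.mem_top x)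
  exact ⟨q.X i₀, hi₀, @exists_fin_gen_aux _ R M (q.X i₀) (q.generators i₀) (hq.isFiniteType i₀).finite⟩

variable {𝔛 : FSch.Sys.{u}} (hX : 𝔛.IsLocNoethFormal) {M : FSch.ModF 𝔛 hX.1}

/-- A module locally generated by finitely many sections with generated relations is coherent. -/
theorem isCohF_of_qr_finGen (hR : QR M) (hfin : ∀ x : 𝔛.X 0, ∃ U₀ : (𝔛.X 0).Opens, x ∈ U₀ ∧
    ∃ (n : ℕ) (g : Fin n → SF 𝔛 hX.1 M U₀), ∀ ⦃W : (𝔛.X 0).Opens⦄ (hW : W ≤ U₀), ∀ y ∈ W, ∀ z : SF 𝔛 hX.1 M W,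
      ∃ (V : (𝔛.X 0).Opens) (hV : V ≤ W), y ∈ V ∧ ∃ c : Fin n → O 𝔛 hX.1 V,
        rsF M hV z = ∑ i, c i • rsF M (hV.trans hW) (g i)) : FSch.IsCohF 𝔛 hX.1 M := by
  classical
  let R := ModSite.ringSh (𝔛.Osh hX.1)
  refine isFinitePresentation_of_locPres (R := R) M fun x => ?_
  obtain ⟨U₀, hxU₀, n, g₀, hgen⟩ := hfin x
  obtain ⟨U, hU, hxU, hle⟩ := Opens.isBasis_iff_nbhd.1 (𝔛.X 0).isBasis_affineOpens hxU₀
  let g : Fin n → SF 𝔛 hX.1 M U := fun i => res (R := R) M hle (g₀ i)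
  obtain ⟨m, r, hr0, hr⟩ := exists_relations 𝔛 hX (𝔊 := M) hU g
  refine ⟨U, hxU, _, m, g, r, fun W hW y hy z => ?_, hr0, fun W hW c hc y hy => ?_⟩
  · obtain ⟨V, hV, hyV, a, ha⟩ := hgen (hW.trans hle) y hy z
    refine ⟨V, hV, hyV, a, ha.trans (Finset.sum_congr rfl fun i _ => ?_)⟩
    exact congrArg (fun s => a i • s) (res_res (R := R) M hle (hV.trans hW) _).symm
  · obtain ⟨V, hV, hyV, hmem⟩ := relGen_affine hX hR hU g hW c hc y hy
    refine ⟨V, hV, hyV, ?_⟩
    have hle' : resRels M (hV.trans hW) g ≤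
        Submodule.span (O 𝔛 hX.1 V) (Set.range fun j => fun i => resO 𝔛 hX.1 (hV.trans hW) (r j i)) := by
      refine Submodule.span_le.2 ?_
      rintro _ ⟨b, hb, rfl⟩
      obtain ⟨d, hd⟩ := hr b hb
      refine (Submodule.mem_span_range_iff_exists_fun _).2 ⟨fun j => resO 𝔛 hX.1 (hV.trans hW) (d j), funext fun i => ?_⟩
      simp only [hd i, Finset.sum_apply, Pi.smul_apply, smul_eq_mul, map_sum, map_mul]
    obtain ⟨a, ha⟩ := (Submodule.mem_span_range_iff_exists_fun _).1 (hle' hmem)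
    refine ⟨a, fun i => (congrFun ha i).symm.trans ?_⟩
    simp only [Finset.sum_apply, Pi.smul_apply, smul_eq_mul]
    rfl

/-- A module of finite type with generated relations is coherent. -/
theorem isCohF_of_qr_finiteType [SheafOfModules.IsFiniteType.{u} M] (hR : QR M) : FSch.IsCohF 𝔛 hX.1 M :=
  isCohF_of_qr_finGen hX hR fun x => exists_fin_gen (R := ModSite.ringSh (𝔛.Osh hX.1)) M x

end Groth.L09.IndCoh
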