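import Groth.Agent.L09.IndCoh.Cov
import Mathlib.CategoryTheory.Limits.Constructions.Filtered

/-!
# Covered modules with generated relations are directed unions of coherent submodules
-/

set_option autoImplicit false
set_option linter.style.haveILetI false
set_option linter.unusedSectionVars false
set_option backward.isDefEq.respectTransparency false
set_option backward.isDefEq.respectTransparency.types false

universe u

open CategoryTheory CategoryTheory.Limits AlgebraicGeometry TopologicalSpace Opposite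

noncomputable section

namespace Groth.L09.IndCoh

open Groth.L17.FSheaf

variable {𝔛 : FSch.Sys.{u}} (hX : 𝔛.IsLocNoethFormal) {M : FSch.ModF 𝔛 hX.1}

section Family

variable {ι : Type u} {E : ι → FSch.ModF 𝔛 hX.1} (f : ∀ i, E i ⟶ M)

/-- The sum of finitely many of the maps. -/
def sumMap (T : Finset ι) : (∐ fun i : ↥T => E i.1) ⟶ M := Sigma.desc (f := fun i : ↥T => E i.1) fun i : ↥T => f i.1

/-- The image of finitely many of the maps. -/
abbrev sumIm (T : Finset ι) : FSch.ModF 𝔛 hX.1 := Abelian.coimage (sumMap hX f T)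

theorem exists_sumIm_map {T T' : Finset ι} (h : T ≤ T') : ∃ g : sumIm hX f T ⟶ sumIm hX f T',
    g ≫ Abelian.factorThruCoimage (sumMap hX f T') = Abelian.factorThruCoimage (sumMap hX f T) := by
  let g₀ : (∐ fun i : ↥T => E i.1) ⟶ sumIm hX f T' := Sigma.desc (f := fun i : ↥T => E i.1)
    (fun i : ↥T => Sigma.ι (fun i : ↥T' => E i.1) ⟨i.1, h i.2⟩ ≫ Abelian.coimage.π (sumMap hX f T'))
  have hg₀ : g₀ ≫ Abelian.factorThruCoimage (sumMap hX f T') = sumMap hX f T := Sigma.hom_ext _ _ fun i => by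
    rw [Sigma.ι_desc_assoc, Category.assoc, Abelian.coimage.fac]
    exact (Sigma.ι_desc (f := fun i : ↥T' => E i.1) _ _).trans
      (Sigma.ι_desc (f := fun i : ↥T => E i.1) (fun i : ↥T => f i.1) i).symm
  refine ⟨cokernel.desc (kernel.ι (sumMap hX f T)) g₀ ?_, ?_⟩
  · rw [← cancel_mono (Abelian.factorThruCoimage (sumMap hX f T')), Category.assoc, hg₀, kernel.condition, zero_comp]
  · exact (cancel_epi (Abelian.coimage.π (sumMap hX f T))).1
      (((cokernel.π_desc_assoc _ _ _ _).trans hg₀).trans (Abelian.coimage.fac _).symm)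

/-- The diagram of the images. -/
def sumDiag : Finset ι ⥤ FSch.ModF 𝔛 hX.1 where
  obj T := sumIm hX f T
  map a := (exists_sumIm_map hX f (leOfHom a)).choose
  map_id T := by
    rw [← cancel_mono (Abelian.factorThruCoimage (sumMap hX f T)), (exists_sumIm_map hX f (le_refl T)).choose_spec,
      Category.id_comp]
  map_comp {T T' T''} a b := by
    rw [← cancel_mono (Abelian.factorThruCoimage (sumMap hX f T'')),
      (exists_sumIm_map hX f ((leOfHom a).trans (leOfHom b))).choose_spec, Category.assoc,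
      (exists_sumIm_map hX f (leOfHom b)).choose_spec, (exists_sumIm_map hX f (leOfHom a)).choose_spec]

/-- The cocone of the images. -/
def sumCocone : Cocone (sumDiag hX f) where
  pt := M
  ι := { app := fun T => Abelian.factorThruCoimage (sumMap hX f T)
         naturality := fun T T' a =>
           (exists_sumIm_map hX f (leOfHom a)).choose_spec.trans (Category.comp_id _).symm }

theorem nonempty_isColimit_sumCocone (hcov : ∀ (U : (𝔛.X 0).Opens) (s : SF 𝔛 hX.1 M U), ∀ x ∈ U,
    ∃ (i : ι) (V : (𝔛.X 0).Opens) (hV : V ≤ U), x ∈ V ∧ ∃ e : SF 𝔛 hX.1 (E i) V, apF (f i) V e = rsF M hV s) :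
    Nonempty (IsColimit (sumCocone hX f)) := by
  classical
  haveI : Nonempty (Finset ι) := ⟨∅⟩
  have hstep : ∀ (U : (𝔛.X 0).Opens) (s : SF 𝔛 hX.1 M U), ∀ x ∈ U, ∃ (i : ι) (V : (𝔛.X 0).Opens) (hV : V ≤ U),
      x ∈ V ∧ ∃ (T : Finset ι) (z : SF 𝔛 hX.1 (sumIm hX f T) V),
        apF (Abelian.factorThruCoimage (sumMap hX f T)) V z = rsF M hV s := fun U s x hx => by
    obtain ⟨i, V, hV, hxV, e, he⟩ := hcov U s x hx
    let j : ↥({i} : Finset ι) := ⟨i, Finset.mem_singleton_self i⟩
    let q : E i ⟶ sumIm hX f {i} :=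
      Sigma.ι (fun k : ↥({i} : Finset ι) => E k.1) j ≫ Abelian.coimage.π (sumMap hX f {i})
    have hq : q ≫ Abelian.factorThruCoimage (sumMap hX f {i}) = f i :=
      (Category.assoc _ _ _).trans ((congrArg (fun t => _ ≫ t) (Abelian.coimage.fac _)).trans (Sigma.ι_desc _ j))
    exact ⟨i, V, hV, hxV, {i}, apF q V e, (congrArg (fun t : E i ⟶ M => apF t V e) hq).trans he⟩
  refine Groth.L15.LocPres.nonempty_isColimit_of (O := 𝔛.Osh hX.1) (sumCocone hX f)
    (fun U (s : SF 𝔛 hX.1 M U) => ?_) fun U T (x : SF 𝔛 hX.1 (sumIm hX f T) U) hx => ?_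
  · refine ⟨{ arrows := fun W a => ∃ (T : Finset ι) (z : SF 𝔛 hX.1 (sumIm hX f T) W),
                apF (Abelian.factorThruCoimage (sumMap hX f T)) W z = rsF M (leOfHom a) s
              downward_closed := ?_ }, ?_, fun W a ha => ha⟩
    · rintro W W' a ⟨T, z, hz⟩ b
      refine ⟨T, rsF (sumIm hX f T) (leOfHom b) z, ?_⟩
      exact (apF_rsF _ (leOfHom b) z).trans ((congrArg (rsF M (leOfHom b)) hz).trans
        (rsF_rsF M (leOfHom a) (leOfHom b) s))
    · intro x hx
      exact (hstep U s x hx).elim fun _ h => h.elim fun V h => h.elim fun hV h => ⟨V, homOfLE hV, h.2, h.1⟩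
  · refine ⟨⊤, GrothendieckTopology.top_mem _ U, fun W a _ => ⟨T, 𝟙 T, ?_⟩⟩
    have h0 : x = 0 := injective_apF (Abelian.factorThruCoimage (sumMap hX f T)) U (hx.trans (map_zero _).symm)
    rw [h0, map_zero, map_zero]

end Family

/-- A covered module with generated relations is a directed union of coherent submodules. -/
theorem exists_mono_pres (hM : Good hX M) :
    ∃ (J : Type u) (_ : SmallCategory J) (_ : IsFiltered J) (pres : ColimitPresentation J M),
      (∀ j : J, FSch.IsCohF 𝔛 hX.1 (pres.diag.obj j)) ∧ ∀ j : J, Mono (pres.ι.app j) := by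
  classical
  obtain ⟨hR, hC⟩ := hM
  let ι := Σ W : (𝔛.X 0).Opens, SF 𝔛 hX.1 M W × W
  choose E hE f V hV hxV e he using fun i : ι => hC i.1 i.2.1 i.2.2.1 i.2.2.2
  obtain ⟨hc⟩ := nonempty_isColimit_sumCocone hX f fun U s x hx =>
    ⟨⟨U, s, ⟨x, hx⟩⟩, V ⟨U, s, ⟨x, hx⟩⟩, hV _, hxV _, e _, he _⟩
  haveI : Nonempty (Finset ι) := ⟨∅⟩
  exact ⟨Finset ι, inferInstance, inferInstance,
    { diag := sumDiag hX f, ι := (sumCocone hX f).ι, isColimit := hc },
    fun T => isCohF_cokernel_kernel hX (isCohF_coprod hX ↥T (fun i : ↥T => E i.1) fun i => hE i.1) hR _,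
    fun T => inferInstanceAs (Mono (Abelian.factorThruCoimage (sumMap hX f T)))⟩

/-- Small filtered colimits of coherent modules are the covered modules with generated relations. -/
theorem ind_iff_good :
    (ObjectProperty.ind.{u} fun 𝔊 : FSch.ModF 𝔛 hX.1 => FSch.IsCohF 𝔛 hX.1 𝔊) M ↔ Good hX M := by
  refine ⟨good_of_ind hX, fun h => ?_⟩
  obtain ⟨J, hJ, hJ', pres, hp, -⟩ := exists_mono_pres hX h
  exact ⟨J, hJ, hJ', pres, hp⟩

/-- Coproducts of covered modules with generated relations. -/
theorem good_sigma (α : Type u) (F : Discrete α ⥤ FSch.ModF 𝔛 hX.1) (hF : ∀ a, Good hX (F.obj a)) :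
    Good hX (colimit F) := by
  let L := CoproductsFromFiniteFiltered.liftToFinsetColimitCocone F
  refine Good.of_iso hX (good_colimit hX (colimit.isColimit (CoproductsFromFiniteFiltered.liftToFinsetObj F)) fun s => ?_)
    (L.isColimit.coconePointUniqueUpToIso (colimit.isColimit F))
  exact good_coprod hX _ _ fun a => hF a.1

/-- Colimits of covered modules with generated relations. -/
theorem good_colim {J : Type u} [SmallCategory J] {F : J ⥤ FSch.ModF 𝔛 hX.1} {c : Cocone F} (hc : IsColimit c)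
    (hF : ∀ j, Good hX (F.obj j)) : Good hX c.pt := by
  let G₁ := Discrete.functor fun p : (Σ p : J × J, p.1 ⟶ p.2) => F.obj p.1.1
  let G₂ := Discrete.functor F.obj
  have h₁ : Good hX (colimit G₁) := good_sigma hX _ G₁ fun a => hF _
  have h₂ : Good hX (colimit G₂) := good_sigma hX _ G₂ fun a => hF _
  let s : colimit G₁ ⟶ colimit G₂ := colimit.desc G₁ (Cofan.mk _ fun p => F.map p.2 ≫ colimit.ι G₂ ⟨p.1.2⟩)
  let t : colimit G₁ ⟶ colimit G₂ := colimit.desc G₁ (Cofan.mk _ fun p => colimit.ι G₂ ⟨p.1.1⟩)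
  have hq : Good hX (cokernel (s - t)) := good_cokernel hX h₁.2 h₂ (s - t)
  have hst : s ≫ cokernel.π (s - t) = t ≫ cokernel.π (s - t) := by
    rw [← sub_eq_zero, ← Preadditive.sub_comp, cokernel.condition]
  let d : Cocone F :=
    { pt := cokernel (s - t)
      ι := { app := fun j => colimit.ι G₂ ⟨j⟩ ≫ cokernel.π (s - t)
             naturality := fun j k a => by
              have h := congrArg (colimit.ι G₁ ⟨⟨(j, k), a⟩⟩ ≫ ·) hst
              simpa [s, t] using h } }
  have hw : (s - t) ≫ colimit.desc G₂ (Cofan.mk _ fun j => c.ι.app j) = 0 := by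
    rw [Preadditive.sub_comp, sub_eq_zero]
    refine colimit.hom_ext fun p => ?_
    simp [s, t]
  refine Good.of_iso hX hq
    { hom := cokernel.desc (s - t) (colimit.desc G₂ (Cofan.mk _ fun j => c.ι.app j)) hw
      inv := hc.desc d
      hom_inv_id := ?_, inv_hom_id := ?_ }
  · rw [← cancel_epi (cokernel.π (s - t))]
    refine colimit.hom_ext fun j => ?_
    simp [d]
  · refine hc.hom_ext fun j => ?_
    simp [d]

end Groth.L09.IndCoh
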