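import Groth.Agent.L17.FSheaf.CohCat
import Groth.Agent.L17.FSheaf.KernelFree

/-!
# Finite free modules on ringed spaces
-/

set_option autoImplicit false
set_option linter.style.haveILetI false
set_option linter.unusedSectionVars false
set_option backward.isDefEq.respectTransparency false
set_option backward.isDefEq.respectTransparency.types false

universe u

open CategoryTheory CategoryTheory.Limits AlgebraicGeometry TopologicalSpace Opposite

noncomputable section

namespace Groth.L09.IndCoh

open Groth.L17.FSheaf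

section Gen

variable {Y : TopCat.{u}} {R : Sheaf (Opens.grothendieckTopology Y) RingCat.{u}} {I : Type u}

/-- A global section from its value on the whole space. -/
def secTop (M : SheafOfModules.{u} R) (z : M.val.obj (op ⊤)) : M.sections :=
  PresheafOfModules.sectionsMk (fun W => res M (le_top : W.unop ≤ ⊤) z) fun W W' f =>
    (PresheafOfModules.map_comp_apply M.val (homOfLE (le_top : W.unop ≤ ⊤)).op f z).symm

/-- A morphism out of a free module from sections on the whole space. -/
def freeTop (M : SheafOfModules.{u} R) (s : I → M.val.obj (op ⊤)) : SheafOfModules.free (R := R) I ⟶ M :=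
  M.freeHomEquiv.symm fun i => secTop M (s i)

theorem freeTop_e₀ (M : SheafOfModules.{u} R) (s : I → M.val.obj (op ⊤)) (i : I) (W : Opens Y) :
    ((freeTop M s).val.app (op W)).hom (e₀ I i (op W)) = res M (le_top : W ≤ ⊤) (s i) := by
  have h1 : SheafOfModules.ιFree i ≫ freeTop M s = M.unitHomEquiv.symm (secTop M (s i)) := by
    rw [← SheafOfModules.unitHomEquiv_symm_freeHomEquiv_apply, freeTop, Equiv.apply_symm_apply]
  refine Eq.trans ?_ (congrFun (congrArg Subtype.val (M.unitHomEquiv.apply_symm_apply (secTop M (s i)))) (op W))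
  exact LinearMap.congr_fun (congrArg (fun t => ((t : SheafOfModules.unit R ⟶ M).val.app (op W)).hom) h1) (1 : R.obj.obj (op W))

variable [Fintype I]

theorem freeTop_comb (M : SheafOfModules.{u} R) (s : I → M.val.obj (op ⊤)) (W : Opens Y) (a : I → R.obj.obj (op W)) :
    ((freeTop M s).val.app (op W)).hom (∑ i, a i • e₀ I i (op W)) = ∑ i, a i • res M (le_top : W ≤ ⊤) (s i) := by
  rw [map_sum]
  exact Finset.sum_congr rfl fun i _ => (map_smul _ _ _).trans (congrArg (a i • ·) (freeTop_e₀ M s i W))

/-- The standard sections are independent. -/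
theorem coeff_eq_zero (W : (Opens Y)ᵒᵖ) (a : I → R.obj.obj W) (h : ∑ i, a i • e₀ (R := R) I i W = 0) (i : I) : a i = 0 := by
  classical
  let p : SheafOfModules.free (R := R) I ⟶ SheafOfModules.unit R :=
    Cofan.IsColimit.desc (SheafOfModules.isColimitFreeCofan I) fun j => if j = i then 𝟙 _ else 0
  have hp : ∀ j, (p.val.app W).hom (e₀ I j W) = if j = i then (1 : R.obj.obj W) else 0 := fun j => by
    have h1 : SheafOfModules.ιFree j ≫ p = if j = i then 𝟙 _ else 0 := Cofan.IsColimit.fac _ _ j
    refine (LinearMap.congr_fun (congrArg (fun t => ((t : SheafOfModules.unit R ⟶ _).val.app W).hom) h1) (1 : R.obj.obj W)).trans ?_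
    split_ifs <;> rfl
  have h2 := congrArg (p.val.app W).hom h
  rw [map_sum, map_zero] at h2
  refine Eq.trans ?_ h2
  rw [Finset.sum_eq_single i]
  · rw [map_smul, hp, if_pos rfl]
    exact (mul_one _).symm
  · intro j _ hj
    rw [map_smul, hp, if_neg hj]
    exact smul_zero _
  · exact fun h => absurd (Finset.mem_univ i) h

/-- Finite free modules are finitely presented. -/
theorem isFinitePresentation_free (n : ℕ) :
    (SheafOfModules.free (R := R) (ULift.{u} (Fin n))).IsFinitePresentation := by
  refine isFinitePresentation_of_locPres _ fun x => ⟨⊤, trivial, n, 0, fun i => e₀ _ ⟨i⟩ (op ⊤), Fin.elim0, ?_⟩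
  refine ⟨fun W hW y hy z => ⟨W, le_rfl, hy, ?_⟩, fun j => j.elim0, fun W hW c hc y hy => ⟨W, le_rfl, hy, Fin.elim0, fun i => ?_⟩⟩
  · obtain ⟨a, ha⟩ := exists_coeff₀ (op W) z
    refine ⟨fun i => a ⟨i⟩, ?_⟩
    rw [res_self, ha]
    refine Fintype.sum_equiv Equiv.ulift _ _ fun i => ?_
    exact congrArg (a i • ·) (e₀_map i (homOfLE (le_rfl.trans hW)).op).symm
  · have h0 := coeff_eq_zero (op W) (fun i : ULift.{u} (Fin n) => c i.down) (by
      refine Eq.trans (Fintype.sum_equiv Equiv.ulift _ _ fun i => ?_) hc
      exact congrArg (c i.down • ·) (e₀_map i (homOfLE hW).op).symm) ⟨i⟩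
    rw [rres_self, Finset.univ_eq_empty, Finset.sum_empty]
    exact h0

end Gen

end Groth.L09.IndCoh
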