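import Groth.Agent.L09.IndCoh.Strong

/-!
# Kernels and cokernels of modules with generated relations
-/

set_option autoImplicit false
set_option linter.style.haveILetI false
set_option linter.unusedSectionVars false
set_option backward.isDefEq.respectTransparency false
set_option backward.isDefEq.respectTransparency.types false

universe u

open CategoryTheory CategoryTheory.Limits AlgebraicGeometry TopologicalSpace Opposite

noncomputable section

namespace Groth.L09.IndCoh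

open Groth.L17.FSheaf

theorem exists_fin_span {A : Type*} [CommRing A] {P : Type*} [AddCommGroup P] [Module A P] {ι : Type*}
    {v : ι → P} {x : P} (hx : x ∈ Submodule.span A (Set.range v)) :
    ∃ (n : ℕ) (t : Fin n → ι) (a : Fin n → A), x = ∑ i, a i • v (t i) := by
  obtain ⟨n, a, g, h⟩ := Submodule.mem_span_set'.1 hx
  choose t ht using fun i => (g i).2
  exact ⟨n, t, a, by rw [← h]; exact Finset.sum_congr rfl fun i _ => by rw [ht i]⟩

variable {𝔛 : FSch.Sys.{u}}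

theorem lincomb_mem {h : 𝔛.IsFormal} {M : FSch.ModF 𝔛 h} {U V : (𝔛.X 0).Opens} {e : V ≤ U} {n : ℕ}
    {y : Fin n → SF 𝔛 h M U} {P : Type u} [AddCommGroup P] [Module (O 𝔛 h V) P] {w : Fin n → P}
    {S : Submodule (O 𝔛 h V) P} (hr : ∀ r : Fin n → O 𝔛 h U, ∑ i, r i • y i = 0 → ∑ i, resO 𝔛 h e (r i) • w i ∈ S)
    {a : Fin n → O 𝔛 h V} (ha : a ∈ resRels M e y) : ∑ i, a i • w i ∈ S := by
  have hle : resRels M e y ≤ S.comap (Fintype.linearCombination (O 𝔛 h V) w) := by
    refine Submodule.span_le.2 ?_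
    rintro _ ⟨r, hr0, rfl⟩
    exact hr r (mem_Rels.1 hr0)
  exact hle ha

variable (hX : 𝔛.IsLocNoethFormal)

/-- Kernels of maps to modules with generated relations are generated on affines where the source is. -/
theorem genOn_kernel {M N : FSch.ModF 𝔛 hX.1} {U : (𝔛.X 0).Opens} (hU : IsAffineOpen U) (hg : GenOn M U) (hN : QR N)
    (φ : M ⟶ N) : GenOn (kernel φ) U := fun W hW z p hp => by
  obtain ⟨V₀, hV₀, hpV₀, hmem⟩ := hg hW (apF (kernel.ι φ) W z) p hp
  obtain ⟨n, t, c, hc⟩ := exists_fin_span hmem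
  obtain ⟨V, hV, hpV, hcmem⟩ := relGen_affine hX hN hU (fun i => apF φ U (t i)) (hV₀.trans hW) c (by
    refine Eq.trans (Finset.sum_congr rfl fun i _ => ?_) (((map_sum (apF φ V₀) _ _).symm.trans
      ((congrArg (apF φ V₀) hc.symm).trans ((apF_rsF φ hV₀ _).trans
        ((congrArg (rsF N hV₀) (hom_comp_zero (kernel.condition φ) _ z)).trans (res_zero _ _))))))
    exact ((map_smul _ _ _).trans (congrArg (fun s => c i • s) (apF_rsF φ (hV₀.trans hW) (t i)))).symm) p hpV₀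
  refine ⟨V, hV.trans hV₀, hpV, ?_⟩
  have h1 := lincomb_mem (w := fun i => rsF M (hV.trans (hV₀.trans hW)) (t i))
    (S := (Submodule.span (O 𝔛 hX.1 V) (Set.range fun k : SF 𝔛 hX.1 (kernel φ) U =>
      rsF (kernel φ) (hV.trans (hV₀.trans hW)) k)).map (apF (kernel.ι φ) V)) (fun r hr => by
    obtain ⟨k, hk⟩ := (exists_kernel_sect φ (op U)).1 (∑ i, r i • t i) (by
      refine Eq.trans ((map_sum (apF φ U) _ _).trans (Finset.sum_congr rfl fun i _ => map_smul _ _ _)) hr)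
    refine ⟨_, Submodule.subset_span ⟨k, rfl⟩, (apF_rsF (kernel.ι φ) _ k).trans ((congrArg (rsF M _) hk).trans ?_)⟩
    refine (res_sum (R := ModSite.ringSh (𝔛.Osh hX.1)) M Finset.univ _ _).trans (Finset.sum_congr rfl fun i _ => ?_)
    exact res_smul (R := ModSite.ringSh (𝔛.Osh hX.1)) M _ (r i) (t i)) hcmem
  obtain ⟨k, hk, hke⟩ := h1
  rw [injective_apF (kernel.ι φ) V (((apF_rsF (kernel.ι φ) (hV.trans hV₀) z).trans
    ((rsF_rsF M hV₀ hV _).symm.trans ((congrArg (rsF M hV) hc).trans (rsF_comb M (hV₀.trans hW) hV c t)))).trans hke.symm)]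
  exact hk

/-- Kernels of maps from locally generated modules to modules with generated relations are locally generated. -/
theorem lGen_kernel {M N : FSch.ModF 𝔛 hX.1} (hM : LGen M) (hN : QR N) (φ : M ⟶ N) : LGen (kernel φ) := fun x => by
  obtain ⟨U, hU, hxU, hg⟩ := hM x
  exact ⟨U, hU, hxU, genOn_kernel hX hU hg hN φ⟩

/-- Quotients of locally generated modules are locally generated. -/
theorem lGen_of_epi {N Q : FSch.ModF 𝔛 hX.1} (hN : LGen N) (π : N ⟶ Q) [Epi π] : LGen Q := fun x => by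
  obtain ⟨U, hU, hxU, hg⟩ := hN x
  refine ⟨U, hU, hxU, fun W hW s p hp => ?_⟩
  obtain ⟨V₀, hV₀, hpV₀, a, ha⟩ := exists_lift π s p hp
  obtain ⟨V, hV, hpV, hmem⟩ := hg (hV₀.trans hW) a p hpV₀
  refine ⟨V, hV.trans hV₀, hpV, ?_⟩
  have h1 := Submodule.mem_map_of_mem (f := apF π V) hmem
  rw [apF_rsF π hV, show apF π V₀ a = rsF Q hV₀ s from ha, rsF_rsF, Submodule.map_span] at h1
  refine Submodule.span_mono ?_ h1
  rintro _ ⟨_, ⟨t, rfl⟩, rfl⟩
  exact ⟨apF π U t, (apF_rsF π _ t).symm⟩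

/-- Cokernels of maps from locally generated modules have generated relations. -/
theorem qr_cokernel {M N : FSch.ModF 𝔛 hX.1} (hM : LGen M) (hN : QR N) (φ : M ⟶ N) : QR (cokernel φ) := by
  intro U n y x hx
  let π := cokernel.π φ
  choose V hV hxV z hz using fun i => exists_lift π (y i) x hx
  obtain ⟨V', hxV', hV'⟩ : ∃ V' : (𝔛.X 0).Opens, x ∈ V' ∧ ∀ i, V' ≤ V i :=
    ⟨⟨⋂ i, (V i : Set (𝔛.X 0)), isOpen_iInter_of_finite fun i => (V i).2⟩, Set.mem_iInter.2 hxV,
      fun i => Set.iInter_subset (fun i => (V i : Set (𝔛.X 0))) i⟩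
  obtain ⟨U₁, hU₁, hxU₁, hle, hg⟩ := hM.nhd (show x ∈ V' ⊓ U from ⟨hxV', hx⟩)
  have hleV : ∀ i, U₁ ≤ V i := fun i => (hle.trans inf_le_left).trans (hV' i)
  refine ⟨U₁, hle.trans inf_le_right, hU₁, hxU₁, ?_⟩
  let z' : Fin n → SF 𝔛 hX.1 N U₁ := fun i => rsF N (hleV i) (z i)
  have hz' : ∀ i, apF π U₁ (z' i) = rsF (cokernel φ) (hle.trans inf_le_right) (y i) := fun i =>
    (apF_rsF π (hleV i) (z i)).trans ((congrArg (rsF (cokernel φ) (hleV i)) (hz i)).trans (rsF_rsF _ (hV i) _ _))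
  intro W hW c hc p hp
  obtain ⟨V₁, hV₁, hpV₁, a, ha⟩ := exists_preimage_of_coker φ (∑ i, c i • rsF N hW (z' i)) (by
    refine Eq.trans ((map_sum (apF π W) _ _).trans (Finset.sum_congr rfl fun i _ => ?_)) hc
    exact (map_smul _ _ _).trans (congrArg (fun s => c i • s) ((apF_rsF π hW (z' i)).trans (congrArg (rsF _ hW) (hz' i))))) p hp
  obtain ⟨V₂, hV₂, hpV₂, hmem⟩ := hg (hV₁.trans hW) a p hpV₁
  obtain ⟨m, t, d, hd⟩ := exists_fin_span hmem
  let w : Fin (n + m) → SF 𝔛 hX.1 N U₁ := Fin.append z' fun j => apF φ U₁ (t j)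
  let e : V₂ ≤ W := hV₂.trans hV₁
  let c₂ : Fin n → O 𝔛 hX.1 V₂ := fun i => resO 𝔛 hX.1 e (c i)
  have hrel : ∑ l, (Fin.append c₂ (fun j => - d j) : Fin (n + m) → O 𝔛 hX.1 V₂) l • rsF N (e.trans hW) (w l) = 0 := by
    rw [Fin.sum_univ_add]
    simp only [Fin.append_left, Fin.append_right, w, neg_smul, Finset.sum_neg_distrib]
    rw [← sub_eq_add_neg, sub_eq_zero]
    refine (rsF_comb N hW e c z').symm.trans ?_
    refine ((rsF_rsF N hV₁ hV₂ _).symm.trans ((congrArg (rsF N hV₂) ha.symm).trans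
      ((apF_rsF φ hV₂ a).symm.trans ((congrArg (apF φ V₂) hd).trans (map_sum _ _ _))))).trans ?_
    exact Finset.sum_congr rfl fun j _ => (map_smul _ _ _).trans (congrArg (fun s => d j • s) (apF_rsF φ _ (t j)))
  obtain ⟨V₃, hV₃, hpV₃, hmem₃⟩ := relGen_affine hX hN hU₁ w (e.trans hW) _ hrel p hpV₂
  refine ⟨V₃, hV₃.trans e, hpV₃, ?_⟩
  let pr : (Fin (n + m) → O 𝔛 hX.1 V₃) →ₗ[O 𝔛 hX.1 V₃] (Fin n → O 𝔛 hX.1 V₃) :=
    LinearMap.funLeft _ _ (Fin.castAdd m)
  have hle' : resRels N (hV₃.trans (e.trans hW)) w ≤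
      (resRels (cokernel φ) ((hV₃.trans e).trans hW)
        (fun i => rsF (cokernel φ) (hle.trans inf_le_right) (y i))).comap pr := by
    refine Submodule.span_le.2 ?_
    rintro _ ⟨r, hr, rfl⟩
    refine Submodule.subset_span ⟨fun i => r (Fin.castAdd m i), mem_Rels.2 ?_, rfl⟩
    have h0 := congrArg (apF π U₁) (mem_Rels.1 hr)
    rw [map_zero, map_sum, Fin.sum_univ_add] at h0
    simp only [map_smul, w, Fin.append_left, Fin.append_right] at h0
    refine Eq.trans ?_ h0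
    refine Eq.trans ?_ (congrArg₂ (· + ·) rfl (Finset.sum_eq_zero fun j _ => ?_).symm)
    · rw [add_zero]
      exact Finset.sum_congr rfl fun i _ => congrArg (fun s => r (Fin.castAdd m i) • s) (hz' i).symm
    · rw [show apF π U₁ (apF φ U₁ (t j)) = 0 from hom_comp_zero (cokernel.condition φ) _ (t j), smul_zero]
  have h3 := hle' hmem₃
  rw [Submodule.mem_comap] at h3
  convert h3 using 1
  funext i
  show _ = resO 𝔛 hX.1 hV₃ ((Fin.append c₂ (fun j => - d j) : Fin (n + m) → O 𝔛 hX.1 V₂) (Fin.castAdd m i))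
  rw [Fin.append_left]
  exact (resO_resO e hV₃ (c i)).symm

/-- Quotients by locally generated submodules have generated relations. -/
theorem qr_of_epi {N Q : FSch.ModF 𝔛 hX.1} (π : N ⟶ Q) [Epi π] (hK : LGen (kernel π)) (hN : QR N) : QR Q :=
  (qr_cokernel hX hK hN (kernel.ι π)).of_mono
    ((Abelian.epiIsCokernelOfKernel _ (kernelIsKernel π)).coconePointUniqueUpToIso (cokernelIsCokernel (kernel.ι π))).hom

/-- Kernels of maps from coherent modules to modules with generated relations are coherent. -/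
theorem isCohF_kernel_of_qr {H M : FSch.ModF 𝔛 hX.1} (hH : FSch.IsCohF 𝔛 hX.1 H) (hM : QR M) (θ : H ⟶ M) :
    FSch.IsCohF 𝔛 hX.1 (kernel θ) :=
  isCohF_of_mono hX hH (kernel.ι θ) (lGen_kernel hX (lGen_coh hX hH) hM θ)

/-- Images of coherent modules in modules with generated relations are coherent. -/
theorem isCohF_cokernel_kernel {H M : FSch.ModF 𝔛 hX.1} (hH : FSch.IsCohF 𝔛 hX.1 H) (hM : QR M) (θ : H ⟶ M) :
    FSch.IsCohF 𝔛 hX.1 (cokernel (kernel.ι θ)) :=
  isCohF_cokernel 𝔛 hX (isCohF_kernel_of_qr hX hH hM θ) hH (kernel.ι θ)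

/-- Quotients of coherent modules with generated relations are coherent. -/
theorem isCohF_of_epi {H Q : FSch.ModF 𝔛 hX.1} (hH : FSch.IsCohF 𝔛 hX.1 H) (hQ : QR Q) (π : H ⟶ Q) [Epi π] :
    FSch.IsCohF 𝔛 hX.1 Q := by
  let e : Q ≅ cokernel (kernel.ι π) := (Abelian.epiIsCokernelOfKernel _ (kernelIsKernel π)).coconePointUniqueUpToIso
      (colimit.isColimit _)
  exact ObjectProperty.prop_of_iso (P := SheafOfModules.isFinitePresentation.{u} (R := ModSite.ringSh (𝔛.Osh hX.1)))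
    e.symm (isCohF_cokernel_kernel hX hH hQ π)

end Groth.L09.IndCoh
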