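import Groth.Agent.L09.IndCoh.Cov
import Groth.Agent.L10.SheafModGroth

/-!
# Coherent modules form a small family
-/

set_option autoImplicit false
set_option linter.style.haveILetI false
set_option linter.unusedSectionVars false
set_option backward.isDefEq.respectTransparency false
set_option backward.isDefEq.respectTransparency.types false

universe u

open CategoryTheory CategoryTheory.Limits AlgebraicGeometry TopologicalSpace Opposite

noncomputable section

namespace Groth.L09.IndCoh

open Groth.L17.FSheaf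

section Gen

variable {C : Type u} [SmallCategory C] {J : GrothendieckTopology C} {R : Sheaf J RingCat.{u}}

variable (R) in
/-- The free sheaf of modules on an object. -/
def yMod (W : C) : SheafOfModules.{u} R :=
  (PresheafOfModules.sheafification (𝟙 R.obj)).obj (Groth.L10.fy R.obj W)

/-- Morphisms out of the free sheaf on an object are sections. -/
def yHom {W : C} {E : SheafOfModules.{u} R} (s : E.val.obj (op W)) : yMod R W ⟶ E :=
  ((PresheafOfModules.sheafificationAdjunction (𝟙 R.obj)).homEquiv _ E).symm (PresheafOfModules.freeYonedaEquiv.symm s)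

theorem yHom_comp {W : C} {E H : SheafOfModules.{u} R} (s : E.val.obj (op W)) (h : E ⟶ H) :
    yHom s ≫ h = yHom (h.val.app (op W) s) := by
  let adj := PresheafOfModules.sheafificationAdjunction (𝟙 R.obj)
  have h1 : adj.homEquiv (Groth.L10.fy R.obj W) H (yHom s ≫ h) = adj.homEquiv (Groth.L10.fy R.obj W) E (yHom s) ≫
      (SheafOfModules.forget R ⋙ PresheafOfModules.restrictScalars (𝟙 R.obj)).map h :=
    adj.homEquiv_naturality_right _ _
  refine (adj.homEquiv _ _).injective (h1.trans ?_)
  refine Eq.trans ?_ (Equiv.apply_symm_apply (adj.homEquiv (Groth.L10.fy R.obj W) H) _).symm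
  rw [show adj.homEquiv (Groth.L10.fy R.obj W) E (yHom s) = PresheafOfModules.freeYonedaEquiv.symm s from
    Equiv.apply_symm_apply _ _]
  refine PresheafOfModules.freeYonedaEquiv.injective ((PresheafOfModules.freeYonedaEquiv_comp _ _).trans ?_)
  refine (congrArg (h.val.app (op W)) (PresheafOfModules.freeYonedaEquiv.apply_symm_apply s)).trans ?_
  exact (PresheafOfModules.freeYonedaEquiv.apply_symm_apply _).symm

theorem yHom_inj {W : C} {E : SheafOfModules.{u} R} {s t : E.val.obj (op W)} (h : yHom (R := R) s = yHom t) : s = t :=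
  PresheafOfModules.freeYonedaEquiv.symm.injective
    (((PresheafOfModules.sheafificationAdjunction (𝟙 R.obj)).homEquiv _ E).symm.injective h)

end Gen

variable {𝔛 : FSch.Sys.{u}} (hX : 𝔛.IsLocNoethFormal)

/-- There is a set of coherent modules meeting every isomorphism class. -/
theorem exists_coh_family : ∃ (κ : Type u) (F : κ → FSch.ModF 𝔛 hX.1), (∀ k, FSch.IsCohF 𝔛 hX.1 (F k)) ∧
    ∀ E : FSch.ModF 𝔛 hX.1, FSch.IsCohF 𝔛 hX.1 E → ∃ k, Nonempty (E ≅ F k) := by
  classical
  let R := ModSite.ringSh (𝔛.Osh hX.1)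
  haveI : IsGrothendieckAbelian.{u} (FSch.ModF 𝔛 hX.1) := Groth.L10.shMod_isGrothendieckAbelian R
  let P : FSch.ModF 𝔛 hX.1 := ∐ fun p : (𝔛.X 0).Opens × ULift.{u} ℕ => yMod R p.1
  let S := {S : Subobject P // FSch.IsCohF 𝔛 hX.1 (cokernel S.arrow)}
  refine ⟨Shrink.{u} S, fun k => cokernel ((equivShrink S).symm k).1.arrow, fun k => ((equivShrink S).symm k).2, ?_⟩
  intro E hE
  have hsec : ∀ p : (𝔛.X 0).Opens × ULift.{u} ℕ, ∃ s : SF 𝔛 hX.1 E p.1, ∀ (hp : IsAffineOpen p.1),
      ∀ i : Fin (exists_gens hX hE hp).choose, i.1 = p.2.down → s = (exists_gens hX hE hp).choose_spec.choose i := by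
    intro p
    by_cases hp : IsAffineOpen p.1
    · by_cases hi : p.2.down < (exists_gens hX hE hp).choose
      · exact ⟨(exists_gens hX hE hp).choose_spec.choose ⟨p.2.down, hi⟩, fun _ i h => congrArg _ (Fin.ext h.symm)⟩
      · exact ⟨0, fun _ i h => absurd (h ▸ i.2) hi⟩
    · exact ⟨0, fun h => absurd h hp⟩
  choose s hs using hsec
  let q : P ⟶ E := Sigma.desc fun p => yHom (R := R) (s p)
  haveI : Epi q := Preadditive.epi_of_cancel_zero _ fun {H} h hh => by
    have h0 : ∀ p, apF h p.1 (s p) = 0 := fun p => yHom_inj (R := R) (by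
      refine (yHom_comp (R := R) (s p) h).symm.trans ?_
      rw [show yHom (R := R) (s p) = Sigma.ι _ p ≫ q from
        (Sigma.ι_desc (f := fun p : (𝔛.X 0).Opens × ULift.{u} ℕ => yMod R p.1) (fun p => yHom (R := R) (s p)) p).symm, Category.assoc, hh, comp_zero]
      refine ((yHom_comp (R := R) (s p) (0 : E ⟶ H)).symm.trans comp_zero).symm.trans ?_
      rfl)
    refine SheafOfModules.hom_ext (PresheafOfModules.hom_ext fun W => ModuleCat.hom_ext (LinearMap.ext fun z => ?_))
    obtain ⟨W, rfl⟩ : ∃ W', W = op W' := ⟨W.unop, rfl⟩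
    refine eq_of_locally (R := R) H _ _ fun x hx => ?_
    obtain ⟨U, hU, hxU, hle⟩ := Opens.isBasis_iff_nbhd.1 (𝔛.X 0).isBasis_affineOpens hx
    obtain ⟨c, hc⟩ := (exists_gens hX hE hU).choose_spec.choose_spec hU le_rfl (rsF E hle z)
    refine ⟨U, hle, hxU, ?_⟩
    show rsF H hle (apF h W z) = rsF H hle 0
    rw [← apF_rsF h hle, hc, map_sum]
    refine Eq.trans (Finset.sum_eq_zero fun i _ => ?_) (res_zero (R := R) H hle).symm
    refine ((apF h U).map_smul _ _).trans ?_
    rw [show apF h U (rsF E le_rfl ((exists_gens hX hE hU).choose_spec.choose i)) = 0 from ?_, smul_zero]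
    refine (congrArg (apF h U) (res_self (R := R) E _ _)).trans ?_
    rw [← hs (U, ⟨i.1⟩) hU i rfl]
    exact h0 (U, ⟨i.1⟩)
  let e : E ≅ cokernel (kernelSubobject q).arrow :=
    ((Abelian.epiIsCokernelOfKernel _ (kernelIsKernel q)).coconePointUniqueUpToIso (colimit.isColimit _)) ≪≫
      cokernel.mapIso _ _ (kernelSubobjectIso q).symm (Iso.refl P) (by simp)
  exact ⟨equivShrink S ⟨kernelSubobject q, isCohF_of_iso hX hE e⟩, ⟨e ≪≫ eqToIso (congrArg (fun T : S => cokernel T.1.arrow) ((equivShrink S).symm_apply_apply ⟨kernelSubobject q, isCohF_of_iso hX hE e⟩).symm)⟩⟩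

end Groth.L09.IndCoh
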