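import Groth.Agent.L15.LocPres.QcSpace
import Groth.Agent.L15.LocPres.HomColim
import Mathlib.AlgebraicGeometry.Noetherian
import Mathlib.AlgebraicGeometry.Morphisms.QuasiSeparated
import Groth.Agent.L00.ModSiteTensor
import Groth.Prelude.Def_FSch5

/-!
# Coherent modules are finitely presentable objects on a Noetherian formal scheme
-/

set_option autoImplicit false
set_option linter.style.haveILetI false
set_option linter.unusedSectionVars false
set_option backward.isDefEq.respectTransparency false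
set_option backward.isDefEq.respectTransparency.types false

universe u

open CategoryTheory CategoryTheory.Limits AlgebraicGeometry TopologicalSpace Opposite

noncomputable section

namespace Groth.L09.IndCoh

/-- Coverings of a quasi-compact quasi-separated scheme have finite refinements with quasi-compact overlaps. -/
theorem exists_finite_refinement_qcqs (X : Scheme.{u}) [CompactSpace X] [QuasiSeparatedSpace X] (ι : Type u)
    (V : ι → Opens X) (hV : iSup V = ⊤) :
    ∃ (J : Type u) (_ : Finite J) (U : J → Opens X), iSup U = ⊤ ∧ (∀ j, ∃ i, U j ≤ V i) ∧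
      ∀ j j', IsCompact ((U j ⊓ U j' : Opens X) : Set X) := by
  have h : ∀ x : X, ∃ U : X.Opens, IsAffineOpen U ∧ x ∈ U ∧ ∃ i, U ≤ V i := fun x => by
    obtain ⟨i, hi⟩ := Opens.mem_iSup.1 (show x ∈ iSup V by rw [hV]; trivial)
    obtain ⟨U, hU, hxU, hUV⟩ := exists_isAffineOpen_mem_and_subset hi
    exact ⟨U, hU, hxU, i, hUV⟩
  choose U hU hxU i hi using h
  obtain ⟨t, ht⟩ := (isCompact_univ (X := X)).elim_finite_subcover (fun x => (U x : Set X)) (fun x => (U x).2)
    fun x _ => Set.mem_iUnion.2 ⟨x, hxU x⟩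
  refine ⟨t, inferInstance, fun x => U x.1, top_le_iff.1 fun x _ => ?_, fun x => ⟨i x.1, hi x.1⟩, fun a b => ?_⟩
  · obtain ⟨y, hy, hxy⟩ := Set.mem_iUnion₂.1 (ht (Set.mem_univ x))
    exact Opens.mem_iSup.2 ⟨⟨y, hy⟩, hxy⟩
  · exact QuasiSeparatedSpace.inter_isCompact _ _ (U a.1).2 (hU a.1).isCompact (U b.1).2 (hU b.1).isCompact

variable {𝔛 : FSch.Sys.{u}} (hX : 𝔛.IsLocNoethFormal) [CompactSpace (𝔛.X 0)]

theorem isFinitelyPresentable_coh (F : FSch.ModF 𝔛 hX.1) (hF : FSch.IsCohF 𝔛 hX.1 F) :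
    IsFinitelyPresentable.{u} F := by
  haveI : IsLocallyNoetherian (𝔛.X 0) := hX.2.2 0
  haveI : QuasiSeparatedSpace (𝔛.X 0) := inferInstance
  rw [isFinitelyPresentable_iff_preservesFilteredColimitsOfSize]
  refine ⟨fun J _ _ => ⟨fun {D} => ?_⟩⟩
  haveI := Groth.L10.shMod_isGrothendieckAbelian (ModSite.ringSh (𝔛.Osh hX.1))
  haveI : SheafOfModules.IsFinitePresentation (R := ModSite.ringSh (𝔛.Osh hX.1)) F := hF
  haveI := Groth.L00.ModSiteTensor.hasSheafHom F
  obtain ⟨h⟩ := Groth.L15.LocPres.nonempty_isColimit_sheafHom F (colimit.isColimit D)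
  exact Groth.L15.LocPres.preservesColimit_coyoneda F (colimit.isColimit D)
    (Groth.L15.LocPres.gLift_space (X := (𝔛.X 0).toTopCat) (exists_finite_refinement_qcqs (𝔛.X 0)) h)
    (Groth.L15.LocPres.gZero_space (X := (𝔛.X 0).toTopCat) (exists_finite_refinement_qcqs (𝔛.X 0)) h)

end Groth.L09.IndCoh
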