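import Groth.Agent.L17.FSheaf.AlgzCompletion
import Groth.Agent.L17.FSheaf.CompBridge
import Groth.Agent.L17.FSheaf.CompPull
import Groth.Agent.L17.FSheaf.HomEquiv
import Groth.Agent.L17.ProperOver
import Groth.Agent.S0798

/-!
# Completion is fully faithful on coherent modules over a proper scheme
-/

set_option autoImplicit false
set_option linter.style.haveILetI false
set_option linter.unusedSectionVars false
set_option backward.isDefEq.respectTransparency false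
set_option backward.isDefEq.respectTransparency.types false
set_option maxHeartbeats 400000

universe u

open CategoryTheory CategoryTheory.Limits AlgebraicGeometry TopologicalSpace Opposite

noncomputable section

namespace Groth.L09.IndCoh

open Groth.L17.FSheaf
open Groth.L18.Frame (rs pull rs_rs rs_self)
open Groth.L17.BC.PullSec (app_rs map_pull)
open Groth.L16.AffineBC (pullRes isBaseChange_pull scal)
open Formal (modPow modPowπ smulFamily smulMod)

variable {A : Type u} [CommRing A] [IsNoetherianRing A] (J : Ideal A) {X : Scheme.{u}}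
  [X.Over (Spec (CommRingCat.of A))] [AlgebraicGeometry.IsNoetherian X]
  (𝔛 : FSch.Sys.{u}) (p : ∀ k, 𝔛.X k ⟶ X) (hp : ∀ k, 𝔛.ι k ≫ p (k + 1) = p k)

/-- The unit to the levels. -/
abbrev lvUnit (F : X.Modules) (k : ℕ) : F ⟶ gObj 𝔛 p (pullSys 𝔛 p hp F) k :=
  (Scheme.Modules.pullbackPushforwardAdjunction (p k)).unit.app F

theorem lvUnit_gTr (F : X.Modules) (k : ℕ) :
    lvUnit 𝔛 p hp F (k + 1) ≫ gTr 𝔛 p hp (pullSys 𝔛 p hp F) k = lvUnit 𝔛 p hp F k := by
  refine Groth.L16.AffineBC.hom_ext_affine _ _ fun W _ m => ?_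
  show (show Γ((pullSys 𝔛 p hp F).F k, p k ⁻¹ᵁ W) from (gTr 𝔛 p hp (pullSys 𝔛 p hp F) k).app W
    (pull (p (k + 1)) F W m)) = pull (p k) F W m
  rw [gTr_app]
  have he := pullTrans_app (𝔛.ι k) (p (k + 1)) (hp k) F W m (U := p (k + 1) ⁻¹ᵁ W) (V := p k ⁻¹ᵁ W)
    le_rfl (gle 𝔛 p k W (hp k)) le_rfl
  rw [rs_self _ (le_refl _), rs_self _ (le_refl _)] at he
  exact he

theorem gTr_natural {𝔐 𝔑 : FSch.ModSys 𝔛} (ψ : 𝔐 ⟶ 𝔑) (k : ℕ) :
    gTr 𝔛 p hp 𝔐 k ≫ (Scheme.Modules.pushforward (p k)).map (ψ.app k) =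
      (Scheme.Modules.pushforward (p (k + 1))).map (ψ.app (k + 1)) ≫ gTr 𝔛 p hp 𝔑 k := by
  rw [gTr, gTr, ← Functor.map_comp_assoc, ← FSch.ModSys.Hom.toPush_comm ψ k, Functor.map_comp]
  simp only [Category.assoc]
  refine congrArg ((Scheme.Modules.pushforward (p (k + 1))).map (𝔐.toPush k) ≫ ·) ?_
  rw [← NatTrans.naturality, ← NatTrans.naturality_assoc]
  rfl

variable {𝔛 p} (hcl : ∀ k, IsClosedImmersion (p k)) (hcut : CutOver J 𝔛 p)
include hcl hcut

theorem smul_lvUnit (F : X.Modules) (k : ℕ) : smulFamily (J ^ (k + 1)) F ≫ lvUnit 𝔛 p hp F k = 0 := by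
  apply Sigma.hom_ext
  intro a
  rw [Limits.comp_zero, Formal.smulFamily, Sigma.ι_desc_assoc, Groth.L16.Rees.smulMod_naturality,
    smulMod_gObj (pullSys 𝔛 p hp F) hcl hcut k a.2, Limits.comp_zero]

/-- The reductions are the direct images of the levels. -/
abbrev nu (F : X.Modules) (k : ℕ) : modPow J (k + 1) F ⟶ gObj 𝔛 p (pullSys 𝔛 p hp F) k :=
  cokernel.desc _ (lvUnit 𝔛 p hp F k) (smul_lvUnit J hp hcl hcut F k)

theorem π_nu (F : X.Modules) (k : ℕ) : modPowπ J (k + 1) F ≫ nu J hp hcl hcut F k = lvUnit 𝔛 p hp F k :=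
  cokernel.π_desc _ _ _

theorem isIso_nu {F : X.Modules} (hF : Coh.IsCoh F) (k : ℕ) : IsIso (nu J hp hcl hcut F k) := by
  haveI : Coh.IsQCoh F := hF.1
  haveI := hcl k
  refine Groth.L17.BC.Classes.isIso_of_affine _ fun x => ⟨⊤, trivial, fun W _ hW => ?_⟩
  obtain ⟨hs, hk⟩ := (Groth.L16.Exist.modPow_spec J hF (k + 1)).2 W hW
  let U := p k ⁻¹ᵁ W
  let e : U ≤ p k ⁻¹ᵁ W := le_rfl
  let P := (Scheme.Modules.pullback (p k)).obj F
  letI : Algebra Γ(X, W) Γ(𝔛.X k, U) := ((p k).appLE W U e).hom.toAlgebra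
  letI := Module.compHom Γ(P, U) ((p k).appLE W U e).hom
  haveI : IsScalarTower Γ(X, W) Γ(𝔛.X k, U) Γ(P, U) := IsScalarTower.of_algebraMap_smul fun _ _ => rfl
  obtain ⟨hs', hk'⟩ := surjective_of_baseChange _ (isBaseChange_pull (p k) F hW (hW.preimage _) e)
    (appLE_surjective_of_eq (p k) rfl (hcut k W hW).1)
  rw [show RingHom.ker (algebraMap Γ(X, W) Γ(𝔛.X k, U)) = J.map (scal A X W) ^ (k + 1) from
    (ker_appLE (p k) rfl).trans (hcut k W hW).2] at hk'
  have key : ∀ m, (nu J hp hcl hcut F k).app W ((modPowπ J (k + 1) F).app W m) = pullRes (p k) F e m := fun m => by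
    refine (ConcreteCategory.congr_hom (congrArg (fun t => Scheme.Modules.Hom.app t W)
      (π_nu J hp hcl hcut F k)) m).trans ?_
    exact (rs_self _ _ (pull (p k) F W m)).symm
  refine ⟨fun b c hbc => ?_, fun z => ?_⟩
  · obtain ⟨u, rfl⟩ := hs b
    obtain ⟨v, rfl⟩ := hs c
    rw [key, key] at hbc
    have h2 : u - v ∈ J.map (scal A X W) ^ (k + 1) • (⊤ : Submodule Γ(X, W) Γ(F, W)) := by
      rw [← hk']
      exact LinearMap.mem_ker.2 ((map_sub (pullRes (p k) F e) u v).trans (sub_eq_zero.2 hbc))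
    exact sub_eq_zero.1 ((map_sub ((modPowπ J (k + 1) F).app W).hom u v).symm.trans ((hk _).2 h2))
  · obtain ⟨m, rfl⟩ := hs' z
    exact ⟨(modPowπ J (k + 1) F).app W m, key m⟩

variable [IsAdicComplete J A] [IsProper (X ↘ Spec (CommRingCat.of A))]

/-- Maps of coherent modules are the compatible maps of the levels. -/
theorem pullSysMap_bijective {G H : X.Modules} (hG : Coh.IsCoh G) (hH : Coh.IsCoh H) :
    Function.Bijective (fun φ : G ⟶ H => pullSysMap 𝔛 p hp φ) := by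
  haveI := fun k => isIso_nu J hp hcl hcut hH k
  have hsupp : ∀ {M : X.Modules}, Coh.IsCoh M →
      ClSub.IsProperOver (X ↘ Spec (CommRingCat.of A)) (CohB1.support M) := fun {M} hM => by
    haveI : IsProper (𝟙 X ≫ (X ↘ Spec (CommRingCat.of A))) := by rw [Category.id_comp]; infer_instance
    exact Groth.L17.ProperOver.isProperOver_mono (Groth.L17.ProperOver.isProperOver_range _ (𝟙 X))
      (Groth.L16.CohSupport.isClosed_support _ hM.2) fun x _ => ⟨x, rfl⟩
  let ψ' : (pullSys 𝔛 p hp G ⟶ pullSys 𝔛 p hp H) → ∀ k, modPow J (k + 1) G ⟶ modPow J (k + 1) H := fun ψ k =>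
    nu J hp hcl hcut G k ≫ (Scheme.Modules.pushforward (p k)).map (ψ.app k) ≫ inv (nu J hp hcl hcut H k)
  have htr : ∀ (F : X.Modules) (k : ℕ), Formal.modPowTrans J (k + 1) F ≫ nu J hp hcl hcut F k =
      nu J hp hcl hcut F (k + 1) ≫ gTr 𝔛 p hp (pullSys 𝔛 p hp F) k := fun F k => by
    refine (cancel_epi (cokernel.π (smulFamily (J ^ (k + 1 + 1)) F))).1 ?_
    show modPowπ J (k + 1 + 1) F ≫ _ = modPowπ J (k + 1 + 1) F ≫ _
    rw [← Category.assoc, Formal.modPowπ_trans, π_nu, ← Category.assoc, π_nu, lvUnit_gTr]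
  have hψ : ∀ ψ k, Formal.modPowTrans J (k + 1) G ≫ ψ' ψ k = ψ' ψ (k + 1) ≫ Formal.modPowTrans J (k + 1) H := by
    intro ψ k
    refine (cancel_mono (nu J hp hcl hcut H k)).1 ?_
    simp only [ψ', Category.assoc, IsIso.inv_hom_id, Category.comp_id, htr H k, IsIso.inv_hom_id_assoc]
    rw [← Category.assoc, htr G k, Category.assoc, gTr_natural 𝔛 p hp ψ k]
  let Ψ : (pullSys 𝔛 p hp G ⟶ pullSys 𝔛 p hp H) → (Formal.completion J G ⟶ Formal.completion J H) := fun ψ =>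
    NatTrans.ofOpSequence (F := Formal.completion J G) (G := Formal.completion J H) (fun k => ψ' ψ k) fun k => by
      rw [show (Formal.completion J G).map (homOfLE (Nat.le_add_right k 1)).op = Formal.modPowTrans J (k + 1) G
          from Functor.ofOpSequence_map_homOfLE_succ _ k,
        show (Formal.completion J H).map (homOfLE (Nat.le_add_right k 1)).op = Formal.modPowTrans J (k + 1) H
          from Functor.ofOpSequence_map_homOfLE_succ _ k]
      exact hψ ψ k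
  have hΨ : ∀ (ψ : pullSys 𝔛 p hp G ⟶ pullSys 𝔛 p hp H) (φ : G ⟶ H),
      pullSysMap 𝔛 p hp φ = ψ ↔ ∀ n, modPowπ J (n + 1) G ≫ (Ψ ψ).app (op n) = φ ≫ modPowπ J (n + 1) H := by
    intro ψ φ
    have h1 : ∀ n, modPowπ J (n + 1) G ≫ ψ' ψ n =
        (lvUnit 𝔛 p hp G n ≫ (Scheme.Modules.pushforward (p n)).map (ψ.app n)) ≫ inv (nu J hp hcl hcut H n) :=
      fun n => by simp only [ψ', ← π_nu J hp hcl hcut G n, Category.assoc]
    have h2 : ∀ n, φ ≫ modPowπ J (n + 1) H = (lvUnit 𝔛 p hp G n ≫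
        (Scheme.Modules.pushforward (p n)).map ((Scheme.Modules.pullback (p n)).map φ)) ≫
          inv (nu J hp hcl hcut H n) := fun n => by
      rw [IsIso.eq_comp_inv, Category.assoc, π_nu]
      exact (Scheme.Modules.pullbackPushforwardAdjunction (p n)).unit.naturality φ
    constructor
    · rintro rfl n
      exact (h1 n).trans (h2 n).symm
    · intro h
      refine FSch.ModSys.Hom.ext (funext fun n => ?_)
      have h3 := ((h1 n).symm.trans (h n)).trans (h2 n)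
      rw [cancel_mono] at h3
      exact ((Scheme.Modules.pullbackPushforwardAdjunction (p n)).homEquiv _ _).injective
        ((Adjunction.homEquiv_unit _ _ _ _).trans (h3.symm.trans (Adjunction.homEquiv_unit _ _ _ _).symm))
  constructor
  · intro φ φ' he
    exact (Groth.Agent.S0798.result A J X G H hG hH (hsupp hG) (hsupp hH) (Ψ (pullSysMap 𝔛 p hp φ))).unique
      ((hΨ _ φ).1 rfl) ((hΨ _ φ').1 he.symm)
  · intro ψ
    obtain ⟨φ, hφ, -⟩ := Groth.Agent.S0798.result A J X G H hG hH (hsupp hG) (hsupp hH) (Ψ ψ)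
    exact ⟨φ, (hΨ ψ φ).2 hφ⟩

omit [AlgebraicGeometry.IsNoetherian X] in
theorem kap_map_proj (hX : 𝔛.IsLocNoethFormal) {G H : X.Modules} (φ : G ⟶ H)
    (eG : (kap 𝔛 hX.1 p hp).pull.obj G ≅ (pullSys 𝔛 p hp G).realMod hX.1)
    (eH : (kap 𝔛 hX.1 p hp).pull.obj H ≅ (pullSys 𝔛 p hp H).realMod hX.1)
    (hG' : ∀ k, ((kap 𝔛 hX.1 p hp).adj.homEquiv _ _ eG.hom) ≫
          (kap 𝔛 hX.1 p hp).push.map (FSch.realProj 𝔛 hX.1 (pullSys 𝔛 p hp G).F (pullSys 𝔛 p hp G).toPush k) =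
        (Scheme.Modules.pullbackPushforwardAdjunction (p k)).unit.app G ≫
          (FSch.schPushCompare 𝔛 hX.1 p hp k).app ((Scheme.Modules.pullback (p k)).obj G))
    (hH' : ∀ k, ((kap 𝔛 hX.1 p hp).adj.homEquiv _ _ eH.hom) ≫
          (kap 𝔛 hX.1 p hp).push.map (FSch.realProj 𝔛 hX.1 (pullSys 𝔛 p hp H).F (pullSys 𝔛 p hp H).toPush k) =
        (Scheme.Modules.pullbackPushforwardAdjunction (p k)).unit.app H ≫
          (FSch.schPushCompare 𝔛 hX.1 p hp k).app ((Scheme.Modules.pullback (p k)).obj H)) :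
    (kap 𝔛 hX.1 p hp).pull.map φ ≫ eH.hom = eG.hom ≫ FSch.ModSys.realModMap hX.1 (pullSysMap 𝔛 p hp φ) := by
  refine limit.hom_ext fun j => ?_
  obtain ⟨k⟩ := j
  show (_ ≫ eH.hom) ≫ FSch.realProj 𝔛 hX.1 (pullSys 𝔛 p hp H).F (pullSys 𝔛 p hp H).toPush k =
    (eG.hom ≫ _) ≫ FSch.realProj 𝔛 hX.1 (pullSys 𝔛 p hp H).F (pullSys 𝔛 p hp H).toPush k
  refine ((kap 𝔛 hX.1 p hp).adj.homEquiv _ _).injective ?_
  rw [Category.assoc, Category.assoc, Adjunction.homEquiv_naturality_left, Adjunction.homEquiv_naturality_right,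
    hH' k]
  rw [show FSch.ModSys.realModMap hX.1 (pullSysMap 𝔛 p hp φ) ≫
      FSch.realProj 𝔛 hX.1 (pullSys 𝔛 p hp H).F (pullSys 𝔛 p hp H).toPush k =
      FSch.realProj 𝔛 hX.1 (pullSys 𝔛 p hp G).F (pullSys 𝔛 p hp G).toPush k ≫
        (FSch.levelMor 𝔛 hX.1 k).push.map ((Scheme.Modules.pullback (p k)).map φ) from
    FSch.realLimMap_realProj 𝔛 hX.1 _ (FSch.ModSys.Hom.toPush_comm _) k,
    Adjunction.homEquiv_naturality_right, Functor.map_comp, reassoc_of% (hG' k)]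
  rw [show (kap 𝔛 hX.1 p hp).push.map ((FSch.levelMor 𝔛 hX.1 k).push.map ((Scheme.Modules.pullback (p k)).map φ)) =
      ((FSch.levelMor 𝔛 hX.1 k).push ⋙ (kap 𝔛 hX.1 p hp).push).map ((Scheme.Modules.pullback (p k)).map φ) from rfl,
    ← NatTrans.naturality]
  exact ((Scheme.Modules.pullbackPushforwardAdjunction (p k)).unit.naturality_assoc φ _)

/-- Completion is fully faithful on coherent modules over a proper scheme. -/
theorem kap_bijective (hX : 𝔛.IsLocNoethFormal) {G H : X.Modules} (hG : Coh.IsCoh G) (hH : Coh.IsCoh H) :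
    Function.Bijective (fun φ : G ⟶ H => (kap 𝔛 hX.1 p hp).pull.map φ) := by
  haveI := hX.2.2
  obtain ⟨eG, hG'⟩ := exists_pull_iso_pullSys 𝔛 p hp G hX hG
  obtain ⟨eH, hH'⟩ := exists_pull_iso_pullSys 𝔛 p hp H hX hH
  have hb := realModMap_bijective 𝔛 hX (𝔐 := pullSys 𝔛 p hp G) (𝔑 := pullSys 𝔛 p hp H)
    (isCoh_pullSys 𝔛 p hp G hG) (isCoh_pullSys 𝔛 p hp H hH)
  have hc := fun φ : G ⟶ H => kap_map_proj J hp hcl hcut hX φ eG eH hG' hH'
  constructor
  · intro φ φ' he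
    refine (pullSysMap_bijective J hp hcl hcut hG hH).1 (hb.1 ((cancel_epi eG.hom).1 ?_))
    rw [← hc, ← hc]
    exact congrArg (· ≫ eH.hom) he
  · intro Θ
    obtain ⟨ψ, hψ⟩ := hb.2 (eG.inv ≫ Θ ≫ eH.hom)
    obtain ⟨φ, rfl⟩ := (pullSysMap_bijective J hp hcl hcut hG hH).2 ψ
    refine ⟨φ, (cancel_mono eH.hom).1 ((hc φ).trans ?_)⟩
    rw [show FSch.ModSys.realModMap hX.1 (pullSysMap 𝔛 p hp φ) = eG.inv ≫ Θ ≫ eH.hom from hψ,
      Iso.hom_inv_id_assoc]

end Groth.L09.IndCoh
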