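import Groth.Agent.L09.IndCoh.ComplFF
import Groth.Agent.L09.IndCoh.Compact
import Groth.Agent.L09.IndLan.FullFaith
import Groth.Agent.L19.FPExtend.Colim
import Groth.Agent.L18.TildeFunctor
import Groth.Agent.S3854
import Groth.Agent.L15.Ref.FreeLocus

/-!
# Quasi-coherent modules and ind-coherent modules on the completion of a proper scheme
-/

set_option autoImplicit false
set_option linter.style.haveILetI false
set_option linter.unusedSectionVars false
set_option backward.isDefEq.respectTransparency false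
set_option backward.isDefEq.respectTransparency.types false

universe u

open CategoryTheory CategoryTheory.Limits AlgebraicGeometry TopologicalSpace Opposite

noncomputable section

namespace Groth.L09.IndCoh

open Groth.L17.FSheaf

/-- Coherent modules on a Noetherian scheme are finitely presentable. -/
theorem isFinitelyPresentable_isCoh (X : Scheme.{u}) [AlgebraicGeometry.IsNoetherian X] (F : X.Modules)
    (hF : Coh.IsCoh F) : IsFinitelyPresentable.{u} (F : ModSite.Mod X.sheaf) := by
  rw [isFinitelyPresentable_iff_preservesFilteredColimitsOfSize]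
  refine ⟨fun J _ _ => ⟨fun {D} => ?_⟩⟩
  let F' : ModSite.Mod X.sheaf := F
  haveI := Groth.L10.shMod_isGrothendieckAbelian (ModSite.ringSh X.sheaf)
  haveI : SheafOfModules.IsFinitePresentation (R := ModSite.ringSh X.sheaf) F' := Groth.L15.Ref.isFP_of_isCoh hF
  haveI := Groth.L00.ModSiteTensor.hasSheafHom F'
  obtain ⟨h⟩ := Groth.L15.LocPres.nonempty_isColimit_sheafHom F' (colimit.isColimit D)
  exact Groth.L15.LocPres.preservesColimit_coyoneda F' (colimit.isColimit D)
    (Groth.L15.LocPres.gLift_space (exists_finite_refinement_qcqs X) h)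
    (Groth.L15.LocPres.gZero_space (exists_finite_refinement_qcqs X) h)

/-- The coherent modules of a scheme. -/
abbrev cohP (X : Scheme.{u}) : ObjectProperty (ModSite.Mod X.sheaf) := fun M => Coh.IsCoh (X := X) M

/-- Quasi-coherence is stable under small colimits. -/
theorem isQCoh_of_colimit {X : Scheme.{u}} {J : Type u} [SmallCategory J] (F : J ⥤ X.Modules) (c : Cocone F) (hc : IsColimit c)
    (hF : ∀ j, Coh.IsQCoh (F.obj j)) : Coh.IsQCoh c.pt := by
  refine Groth.L00.Local.isQCoh_of_tilde_charts _ fun x => ?_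
  obtain ⟨_, ⟨(V : X.Opens), hV, rfl⟩, hxV, -⟩ := X.isBasis_affineOpens.exists_subset_of_mem_open (Set.mem_univ x) isOpen_univ
  let r := Scheme.Modules.restrictFunctor hV.fromSpec
  haveI : PreservesColimitsOfSize.{u, u} r :=
    (Scheme.Modules.restrictAdjunction hV.fromSpec).leftAdjoint_preservesColimits
  haveI hq : ∀ j, Coh.IsQCoh ((F ⋙ r).obj j) := fun j => by
    haveI := hF j
    exact Scheme.Modules.isQuasicoherent_restrictFunctor _ _
  haveI : ((r.mapCocone c).pt).IsQuasicoherent :=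
    Groth.L18.TildeF.isQCoh_of_iso ((colimit.isColimit (F ⋙ r)).coconePointUniqueUpToIso (isColimitOfPreserves r hc))
      (Groth.L18.TildeF.isQCoh_colimit (F ⋙ r) hq)
  exact ⟨_, hV.fromSpec, inferInstance, _, hV.opensRange_fromSpec.ge hxV,
    ⟨(Groth.L18.TildeF.counitIso (r.mapCocone c).pt).symm⟩⟩

theorem qcoh_iff_ind (X : Scheme.{u}) [AlgebraicGeometry.IsNoetherian X] (G : X.Modules) :
    SheafOfModules.IsQuasicoherent.{u} G ↔ ObjectProperty.ind.{u} (cohP X) G := by
  constructor
  · intro hG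
    haveI : Coh.IsQCoh G := hG
    obtain ⟨I, _, hI, D, c, hc, hfp, hpt⟩ := Groth.L19.FPExtend.exists_isColimit_fp G
    obtain ⟨pt, ι⟩ := c
    cases hpt
    refine ⟨I, inferInstance, hI, ⟨D, ι, hc⟩, fun i => ?_⟩
    haveI : SheafOfModules.IsFinitePresentation (R := X.ringCatSheaf) (D.obj i) := hfp i
    exact ⟨inferInstance, inferInstance⟩
  · rintro ⟨J, _, _, pres, hp⟩
    exact isQCoh_of_colimit (X := X) pres.diag pres.cocone pres.isColimit fun j => (hp j).1

variable {A : Type u} [CommRing A] [IsNoetherianRing A] (I : Ideal A) [IsAdicComplete I A]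
  {X : Scheme.{u}} (f : X ⟶ Spec (CommRingCat.of A)) [IsProper f]
  (𝓘 : X.IdealSheafData) (h𝓘 : 𝓘 = (FSch.idealSpec A I).comap f)
  (hX : (FSch.completionAlong X 𝓘).IsFormal)
include h𝓘

/-- The completion functor: bijective on maps of quasi-coherent modules; its image. -/
theorem completion_indCoh :
    (∀ G H : X.Modules, SheafOfModules.IsQuasicoherent.{u} G → SheafOfModules.IsQuasicoherent.{u} H →
      Function.Bijective (fun φ : G ⟶ H => (FSch.toSchemeMor (FSch.completionAlong X 𝓘) hX (FSch.completionToX X 𝓘)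
        (FSch.completionToX_comm X 𝓘)).pull.map φ)) ∧
    ∀ 𝔉 : FSch.ModF (FSch.completionAlong X 𝓘) hX,
      (ObjectProperty.ind.{u} fun 𝔊 : FSch.ModF (FSch.completionAlong X 𝓘) hX =>
        FSch.IsCohF (FSch.completionAlong X 𝓘) hX 𝔊) 𝔉 ↔
      ∃ G : X.Modules, SheafOfModules.IsQuasicoherent.{u} G ∧ Nonempty ((FSch.toSchemeMor (FSch.completionAlong X 𝓘) hX
        (FSch.completionToX X 𝓘) (FSch.completionToX_comm X 𝓘)).pull.obj G ≅ 𝔉) := by
  letI : X.Over (Spec (CommRingCat.of A)) := ⟨f⟩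
  haveI : IsProper (X ↘ Spec (CommRingCat.of A)) := ‹IsProper f›
  haveI : IsLocallyNoetherian X := LocallyOfFiniteType.isLocallyNoetherian f
  haveI : CompactSpace X := QuasiCompact.compactSpace_of_compactSpace f
  haveI : AlgebraicGeometry.IsNoetherian X := ⟨⟩
  let p := FSch.completionToX X 𝓘
  let hp := FSch.completionToX_comm X 𝓘
  have hN : (FSch.completionAlong X 𝓘).IsLocNoethFormal := Groth.Agent.S3854.result X 𝓘
  have hcl := isClosedImmersion_completionToX 𝓘
  have hcut := cutOver_completion I f 𝓘 h𝓘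
  haveI := hcl 0
  haveI : CompactSpace ((FSch.completionAlong X 𝓘).X 0) := QuasiCompact.compactSpace_of_compactSpace (p 0)
  let κ := kap (FSch.completionAlong X 𝓘) hX p hp
  haveI : κ.pull.IsLeftAdjoint := κ.adj.isLeftAdjoint
  haveI : PreservesColimitsOfSize.{u, u} κ.pull := κ.adj.leftAdjoint_preservesColimits
  haveI := Groth.L10.shMod_isGrothendieckAbelian (ModSite.ringSh X.sheaf)
  have hP : ∀ c, cohP X c → IsFinitelyPresentable.{u} c := fun c hc => isFinitelyPresentable_isCoh X c hc
  have hFP : ∀ c, cohP X c → IsFinitelyPresentable.{u} (κ.pull.obj c) := fun c hc =>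
    isFinitelyPresentable_coh hN _ (isCohF_pull _ p hp c hN hc)
  have hff : ∀ c c', cohP X c → cohP X c' → Function.Bijective (fun φ : c ⟶ c' => κ.pull.map φ) :=
    fun c c' hc hc' => kap_bijective I hp hcl hcut hN hc hc'
  refine ⟨fun G H hG hH => Groth.L09.IndLan.bijective_ind κ.pull hP hFP hff
    ((qcoh_iff_ind X G).1 hG) ((qcoh_iff_ind X H).1 hH), fun 𝔉 => ⟨fun h𝔉 => ?_, ?_⟩⟩
  · have hQ : ∀ d, FSch.IsCohF (FSch.completionAlong X 𝓘) hX d → ∃ c, cohP X c ∧ Nonempty (κ.pull.obj c ≅ d) := by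
      intro d hd
      haveI : IsProper (𝟙 X ≫ f) := by rw [Category.id_comp]; infer_instance
      obtain ⟨G, hG, -, ⟨e⟩⟩ := exists_algebraization I f (FSch.completionAlong X 𝓘) hN p hp hcl hcut d hd
        ⟨Set.univ, by simpa using Groth.L17.ProperOver.isProperOver_range f (𝟙 X), fun x hx => absurd trivial hx⟩
      obtain ⟨e', -⟩ := exists_pull_iso_pullSys (FSch.completionAlong X 𝓘) p hp G hN hG
      exact ⟨G, hG, ⟨e' ≪≫ e.symm⟩⟩
    obtain ⟨G, hG, he⟩ := Groth.L09.IndLan.exists_of_ind_map κ.pull hP hFP hff hQ h𝔉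
    exact ⟨G, (qcoh_iff_ind X G).2 hG, he⟩
  · rintro ⟨G, hG, ⟨e⟩⟩
    obtain ⟨J, _, hJ, pres, hp'⟩ := (qcoh_iff_ind X G).1 hG
    exact ⟨J, inferInstance, hJ, (pres.map κ.pull).ofIso e, fun j => isCohF_pull _ p hp _ hN (hp' j)⟩

end Groth.L09.IndCoh
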