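import Groth.Agent.L09.IndCoh.CohSmall
import Groth.Agent.L09.IndCoh.IndPres
import Mathlib.CategoryTheory.Adjunction.Comma

/-!
# The coreflection onto small filtered colimits of coherent modules
-/

set_option autoImplicit false
set_option linter.style.haveILetI false
set_option linter.unusedSectionVars false
set_option backward.isDefEq.respectTransparency false
set_option backward.isDefEq.respectTransparency.types false

universe u

open CategoryTheory CategoryTheory.Limits AlgebraicGeometry TopologicalSpace Opposite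

noncomputable section

namespace Groth.L09.IndCoh

open Groth.L17.FSheaf

variable {𝔛 : FSch.Sys.{u}} (hX : 𝔛.IsLocNoethFormal) (N : FSch.ModF 𝔛 hX.1)

/-- Small filtered colimits of coherent modules. -/
abbrev indP : ObjectProperty (FSch.ModF 𝔛 hX.1) :=
  ObjectProperty.ind.{u} fun 𝔊 : FSch.ModF 𝔛 hX.1 => FSch.IsCohF 𝔛 hX.1 𝔊

/-- There is a good module over a given one through which all others factor. -/
theorem exists_weakly_terminal : ∃ (R : FSch.ModF 𝔛 hX.1) (r : R ⟶ N), Good hX R ∧
    ∀ (G : FSch.ModF 𝔛 hX.1), Good hX G → ∀ g : G ⟶ N, ∃ a : G ⟶ R, a ≫ r = g := by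
  classical
  obtain ⟨κ, F, hF, hrep⟩ := exists_coh_family hX
  let o : (Σ k, F k ⟶ N) → Over N := fun p => Over.mk p.2
  let Φ : InducedCategory (Over N) o ⥤ FSch.ModF 𝔛 hX.1 := inducedFunctor o ⋙ Over.forget N
  let cN : Cocone Φ := { pt := N, ι := { app := fun p => p.2, naturality := fun p q a => (Over.w a.hom).trans (Category.comp_id _).symm } }
  refine ⟨colimit Φ, colimit.desc Φ cN, good_colim hX (colimit.isColimit Φ) fun p => good_coh hX (hF p.1), ?_⟩
  intro G hG g
  obtain ⟨J, _, _, pres, hp⟩ := (ind_iff_good hX).2 hG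
  choose k hk using fun j => hrep _ (hp j)
  let α : ∀ j, pres.diag.obj j ≅ F (k j) := fun j => (hk j).some
  let p : J → InducedCategory (Over N) o := fun j => ⟨k j, (α j).inv ≫ pres.ι.app j ≫ g⟩
  let d : Cocone pres.diag :=
    { pt := colimit Φ
      ι :=
        { app := fun j => (α j).hom ≫ colimit.ι Φ (p j)
          naturality := fun j j' a => by
            have hw : pres.diag.map a ≫ pres.ι.app j' = pres.ι.app j :=
              (pres.ι.naturality a).trans (Category.comp_id _)
            let m : p j ⟶ p j' := InducedCategory.homMk (Over.homMk ((α j).inv ≫ pres.diag.map a ≫ (α j').hom) (by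
              show ((α j).inv ≫ pres.diag.map a ≫ (α j').hom) ≫ (α j').inv ≫ pres.ι.app j' ≫ g =
                (α j).inv ≫ pres.ι.app j ≫ g
              simp [reassoc_of% hw]))
            have h := colimit.w Φ m
            show pres.diag.map a ≫ (α j').hom ≫ colimit.ι Φ (p j') = ((α j).hom ≫ colimit.ι Φ (p j)) ≫ 𝟙 _
            rw [← h, Category.comp_id]
            show _ = (α j).hom ≫ ((α j).inv ≫ pres.diag.map a ≫ (α j').hom) ≫ colimit.ι Φ (p j')
            simp } }
  refine ⟨pres.isColimit.desc d, pres.isColimit.hom_ext fun j => ?_⟩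
  rw [pres.isColimit.fac_assoc d j]
  show ((α j).hom ≫ colimit.ι Φ (p j)) ≫ colimit.desc Φ cN = pres.ι.app j ≫ g
  rw [Category.assoc, colimit.ι_desc]
  show (α j).hom ≫ (α j).inv ≫ pres.ι.app j ≫ g = _
  simp

/-- There is a terminal good module over a given one. -/
theorem exists_terminal : ∃ (R : FSch.ModF 𝔛 hX.1) (r : R ⟶ N), Good hX R ∧
    ∀ (G : FSch.ModF 𝔛 hX.1), Good hX G → ∀ g : G ⟶ N, ∃! a : G ⟶ R, a ≫ r = g := by
  classical
  obtain ⟨R, r, hR, hweak⟩ := exists_weakly_terminal hX N
  let σ := {e : R ⟶ R // e ≫ r = r}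
  let δ : (∐ fun _ : σ => R) ⟶ R := Sigma.desc fun e : σ => e.1 - 𝟙 R
  have hσ : Good hX (∐ fun _ : σ => R) := good_sigma hX σ (Discrete.functor fun _ : σ => R) fun _ => hR
  have hr : δ ≫ r = 0 := Sigma.hom_ext _ _ fun e => by
    rw [Sigma.ι_desc_assoc, comp_zero, Preadditive.sub_comp, e.2, Category.id_comp, sub_self]
  let R' := cokernel δ
  let r' : R' ⟶ N := cokernel.desc δ r hr
  have hR' : Good hX R' := good_cokernel hX hσ.2 hR δ
  refine ⟨R', r', hR', fun G hG g => ?_⟩
  obtain ⟨a, ha⟩ := hweak G hG g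
  refine ⟨a ≫ cokernel.π δ, by simp [r', ha], fun b hb => ?_⟩
  let a' := a ≫ cokernel.π δ
  have hab : (b - a') ≫ r' = 0 := by
    rw [Preadditive.sub_comp, hb, sub_eq_zero]
    simp [a', r', ha]
  let q := cokernel.π (b - a')
  obtain ⟨s, hs⟩ := hweak _ (good_cokernel hX hG.2 hR' (b - a')) (cokernel.desc (b - a') r' hab)
  let e : σ := ⟨cokernel.π δ ≫ q ≫ s, by
    rw [Category.assoc, Category.assoc, hs, cokernel.π_desc, cokernel.π_desc]⟩
  have he : e.1 ≫ cokernel.π δ = cokernel.π δ := by
    have h0 : Sigma.ι (fun _ : σ => R) e ≫ δ ≫ cokernel.π δ = 0 := by rw [cokernel.condition, comp_zero]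
    rw [Sigma.ι_desc_assoc, Preadditive.sub_comp, Category.id_comp, sub_eq_zero] at h0
    exact h0
  have hq : q ≫ s ≫ cokernel.π δ = 𝟙 R' := by
    rw [← cancel_epi (cokernel.π δ), Category.comp_id]
    simpa [e] using he
  have h1 : (b - a') ≫ q ≫ s ≫ cokernel.π δ = 0 := by rw [cokernel.condition_assoc, zero_comp]
  rw [hq, Category.comp_id, sub_eq_zero] at h1
  exact h1

/-- The inclusion of small filtered colimits of coherent modules has a right adjoint. -/
theorem isLeftAdjoint_indι : (indP hX).ι.IsLeftAdjoint := by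
  haveI : ∀ N, HasTerminal (CostructuredArrow (indP hX).ι N) := fun N => by
    obtain ⟨R, r, hR, hterm⟩ := exists_terminal hX N
    refine IsTerminal.hasTerminal (X := CostructuredArrow.mk (Y := (⟨R, (ind_iff_good hX).2 hR⟩ : (indP hX).FullSubcategory))
      (show (indP hX).ι.obj ⟨R, (ind_iff_good hX).2 hR⟩ ⟶ N from r)) ?_
    refine IsTerminal.ofUniqueHom
      (fun A => CostructuredArrow.homMk ⟨(hterm A.left.1 ((ind_iff_good hX).1 A.left.2) A.hom).exists.choose⟩
        (hterm A.left.1 ((ind_iff_good hX).1 A.left.2) A.hom).exists.choose_spec) fun A m => ?_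
    refine CostructuredArrow.hom_ext _ _ (ObjectProperty.hom_ext _ ?_)
    exact (hterm A.left.1 ((ind_iff_good hX).1 A.left.2) A.hom).unique (CostructuredArrow.w m)
      (hterm A.left.1 ((ind_iff_good hX).1 A.left.2) A.hom).exists.choose_spec
  exact isLeftAdjoint_of_costructuredArrowTerminals _

end Groth.L09.IndCoh
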