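import Groth.Agent.L09.IndCoh.LiftTop

/-!
# Extensions of quasi-coherent modules are locally generated
-/

set_option autoImplicit false
set_option linter.style.haveILetI false
set_option linter.unusedSectionVars false
set_option backward.isDefEq.respectTransparency false
set_option backward.isDefEq.respectTransparency.types false

universe u

open CategoryTheory CategoryTheory.Limits AlgebraicGeometry TopologicalSpace Opposite

noncomputable section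

namespace Groth.L09.IndCoh

open Groth.L17.FSheaf

variable {𝔛 : FSch.Sys.{u}} (hX : 𝔛.IsLocNoethFormal)

/-- Generation by sections transfers to the restriction. -/
theorem genOn_rf {A : FSch.ModF 𝔛 hX.1} {U : (𝔛.X 0).Opens} (hg : GenOn A U) :
    GenOn ((rf 𝔛 hX.1 U).obj A) (⊤ : ((R' 𝔛 hX.1 U).X 0).Opens) := by
  intro W' hW' s v hv
  have hTU := im_le 𝔛 hX.1 U ⊤
  obtain ⟨V, hV, hvV, hmem⟩ := hg (im_le 𝔛 hX.1 U W') s (ι₀ 𝔛 hX.1 U v) ⟨v, hv, rfl⟩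
  obtain ⟨B, rfl⟩ : ∃ B, V = ι₀ 𝔛 hX.1 U ''ᵁ B :=
    ⟨_, (im_preim 𝔛 hX.1 U (hV.trans (im_le 𝔛 hX.1 U W'))).symm⟩
  obtain ⟨w, hw, hwv⟩ := hvV
  obtain rfl : w = v := (ι₀ 𝔛 hX.1 U).isOpenEmbedding.injective hwv
  have hB : B ≤ W' := fun z hz => by
    obtain ⟨z', hz', hzz⟩ := hV ⟨z, hz, rfl⟩
    exact ((ι₀ 𝔛 hX.1 U).isOpenEmbedding.injective hzz) ▸ hz'
  refine ⟨B, hB, hw, ?_⟩
  obtain ⟨n, t, c, hc⟩ := exists_fin_span hmem
  show up 𝔛 hX.1 U B (rsF A _ s) ∈ _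
  have hsum : up 𝔛 hX.1 U B (∑ i, c i • rsF A (hV.trans (im_le 𝔛 hX.1 U W')) (t i)) ∈
      Submodule.span (O (R' 𝔛 hX.1 U) (hX' hX U).1 B) (Set.range fun t' : SF (R' 𝔛 hX.1 U) (hX' hX U).1
        ((rf 𝔛 hX.1 U).obj A) ⊤ => rsF ((rf 𝔛 hX.1 U).obj A) (hB.trans hW') t') := by
    rw [show up 𝔛 hX.1 U B (∑ i, c i • rsF A (hV.trans (im_le 𝔛 hX.1 U W')) (t i)) =
      ∑ i, eR 𝔛 hX.1 U B (c i) • up 𝔛 hX.1 U B (rsF A (hV.trans (im_le 𝔛 hX.1 U W')) (t i)) from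
        (Finset.sum_congr rfl fun i _ => (smul_up 𝔛 hX.1 U B (c i) _).symm)]
    refine Submodule.sum_mem _ fun i _ => ?_
    refine Submodule.smul_mem _ _ (Submodule.subset_span ⟨up 𝔛 hX.1 U ⊤ (rsF A hTU (t i)), ?_⟩)
    exact congrArg (up 𝔛 hX.1 U B) (rsF_rsF A hTU ((ι₀ 𝔛 hX.1 U).image_mono (hB.trans hW')) (t i))
  exact hc.symm ▸ hsum

variable {A B C : FSch.ModF 𝔛 hX.1} (i : A ⟶ B) (p : B ⟶ C) (hw : i ≫ p = 0)
  (hex : ∀ (U : (𝔛.X 0).Opens) (b : SF 𝔛 hX.1 B U), apF p U b = 0 → ∃ a, apF i U a = b)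

include hw hex in
/-- Sections of a quotient lift over affine opens on which the submodule is generated. -/
theorem lift_affine [Epi p] (hB : QR B) {U : (𝔛.X 0).Opens} (hU : IsAffineOpen U) (hg : GenOn A U)
    (t : SF 𝔛 hX.1 C U) : ∃ b : SF 𝔛 hX.1 B U, apF p U b = t := by
  let F := rf 𝔛 hX.1 U
  haveI : IsAffine ((R' 𝔛 hX.1 U).X 0) := isAffineOpen_lvU 𝔛 hX.1 hU 0
  have hUT : U ≤ ι₀ 𝔛 hX.1 U ''ᵁ ⊤ := fun z hz =>
    ⟨⟨z, (lvU_zero 𝔛 hX.1 U).ge hz⟩, trivial, rfl⟩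
  have hTU := im_le 𝔛 hX.1 U ⊤
  obtain ⟨b', hb'⟩ := lift_top (hX' hX U) (F.map i) (F.map p) (by
      refine SheafOfModules.hom_ext (PresheafOfModules.hom_ext fun W => ModuleCat.hom_ext (LinearMap.ext fun z => ?_))
      exact hom_comp_zero hw (op (ι₀ 𝔛 hX.1 U ''ᵁ W.unop)) z)
    (fun W b hb => hex (ι₀ 𝔛 hX.1 U ''ᵁ W) b hb)
    (fun W c v hv => by
      obtain ⟨V, hV, hvV, b, hb⟩ := exists_lift p c (ι₀ 𝔛 hX.1 U v) ⟨v, hv, rfl⟩
      obtain ⟨B', rfl⟩ : ∃ B', V = ι₀ 𝔛 hX.1 U ''ᵁ B' :=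
        ⟨_, (im_preim 𝔛 hX.1 U (hV.trans (im_le 𝔛 hX.1 U W))).symm⟩
      obtain ⟨w, hw', hwv⟩ := hvV
      obtain rfl : w = v := (ι₀ 𝔛 hX.1 U).isOpenEmbedding.injective hwv
      refine ⟨B', fun z hz => ?_, hw', b, hb⟩
      obtain ⟨z', hz', hzz⟩ := hV ⟨z, hz, rfl⟩
      exact ((ι₀ 𝔛 hX.1 U).isOpenEmbedding.injective hzz) ▸ hz')
    (qr_rf hX U hB) (isAffineOpen_top _) (genOn_rf hX hg) (up 𝔛 hX.1 U ⊤ (rsF C hTU t))
  refine ⟨rsF B hUT b', (apF_rsF p hUT b').trans ((congrArg (rsF C hUT) hb').trans ?_)⟩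
  exact (rsF_rsF C hTU hUT t).trans (res_self (R := ModSite.ringSh (𝔛.Osh hX.1)) C _ t)

include hw hex in
/-- Extensions of quasi-coherent modules are locally generated. -/
theorem lGen_ext [Epi p] (hB : QR B) (hA : LGen A) (hC : LGen C) : LGen B := fun x => by
  obtain ⟨U₀, -, hxU₀, hgC⟩ := hC x
  obtain ⟨U, hU, hxU, hle, hgA⟩ := hA.nhd hxU₀
  refine ⟨U, hU, hxU, fun W hW s y hy => ?_⟩
  obtain ⟨V₁, hV₁, hyV₁, hmem⟩ := (hgC.mono hle) hW (apF p W s) y hy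
  obtain ⟨n, t, c, hc⟩ := exists_fin_span hmem
  choose b hb using fun k => lift_affine hX i p hw hex hB hU hgA (t k)
  let e := hV₁.trans hW
  obtain ⟨a, ha⟩ := hex V₁ (rsF B hV₁ s - ∑ k, c k • rsF B e (b k)) (by
    rw [map_sub, map_sum, apF_rsF, hc, sub_eq_zero]
    exact Finset.sum_congr rfl fun k _ => ((map_smul _ _ _).trans
      (congrArg (fun z => c k • z) ((apF_rsF p e (b k)).trans (congrArg (rsF C e) (hb k))))).symm)
  obtain ⟨V, hV, hyV, hmemA⟩ := hgA e a y hyV₁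
  refine ⟨V, hV.trans hV₁, hyV, ?_⟩
  obtain ⟨m, t', c', hc'⟩ := exists_fin_span hmemA
  have h1 := congrArg (rsF B hV) ha
  rw [← apF_rsF i hV a, hc'] at h1
  have h2 : rsF B (hV.trans hV₁) s = rsF B hV (∑ k, c k • rsF B e (b k)) +
      apF i V (∑ j, c' j • rsF A (hV.trans e) (t' j)) := by
    rw [h1, show rsF B hV (rsF B hV₁ s - ∑ k, c k • rsF B e (b k)) = _ from
      res_sub (R := ModSite.ringSh (𝔛.Osh hX.1)) B hV _ _, add_sub_cancel]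
    exact (rsF_rsF B hV₁ hV s).symm
  rw [h2, show rsF B hV (∑ k, c k • rsF B e (b k)) = _ from rsF_comb B e hV c b, map_sum]
  refine Submodule.add_mem _ (Submodule.sum_mem _ fun k _ => Submodule.smul_mem _ _ (Submodule.subset_span ⟨b k, rfl⟩))
    (Submodule.sum_mem _ fun j _ => ?_)
  rw [map_smul, apF_rsF]
  exact Submodule.smul_mem _ _ (Submodule.subset_span ⟨apF i U (t' j), rfl⟩)

end Groth.L09.IndCoh
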