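import Groth.Agent.L09.IndCoh.SpanSub
import Groth.Agent.L09.IndCoh.LGenExt

/-!
# Extensions of covered modules on Noetherian formal schemes
-/

set_option autoImplicit false
set_option linter.style.haveILetI false
set_option linter.unusedSectionVars false
set_option backward.isDefEq.respectTransparency false
set_option backward.isDefEq.respectTransparency.types false

universe u

open CategoryTheory CategoryTheory.Limits AlgebraicGeometry TopologicalSpace Opposite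

noncomputable section

namespace Groth.L09.IndCoh

open Groth.L17.FSheaf

variable {𝔛 : FSch.Sys.{u}} (hX : 𝔛.IsLocNoethFormal)

/-- Finitely many local sections of a covered module come from one coherent module. -/
theorem exists_coh_map {A : FSch.ModF 𝔛 hX.1} (hA : Cov hX A) {ι : Type u} [Finite ι] (W : ι → (𝔛.X 0).Opens)
    (hW : ∀ r, IsCompact (W r : Set (𝔛.X 0))) (a : ∀ r, SF 𝔛 hX.1 A (W r)) :
    ∃ (H : FSch.ModF 𝔛 hX.1) (_ : FSch.IsCohF 𝔛 hX.1 H) (θ : H ⟶ A), ∀ r, ∀ x ∈ W r,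
      ∃ (V : (𝔛.X 0).Opens) (hV : V ≤ W r), x ∈ V ∧ ∃ e, apF θ V e = rsF A hV (a r) := by
  classical
  choose E hE f V hV hxV e he using fun p : Σ r, W r => hA (W p.1) (a p.1) p.2.1 p.2.2
  choose S hS using fun r => (hW r).elim_finite_subcover (fun x : W r => (V ⟨r, x⟩ : Set (𝔛.X 0))) (fun x => (V _).2)
    fun x hx => Set.mem_iUnion.2 ⟨⟨x, hx⟩, hxV ⟨r, ⟨x, hx⟩⟩⟩
  let κ := Σ r, ↥(S r)
  haveI : Finite κ := inferInstance
  let E' : κ → FSch.ModF 𝔛 hX.1 := fun p => E ⟨p.1, p.2.1⟩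
  refine ⟨∐ E', isCohF_coprod hX κ E' fun p => hE _, Sigma.desc fun p => f ⟨p.1, p.2.1⟩, fun r x hx => ?_⟩
  obtain ⟨y, hy, hxy⟩ := Set.mem_iUnion₂.1 (hS r hx)
  let p : κ := ⟨r, ⟨y, hy⟩⟩
  refine ⟨V ⟨r, y⟩, hV ⟨r, y⟩, hxy, apF (Sigma.ι E' p) _ (e ⟨r, y⟩), Eq.trans ?_ (he ⟨r, y⟩)⟩
  exact congrArg (fun t : E' p ⟶ A => apF t (V ⟨r, y⟩) (e ⟨r, y⟩)) (Sigma.ι_desc (f := E') _ p)

variable [CompactSpace (𝔛.X 0)] {A B C : FSch.ModF 𝔛 hX.1} (i : A ⟶ B) (p : B ⟶ C) (hw : i ≫ p = 0)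
  (hex : ∀ (U : (𝔛.X 0).Opens) (b : SF 𝔛 hX.1 B U), apF p U b = 0 → ∃ a, apF i U a = b)

omit [CompactSpace (𝔛.X 0)] in
/-- The image of a coherent module is locally spanned by the images of generators. -/
theorem image_mem_span {H : FSch.ModF 𝔛 hX.1} (φ : H ⟶ B) {U : (𝔛.X 0).Opens} {n : ℕ} (g : Fin n → SF 𝔛 hX.1 B U)
    {m : ℕ} (h : Fin m → SF 𝔛 hX.1 H U) (hh : ∀ ⦃V : (𝔛.X 0).Opens⦄, IsAffineOpen V → ∀ (hV : V ≤ U)
      (z : SF 𝔛 hX.1 H V), ∃ c : Fin m → O 𝔛 hX.1 V, z = ∑ q, c q • rsF H hV (h q))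
    (hg : ∀ q, ∃ q', g q' = apF φ U (h q)) {W : (𝔛.X 0).Opens} (hWl : W ≤ U) (z : SF 𝔛 hX.1 H W) :
    ∀ x ∈ W, ∃ (V' : (𝔛.X 0).Opens) (hV' : V' ≤ W), x ∈ V' ∧ rsF B hV' (apF φ W z) ∈
      Submodule.span (O 𝔛 hX.1 V') (Set.range fun q => rsF B (hV'.trans hWl) (g q)) := by
  intro x hx
  obtain ⟨V', hV', hxV', hle⟩ := Opens.isBasis_iff_nbhd.1 (𝔛.X 0).isBasis_affineOpens hx
  obtain ⟨e, he⟩ := hh hV' (hle.trans hWl) (rsF H hle z)
  refine ⟨V', hle, hxV', ?_⟩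
  rw [← apF_rsF, he, map_sum]
  refine Submodule.sum_mem _ fun q _ => ?_
  obtain ⟨q', hq'⟩ := hg q
  rw [(apF φ V').map_smul, apF_rsF, ← hq']
  exact Submodule.smul_mem _ _ (Submodule.subset_span ⟨q', rfl⟩)

omit [CompactSpace (𝔛.X 0)] in
/-- The chosen generators are compatible. -/
theorem gens_compatible {κ : Type u} (U : κ → (𝔛.X 0).Opens) {n m : κ → ℕ} (b : ∀ k, Fin (n k) → SF 𝔛 hX.1 B (U k))
    {H : FSch.ModF 𝔛 hX.1} (φ : H ⟶ B) (h : ∀ k, Fin (m k) → SF 𝔛 hX.1 H (U k))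
    (hh : ∀ k ⦃V : (𝔛.X 0).Opens⦄, IsAffineOpen V → ∀ (hV : V ≤ U k)
      (z : SF 𝔛 hX.1 H V), ∃ c : Fin (m k) → O 𝔛 hX.1 V, z = ∑ q, c q • rsF H hV (h k q))
    (hdef : ∀ (k l : κ) (j : Fin (n k)), ∀ x ∈ U k ⊓ U l, ∃ (V : (𝔛.X 0).Opens) (hV : V ≤ U k ⊓ U l),
      x ∈ V ∧ ∃ (d : Fin (n l) → O 𝔛 hX.1 V) (e : SF 𝔛 hX.1 H V), rsF B (hV.trans inf_le_left) (b k j) =
        ∑ r, d r • rsF B (hV.trans inf_le_right) (b l r) + apF φ V e)
    (k : κ) (q : Fin (n k + m k)) :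
    (Fin.append (b k) fun q => apF φ (U k) (h k q)) q ∈
      locSpan hX B U (fun k => Fin.append (b k) fun q => apF φ (U k) (h k q)) (U k) := by
  have hg : ∀ l q, ∃ q', (Fin.append (b l) fun q => apF φ (U l) (h l q)) q' = apF φ (U l) (h l q) :=
    fun l q => ⟨Fin.natAdd (n l) q, Fin.append_right _ _ q⟩
  induction q using Fin.addCases with
  | left j =>
    intro l x hxk hxl
    obtain ⟨V, hV, hxV, d, e, he⟩ := hdef k l j x ⟨hxk, hxl⟩
    obtain ⟨V', hV', hxV', hmem⟩ := image_mem_span hX φ _ (h l) (hh l) (hg l) (hV.trans inf_le_right) e x hxV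
    refine ⟨V', hV'.trans (hV.trans inf_le_left), hV'.trans (hV.trans inf_le_right), hxV', ?_⟩
    rw [Fin.append_left, ← rsF_rsF B (hV.trans inf_le_left) hV', he,
      show rsF B hV' (_ + apF φ V e) = _ from res_add (R := ModSite.ringSh (𝔛.Osh hX.1)) B _ _ _]
    refine add_mem ?_ hmem
    show rsF B hV' (∑ r, d r • rsF B (hV.trans inf_le_right) (b l r)) ∈ Submodule.span _ _
    rw [rsF_comb B (hV.trans inf_le_right) hV' d (b l)]
    refine Submodule.sum_mem _ fun r _ => Submodule.smul_mem _ _ (Submodule.subset_span ⟨Fin.castAdd (m l) r, ?_⟩)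
    exact congrArg (rsF B _) (Fin.append_left (b l) _ r)
  | right q =>
    intro l x hxk hxl
    obtain ⟨V', hV', hxV', hmem⟩ := image_mem_span hX φ _ (h l) (hh l) (hg l) (inf_le_right : U k ⊓ U l ≤ U l)
      (rsF H inf_le_left (h k q)) x ⟨hxk, hxl⟩
    refine ⟨V', hV'.trans inf_le_left, hV'.trans inf_le_right, hxV', ?_⟩
    rw [apF_rsF, rsF_rsF] at hmem
    rwa [Fin.append_right]

include hw hex in
/-- A coherent submodule mapping onto a coherent quotient. -/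
theorem exists_coh_lift [Epi p] (hA : Good hX A) (hB : QR B) (hC : FSch.IsCohF 𝔛 hX.1 C) :
    ∃ (N : FSch.ModF 𝔛 hX.1) (_ : FSch.IsCohF 𝔛 hX.1 N) (ι : N ⟶ B), ∀ (W : (𝔛.X 0).Opens) (z : SF 𝔛 hX.1 C W),
      ∀ x ∈ W, ∃ (V : (𝔛.X 0).Opens) (hV : V ≤ W), x ∈ V ∧ ∃ t, apF p V (apF ι V t) = rsF C hV z := by
  classical
  haveI := hX.2.2 0
  haveI : IsNoetherian (𝔛.X 0) := {}
  have hcpt : ∀ W : (𝔛.X 0).Opens, IsCompact (W : Set (𝔛.X 0)) := fun W => NoetherianSpace.isCompact _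
  choose U hU hxU _ using fun x : 𝔛.X 0 => Opens.isBasis_iff_nbhd.1 (𝔛.X 0).isBasis_affineOpens (Opens.mem_top x)
  obtain ⟨K, hK⟩ := isCompact_univ.elim_finite_subcover (fun x => (U x : Set (𝔛.X 0))) (fun x => (U x).2)
    fun x _ => Set.mem_iUnion.2 ⟨x, hxU x⟩
  choose n c hc using fun k : K => exists_gens hX hC (hU k.1)
  choose b hb using fun (k : K) (j : Fin (n k)) =>
    lift_affine hX i p hw hex hB (hU k.1) (genOn_cov hX hA.2 (hU k.1)) (c k j)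
  -- the defects on overlaps
  have hdef : ∀ (k l : K) (j : Fin (n k)) (x : ↥(U k.1 ⊓ U l.1)), ∃ (V : (𝔛.X 0).Opens) (hV : V ≤ U k.1 ⊓ U l.1),
      x.1 ∈ V ∧ ∃ (d : Fin (n l) → O 𝔛 hX.1 V) (a : SF 𝔛 hX.1 A V),
        rsF B (hV.trans inf_le_left) (b k j) = ∑ m, d m • rsF B (hV.trans inf_le_right) (b l m) + apF i V a := by
    intro k l j x
    obtain ⟨V, hV, hxV, hle⟩ := Opens.isBasis_iff_nbhd.1 (𝔛.X 0).isBasis_affineOpens x.2
    obtain ⟨d, hd⟩ := hc l hV (hle.trans inf_le_right) (rsF C (hle.trans inf_le_left) (c k j))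
    obtain ⟨a, ha⟩ := hex V (rsF B (hle.trans inf_le_left) (b k j) - ∑ m, d m • rsF B (hle.trans inf_le_right) (b l m)) (by
      rw [map_sub, map_sum, sub_eq_zero, apF_rsF, hb, hd]
      exact Finset.sum_congr rfl fun m _ => (((apF p V).map_smul _ _).trans
        (congrArg (fun t => d m • t) ((apF_rsF p _ _).trans (congrArg (rsF C _) (hb l m))))).symm)
    exact ⟨V, hle, hxV, d, a, by rw [ha]; abel⟩
  choose V hV hxV d a ha using hdef
  choose S hS using fun (k l : K) (j : Fin (n k)) => (hcpt (U k.1 ⊓ U l.1)).elim_finite_subcover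
    (fun x : ↥(U k.1 ⊓ U l.1) => (V k l j x : Set (𝔛.X 0))) (fun x => (V k l j x).2)
    fun x hx => Set.mem_iUnion.2 ⟨⟨x, hx⟩, hxV k l j ⟨x, hx⟩⟩
  obtain ⟨H, hH, θ, hθ⟩ := exists_coh_map hX hA.2 (ι := Σ (k : K) (l : K) (j : Fin (n k)), ↥(S k l j))
    (fun r => V r.1 r.2.1 r.2.2.1 r.2.2.2.1) (fun r => hcpt _) (fun r => a r.1 r.2.1 r.2.2.1 r.2.2.2.1)
  choose m h hh using fun k : K => exists_gens hX hH (hU k.1)
  have hcomp := gens_compatible hX (fun k : K => U k.1) b (θ ≫ i) h hh fun k l j x hx => by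
    obtain ⟨y, hy, hxy⟩ := Set.mem_iUnion₂.1 (hS k l j hx)
    obtain ⟨V₁, hV₁, hxV₁, e, he⟩ := hθ ⟨k, l, j, ⟨y, hy⟩⟩ x hxy
    refine ⟨V₁, hV₁.trans (hV k l j y), hxV₁, fun r => resO 𝔛 hX.1 hV₁ (d k l j y r), e, ?_⟩
    refine (rsF_rsF B ((hV k l j y).trans inf_le_left) hV₁ (b k j)).symm.trans ((congrArg (rsF B hV₁) (ha k l j y)).trans ?_)
    refine (res_add (R := ModSite.ringSh (𝔛.Osh hX.1)) B _ _ _).trans (congrArg₂ (· + ·)
      (rsF_comb B ((hV k l j y).trans inf_le_right) hV₁ (d k l j y) (b l)) ?_)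
    exact (apF_rsF i hV₁ (a k l j y)).symm.trans (congrArg (apF i V₁) he.symm)
  have hcov : ∀ x, ∃ k : K, x ∈ U k.1 := fun x => by
    obtain ⟨y, hy, hxy⟩ := Set.mem_iUnion₂.1 (hK (Set.mem_univ x))
    exact ⟨⟨y, hy⟩, hxy⟩
  refine ⟨_, isCohF_spanMod hX B (fun k : K => U k.1) _ hcov hB hcomp, spanι hX B (fun k : K => U k.1) _,
    fun W z x hx => ?_⟩
  obtain ⟨k, hk⟩ := hcov x
  obtain ⟨V₀, hV₀, hxV₀, hle⟩ := Opens.isBasis_iff_nbhd.1 (𝔛.X 0).isBasis_affineOpens (show x ∈ W ⊓ U k.1 from ⟨hx, hk⟩)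
  obtain ⟨e, he⟩ := hc k hV₀ (hle.trans inf_le_right) (rsF C (hle.trans inf_le_left) z)
  have hmem : (∑ j, e j • rsF B (hle.trans inf_le_right) (b k j)) ∈
      locSpan hX B (fun k : K => U k.1) (fun k => Fin.append (b k) fun q => apF (θ ≫ i) _ (h k q)) V₀ := by
    refine Submodule.sum_mem _ fun j _ => Submodule.smul_mem _ _ ?_
    have h1 := (spanPre hX B (fun k : K => U k.1) (fun k => Fin.append (b k) fun q => apF (θ ≫ i) _ (h k q))).map
      (homOfLE (hle.trans inf_le_right)).op (hcomp k (Fin.castAdd (m k) j))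
    rw [Fin.append_left] at h1
    exact h1
  obtain ⟨t, ht⟩ := exists_span_sect hX B _ _ hmem
  refine ⟨V₀, hle.trans inf_le_left, hxV₀, t, ?_⟩
  rw [ht, he, map_sum]
  exact Finset.sum_congr rfl fun j _ => ((apF p V₀).map_smul _ _).trans
    (congrArg (fun t => e j • t) ((apF_rsF p _ _).trans (congrArg (rsF C _) (hb k j))))

include hw hex in
/-- An extension of a coherent module by a good module is covered on a Noetherian formal scheme. -/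
theorem cov_ext_coh [Epi p] (hA : Good hX A) (hB : QR B) (hC : FSch.IsCohF 𝔛 hX.1 C) : Cov hX B := by
  obtain ⟨N, hN, ιN, hlift⟩ := exists_coh_lift hX i p hw hex hA hB hC
  intro W s x hx
  obtain ⟨V₀, hV₀, hxV₀, t, ht⟩ := hlift W (apF p W s) x hx
  obtain ⟨a₀, ha₀⟩ := hex V₀ (rsF B hV₀ s - apF ιN V₀ t) (by rw [map_sub, apF_rsF, ht, sub_self])
  obtain ⟨E, hE, f, V₁, hV₁, hxV₁, e₁, he₁⟩ := hA.2 V₀ a₀ x hxV₀
  refine ⟨N ⊞ E, isCohF_biprod hX hN hE, biprod.desc ιN (f ≫ i), V₁, hV₁.trans hV₀, hxV₁,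
    apF (biprod.inl : N ⟶ N ⊞ E) V₁ (rsF N hV₁ t) + apF (biprod.inr : E ⟶ N ⊞ E) V₁ e₁, ?_⟩
  rw [map_add]
  refine Eq.trans (congrArg₂ (· + ·)
    ((congrArg (fun z : N ⟶ B => apF z V₁ _) (biprod.inl_desc ιN (f ≫ i))).trans (apF_rsF ιN hV₁ t))
    ((congrArg (fun z : E ⟶ B => apF z V₁ e₁) (biprod.inr_desc ιN (f ≫ i))).trans
      ((congrArg (apF i V₁) he₁).trans ((apF_rsF i hV₁ a₀).trans (congrArg (rsF B hV₁) ha₀))))) ?_
  rw [show rsF B hV₁ (rsF B hV₀ s - apF ιN V₀ t) = rsF B hV₁ (rsF B hV₀ s) - rsF B hV₁ (apF ιN V₀ t) from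
    res_sub (R := ModSite.ringSh (𝔛.Osh hX.1)) B hV₁ _ _, add_sub_cancel, rsF_rsF]


include hw hex in
/-- An extension of good modules is good on a Noetherian formal scheme. -/
theorem good_ext [Mono i] [Epi p] (hA : Good hX A) (hC : Good hX C) : Good hX B := by
  have hB : QR B := qr_ext hX i p hex hA.1 hC.1
  refine ⟨hB, fun W s x hx => ?_⟩
  obtain ⟨E, hE, f, V₀, hV₀, hxV₀, e, he⟩ := hC.2 W (apF p W s) x hx
  let ψ : B ⊞ E ⟶ C := biprod.desc p (-f)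
  let il : B ⟶ B ⊞ E := biprod.inl
  let ir : E ⟶ B ⊞ E := biprod.inr
  have hψl : ∀ (V : (𝔛.X 0).Opens) (z : SF 𝔛 hX.1 B V), apF ψ V (apF il V z) = apF p V z :=
    fun V z => apF_congr hX (f := il ≫ ψ) (biprod.inl_desc _ _) V z
  have hψr : ∀ (V : (𝔛.X 0).Opens) (z : SF 𝔛 hX.1 E V), apF ψ V (apF ir V z) = - apF f V z :=
    fun V z => apF_congr hX (f := ir ≫ ψ) (biprod.inr_desc _ _) V z
  have hls : ∀ (V : (𝔛.X 0).Opens) (z : SF 𝔛 hX.1 B V), apF biprod.snd V (apF il V z) = 0 :=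
    fun V z => hom_comp_zero biprod.inl_snd _ z
  have hrs : ∀ (V : (𝔛.X 0).Opens) (z : SF 𝔛 hX.1 E V), apF biprod.snd V (apF ir V z) = z :=
    fun V z => apF_congr hX (f := ir ≫ biprod.snd) biprod.inr_snd V z
  have hlift : ∀ (V : (𝔛.X 0).Opens) (b : SF 𝔛 hX.1 B V) (c : SF 𝔛 hX.1 E V), apF p V b = apF f V c →
      ∃ k, apF (kernel.ι ψ) V k = apF il V b + apF ir V c := fun V b c h =>
    (exists_kernel_sect ψ (op V)).1 _ (by
      show apF ψ V _ = 0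
      rw [map_add, hψl, hψr, h, add_neg_cancel])
  let i' : A ⟶ kernel ψ := kernel.lift ψ (i ≫ il) (by
    show (i ≫ il) ≫ ψ = 0
    rw [Category.assoc, show il ≫ ψ = p from biprod.inl_desc _ _, hw])
  let p' : kernel ψ ⟶ E := kernel.ι ψ ≫ biprod.snd
  have hi' : ∀ (V : (𝔛.X 0).Opens) (a : SF 𝔛 hX.1 A V),
      apF (kernel.ι ψ) V (apF i' V a) = apF il V (apF i V a) := fun V a =>
    apF_congr hX (f := i' ≫ kernel.ι ψ) (kernel.lift_ι _ _ _) V a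
  have hw' : i' ≫ p' = 0 := by
    rw [show i' ≫ p' = (i' ≫ kernel.ι ψ) ≫ biprod.snd from (Category.assoc _ _ _).symm, kernel.lift_ι,
      Category.assoc, show il ≫ biprod.snd = 0 from biprod.inl_snd, comp_zero]
  have hex' : ∀ (V : (𝔛.X 0).Opens) (z : SF 𝔛 hX.1 (kernel ψ) V), apF p' V z = 0 → ∃ a, apF i' V a = z := by
    intro V z hz
    have hs : apF biprod.snd V (apF (kernel.ι ψ) V z) = 0 := hz
    have h1 : apF (kernel.ι ψ) V z = apF il V (apF biprod.fst V (apF (kernel.ι ψ) V z)) := by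
      conv_lhs => rw [biprod_total hX V (apF (kernel.ι ψ) V z), hs, map_zero, add_zero]
    obtain ⟨a, ha⟩ := hex V (apF biprod.fst V (apF (kernel.ι ψ) V z)) (by
      rw [← hψl, ← h1]
      exact hom_comp_zero (kernel.condition ψ) _ z)
    exact ⟨a, injective_apF (kernel.ι ψ) V (by rw [hi', ha, ← h1])⟩
  haveI : Epi p' := Preadditive.epi_of_cancel_zero _ fun {H} q hq => by
    refine SheafOfModules.hom_ext (PresheafOfModules.hom_ext fun V => ModuleCat.hom_ext (LinearMap.ext fun z => ?_))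
    obtain ⟨V, rfl⟩ : ∃ V', V = op V' := ⟨V.unop, rfl⟩
    refine eq_of_locally (R := ModSite.ringSh (𝔛.Osh hX.1)) H _ _ fun y hy => ?_
    obtain ⟨V₁, hV₁, hyV₁, b, hb⟩ := exists_lift p (apF f V z) y hy
    obtain ⟨k, hk⟩ := hlift V₁ b (rsF E hV₁ z) (hb.trans (apF_rsF f hV₁ z).symm)
    refine ⟨V₁, hV₁, hyV₁, ?_⟩
    show rsF H hV₁ (apF q V z) = rsF H hV₁ 0
    rw [← apF_rsF, show rsF E hV₁ z = apF p' V₁ k from ?_,
      show apF q V₁ (apF p' V₁ k) = 0 from hom_comp_zero hq _ _]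
    · exact (res_zero (R := ModSite.ringSh (𝔛.Osh hX.1)) H hV₁).symm
    · show _ = apF biprod.snd V₁ (apF (kernel.ι ψ) V₁ k)
      rw [hk, map_add, hls, hrs, zero_add]
  have hcov := cov_ext_coh hX i' p' hw' hex' hA ((qr_biprod hX hB (qr_coh hX hE)).of_mono (kernel.ι ψ)) hE
  obtain ⟨k, hk⟩ := hlift V₀ (rsF B hV₀ s) e ((apF_rsF p hV₀ s).trans he.symm)
  obtain ⟨E', hE', f', V₁, hV₁, hxV₁, e', he'⟩ := hcov V₀ k x hxV₀
  refine ⟨E', hE', f' ≫ kernel.ι ψ ≫ biprod.fst, V₁, hV₁.trans hV₀, hxV₁, e', ?_⟩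
  show apF biprod.fst V₁ (apF (kernel.ι ψ) V₁ (apF f' V₁ e')) = _
  rw [he', apF_rsF, hk, apF_rsF, map_add,
    show apF biprod.fst V₀ (apF il V₀ (rsF B hV₀ s)) = rsF B hV₀ s from
      apF_congr hX (f := il ≫ biprod.fst) biprod.inl_fst V₀ _,
    show apF biprod.fst V₀ (apF ir V₀ e) = 0 from hom_comp_zero biprod.inr_fst _ e, add_zero, rsF_rsF]

omit [CompactSpace (𝔛.X 0)] in
/-- Kernels of maps of good modules are good. -/
theorem good_kernel {M N : FSch.ModF 𝔛 hX.1} (hM : Good hX M) (hN : QR N) (φ : M ⟶ N) : Good hX (kernel φ) := by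
  refine ⟨hM.1.of_mono (kernel.ι φ), fun W z x hx => ?_⟩
  obtain ⟨E, hE, f, V, hV, hxV, e, he⟩ := hM.2 W (apF (kernel.ι φ) W z) x hx
  obtain ⟨k, hk⟩ := (exists_kernel_sect (f ≫ φ) (op V)).1 e (by
    show apF φ V (apF f V e) = 0
    rw [he, apF_rsF, show apF φ W (apF (kernel.ι φ) W z) = 0 from hom_comp_zero (kernel.condition φ) _ z]
    exact res_zero (R := ModSite.ringSh (𝔛.Osh hX.1)) N hV)
  refine ⟨kernel (f ≫ φ), isCohF_kernel_of_qr hX hE hN (f ≫ φ),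
    kernel.lift φ (kernel.ι (f ≫ φ) ≫ f) (by rw [Category.assoc, kernel.condition]), V, hV, hxV, k, ?_⟩
  refine injective_apF (kernel.ι φ) V ?_
  refine ((apF_congr hX (f := kernel.lift φ _ _ ≫ kernel.ι φ) (kernel.lift_ι _ _ _) V k).trans ?_).trans
    (apF_rsF (kernel.ι φ) hV z).symm
  exact (congrArg (apF f V) hk).trans he

end Groth.L09.IndCoh
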