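import Groth.Agent.L09.IndCoh.FinType
import Groth.Agent.L17.FSheaf.CohSect

/-!
# Extensions of modules with generated relations
-/

set_option autoImplicit false
set_option linter.style.haveILetI false
set_option linter.unusedSectionVars false
set_option backward.isDefEq.respectTransparency false
set_option backward.isDefEq.respectTransparency.types false

universe u

open CategoryTheory CategoryTheory.Limits AlgebraicGeometry TopologicalSpace Opposite

noncomputable section

namespace Groth.L09.IndCoh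

open Groth.L17.FSheaf

variable {𝔛 : FSch.Sys.{u}} (hX : 𝔛.IsLocNoethFormal)

/-- An extension of modules with generated relations has generated relations. -/
theorem qr_ext {A B C : FSch.ModF 𝔛 hX.1} (i : A ⟶ B) [Mono i] (p : B ⟶ C)
    (hex : ∀ (U : (𝔛.X 0).Opens) (b : SF 𝔛 hX.1 B U), apF p U b = 0 → ∃ a, apF i U a = b)
    (hA : QR A) (hC : QR C) : QR B := by
  intro U n y x hx
  obtain ⟨U₁, hU₁, hxU₁, hle⟩ := Opens.isBasis_iff_nbhd.1 (𝔛.X 0).isBasis_affineOpens hx
  refine ⟨U₁, hle, hU₁, hxU₁, fun W hW c hc z hz => ?_⟩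
  let y' : Fin n → SF 𝔛 hX.1 B U₁ := fun k => rsF B hle (y k)
  have hc' : ∑ k, c k • rsF C hW (apF p U₁ (y' k)) = 0 := by
    refine Eq.trans ?_ ((congrArg (apF p W) hc).trans (map_zero _))
    rw [map_sum]
    exact Finset.sum_congr rfl fun k _ =>
      ((map_smul _ _ _).trans (congrArg (fun s => c k • s) (apF_rsF p hW (y' k)))).symm
  obtain ⟨V, hV, hzV, hmem⟩ := relGen_affine hX hC hU₁ _ hW c hc' z hz
  rw [resRels, Set.image_eq_range] at hmem
  obtain ⟨m, r, d, hd⟩ := exists_fin_span hmem
  choose a ha using fun j => hex U₁ (∑ k, (r j).1 k • y' k) (by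
    refine Eq.trans ?_ (mem_Rels.1 (r j).2)
    rw [map_sum]
    exact Finset.sum_congr rfl fun k _ => map_smul _ _ _)
  have hd' : ∀ k, resO 𝔛 hX.1 hV (c k) = ∑ j, d j * resO 𝔛 hX.1 (hV.trans hW) ((r j).1 k) := fun k =>
    (congrFun hd k).trans (by simp only [Finset.sum_apply, Pi.smul_apply, smul_eq_mul])
  have hd0 : ∑ j, d j • rsF A (hV.trans hW) (a j) = 0 := by
    refine (injective_iff_map_eq_zero _).1 (injective_apF i V) _ ?_
    have h1 := congrArg (rsF B hV) hc
    refine Eq.trans ?_ (((rsF_comb B hW hV c y').symm.trans h1).trans (res_zero B hV))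
    rw [map_sum]
    simp only [hd', Finset.sum_smul]
    refine Eq.trans (Finset.sum_congr rfl fun j _ => ?_) Finset.sum_comm
    refine (map_smul _ _ _).trans ((congrArg (fun s => d j • s) ((apF_rsF i _ (a j)).trans
      (congrArg (rsF B _) (ha j)))).trans ?_)
    rw [show rsF B (hV.trans hW) (∑ k, (r j).1 k • y' k) = ∑ k, resO 𝔛 hX.1 (hV.trans hW) ((r j).1 k) •
      rsF B (hV.trans hW) (y' k) from (res_sum (R := ModSite.ringSh (𝔛.Osh hX.1)) B Finset.univ _ _).trans
        (Finset.sum_congr rfl fun k _ => res_smul (R := ModSite.ringSh (𝔛.Osh hX.1)) B _ _ _), Finset.smul_sum]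
    exact Finset.sum_congr rfl fun k _ => smul_smul _ _ _
  obtain ⟨V₂, hV₂, hzV₂, hmem₂⟩ := relGen_affine hX hA hU₁ a (hV.trans hW) d hd0 z hzV
  refine ⟨V₂, hV₂.trans hV, hzV₂, ?_⟩
  have h2 := lincomb_mem (w := fun j k => resO 𝔛 hX.1 (hV₂.trans (hV.trans hW)) ((r j).1 k))
    (S := resRels B ((hV₂.trans hV).trans hW) y') (fun e he => by
      refine Submodule.subset_span ⟨fun k => ∑ j, e j * (r j).1 k, mem_Rels.2 ?_, funext fun k => ?_⟩
      · simp only [Finset.sum_smul, mul_smul]
        rw [Finset.sum_comm]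
        refine Eq.trans ?_ ((congrArg (apF i U₁) he).trans (map_zero _))
        rw [map_sum]
        refine Finset.sum_congr rfl fun j _ => ?_
        rw [← Finset.smul_sum, map_smul, ha]
      · simp only [map_sum, map_mul, Finset.sum_apply, Pi.smul_apply, smul_eq_mul]) hmem₂
  convert h2 using 1
  funext k
  simp only [Finset.sum_apply, Pi.smul_apply, smul_eq_mul]
  refine (resO_resO hV hV₂ (c k)).symm.trans ((congrArg (resO 𝔛 hX.1 hV₂) (hd' k)).trans ?_)
  rw [map_sum]
  refine Finset.sum_congr rfl fun j _ => ?_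
  rw [map_mul, resO_resO]

end Groth.L09.IndCoh
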