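import Groth.Agent.L09.IndCoh.LGenExt
import Mathlib.Algebra.Homology.ExactSequence

/-!
# Five terms exact sequences of quasi-coherent modules
-/

set_option autoImplicit false
set_option linter.style.haveILetI false
set_option linter.unusedSectionVars false
set_option backward.isDefEq.respectTransparency false
set_option backward.isDefEq.respectTransparency.types false

universe u

open CategoryTheory CategoryTheory.Limits AlgebraicGeometry TopologicalSpace Opposite

noncomputable section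

namespace Groth.L09.IndCoh

open Groth.L17.FSheaf

variable {𝔛 : FSch.Sys.{u}} (hX : 𝔛.IsLocNoethFormal)

/-- The middle of a five terms exact sequence as an extension of a cokernel by a kernel. -/
theorem exists_ext (S : ComposableArrows (FSch.ModF 𝔛 hX.1) 4) (hS : S.Exact) :
    ∃ (i : cokernel (S.map' 0 1) ⟶ S.obj' 2) (p : S.obj' 2 ⟶ kernel (S.map' 3 4)),
      Mono i ∧ Epi p ∧ i ≫ p = 0 ∧
      ∀ (U : (𝔛.X 0).Opens) (b : SF 𝔛 hX.1 (S.obj' 2) U), apF p U b = 0 → ∃ a, apF i U a = b := by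
  have w1 : S.map' 0 1 ≫ S.map' 1 2 = 0 := hS.toIsComplex.zero 0
  have w2 : S.map' 1 2 ≫ S.map' 2 3 = 0 := hS.toIsComplex.zero 1
  have w3 : S.map' 2 3 ≫ S.map' 3 4 = 0 := hS.toIsComplex.zero 2
  let i : cokernel (S.map' 0 1) ⟶ S.obj' 2 := cokernel.desc _ (S.map' 1 2) w1
  let p : S.obj' 2 ⟶ kernel (S.map' 3 4) := kernel.lift _ (S.map' 2 3) w3
  haveI hi : Mono i := (hS.exact 0).mono_cokernelDesc
  haveI hp : Epi p := (hS.exact 2).epi_kernelLift
  have wi : i ≫ S.map' 2 3 = 0 := by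
    rw [← cancel_epi (cokernel.π (S.map' 0 1)), cokernel.π_desc_assoc, w2, comp_zero]
  have hwp : i ≫ p = 0 := by
    rw [← cancel_mono (kernel.ι (S.map' 3 4)), Category.assoc, kernel.lift_ι, wi, zero_comp]
  let φ : ShortComplex.mk (S.map' 1 2) (S.map' 2 3) w2 ⟶ ShortComplex.mk i (S.map' 2 3) wi :=
    { τ₁ := cokernel.π _, τ₂ := 𝟙 _, τ₃ := 𝟙 _
      comm₁₂ := by simp [i]
      comm₂₃ := by simp }
  haveI : Epi φ.τ₁ := inferInstanceAs (Epi (cokernel.π (S.map' 0 1)))
  haveI : IsIso φ.τ₂ := inferInstanceAs (IsIso (𝟙 _))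
  haveI : Mono φ.τ₃ := inferInstanceAs (Mono (𝟙 _))
  have hex : (ShortComplex.mk i (S.map' 2 3) wi).Exact :=
    (ShortComplex.exact_iff_of_epi_of_isIso_of_mono φ).1 (hS.exact 1)
  refine ⟨i, p, hi, hp, hwp, fun U b hb => ?_⟩
  obtain ⟨k, hk⟩ := (exists_kernel_sect (S.map' 2 3) (op U)).1 b (by
    have h1 := congrArg (apF (kernel.ι (S.map' 3 4)) U) hb
    rw [map_zero] at h1
    exact (apF_congr hX (kernel.lift_ι _ _ w3) U b).symm.trans h1)
  haveI : Mono (ShortComplex.mk i (S.map' 2 3) wi).f := hi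
  refine ⟨apF (hex.lift (kernel.ι (S.map' 2 3)) (kernel.condition _)) U k, Eq.trans ?_ hk⟩
  exact apF_congr hX (hex.lift_f (kernel.ι (S.map' 2 3)) (kernel.condition _)) U k

/-- The middle of a five terms exact sequence of quasi-coherent modules is quasi-coherent. -/
theorem qcoh_five (S : ComposableArrows (FSch.ModF 𝔛 hX.1) 4) (hS : S.Exact)
    (h₀ : LGen (S.obj' 0)) (h₁ : QR (S.obj' 1) ∧ LGen (S.obj' 1)) (h₃ : QR (S.obj' 3) ∧ LGen (S.obj' 3))
    (h₄ : QR (S.obj' 4)) : SheafOfModules.IsQuasicoherent.{u} (S.obj' 2) := by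
  obtain ⟨i, p, hi, hp, hw, hex⟩ := exists_ext hX S hS
  have hA := qr_cokernel hX h₀ h₁.1 (S.map' 0 1)
  have hC : QR (kernel (S.map' 3 4)) := h₃.1.of_mono (kernel.ι _)
  have hB := qr_ext hX i p hex hA hC
  exact qcoh_of_qr_lGen hX hB (lGen_ext hX i p hw hex hB (lGen_of_epi hX h₁.2 (cokernel.π _))
    (lGen_kernel hX h₃.2 h₄ (S.map' 3 4)))

end Groth.L09.IndCoh
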