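import Groth.Agent.L09.IndCoh.Extension

/-!
# Lifting sections through extensions by modules with generated relations
-/

set_option autoImplicit false
set_option linter.style.haveILetI false
set_option linter.unusedSectionVars false
set_option backward.isDefEq.respectTransparency false
set_option backward.isDefEq.respectTransparency.types false

universe u

open CategoryTheory CategoryTheory.Limits AlgebraicGeometry TopologicalSpace Opposite

noncomputable section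

namespace Groth.L09.IndCoh

open Groth.L17.FSheaf

variable {𝔛 : FSch.Sys.{u}} (hX : 𝔛.IsLocNoethFormal)

theorem apF_congr {M N : FSch.ModF 𝔛 hX.1} {f g : M ⟶ N} (h : f = g) (U : (𝔛.X 0).Opens) (x : SF 𝔛 hX.1 M U) :
    apF f U x = apF g U x := by rw [h]

/-- A section over a compact open is locally a combination of finitely many global sections. -/
theorem exists_finset_span {A : FSch.ModF 𝔛 hX.1} (hg : GenOn A ⊤) {W : (𝔛.X 0).Opens}
    (hW : IsCompact (W : Set (𝔛.X 0))) (a : SF 𝔛 hX.1 A W) :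
    ∃ G : Finset (SF 𝔛 hX.1 A ⊤), ∀ z ∈ W, ∃ (V : (𝔛.X 0).Opens) (hV : V ≤ W), z ∈ V ∧
      rsF A hV a ∈ Submodule.span (O 𝔛 hX.1 V) ((fun s => rsF A (le_top : V ≤ ⊤) s) '' (G : Set _)) := by
  classical
  choose V hV hzV hmem using fun z : W => hg (le_top : W ≤ ⊤) a z.1 z.2
  choose n t c hc using fun z : W => exists_fin_span (hmem z)
  obtain ⟨s, hs⟩ := hW.elim_finite_subcover (fun z : W => (V z : Set (𝔛.X 0))) (fun z => (V z).2)
    fun z hz => Set.mem_iUnion.2 ⟨⟨z, hz⟩, hzV _⟩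
  refine ⟨s.biUnion fun z => Finset.univ.image (t z), fun z hz => ?_⟩
  obtain ⟨w, hws, hzw⟩ := Set.mem_iUnion₂.1 (hs hz)
  refine ⟨V w, hV w, hzw, ?_⟩
  rw [hc w]
  exact Submodule.sum_mem _ fun i _ => Submodule.smul_mem _ _ (Submodule.subset_span
    ⟨t w i, Finset.mem_biUnion.2 ⟨w, hws, Finset.mem_image_of_mem _ (Finset.mem_univ i)⟩, rfl⟩)

set_option maxHeartbeats 4000000 in
/-- A section of a quotient by finitely many sections lifts over an affine formal scheme. -/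
theorem lift_glued {B Q : FSch.ModF 𝔛 hX.1} (π : B ⟶ Q) (hB : QR B) (htop : IsAffineOpen (⊤ : (𝔛.X 0).Opens))
    {m : ℕ} (w : Fin m → SF 𝔛 hX.1 B ⊤) (hw : ∀ j, apF π ⊤ (w j) = 0)
    (hker : ∀ (W : (𝔛.X 0).Opens) (z : SF 𝔛 hX.1 B W), apF π W z = 0 → ∀ x ∈ W, ∃ (V : (𝔛.X 0).Opens) (hV : V ≤ W),
      x ∈ V ∧ ∃ c : Fin m → O 𝔛 hX.1 V, rsF B hV z = ∑ j, c j • rsF B (le_top : V ≤ ⊤) (w j))
    (q : SF 𝔛 hX.1 Q ⊤) (hq : ∀ x : 𝔛.X 0, ∃ (V : (𝔛.X 0).Opens) (b : SF 𝔛 hX.1 B V),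
      x ∈ V ∧ apF π V b = rsF Q (le_top : V ≤ ⊤) q) : ∃ b : SF 𝔛 hX.1 B ⊤, apF π ⊤ b = q := by
  classical
  let R := ModSite.ringSh (𝔛.Osh hX.1)
  choose V b hxV hb using hq
  let K := ULift.{u} (Fin 1)
  let F₁ : FSch.ModF 𝔛 hX.1 := SheafOfModules.free (R := R) K
  let one : ∀ W : (𝔛.X 0).Opens, SF 𝔛 hX.1 F₁ W := fun W => e₀ (R := R) K ⟨0⟩ (op W)
  have hone : ∀ {W W' : (𝔛.X 0).Opens} (e : W' ≤ W), rsF F₁ e (one W) = one W' := fun e =>
    e₀_map (R := R) (⟨0⟩ : K) (homOfLE e).op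
  have hgen : ∀ {W : (𝔛.X 0).Opens} (z : SF 𝔛 hX.1 F₁ W), ∃ r : O 𝔛 hX.1 W, z = r • one W := fun {W} z => by
    obtain ⟨c, hc⟩ := exists_coeff₀ (R := R) (op W) z
    exact ⟨c ⟨0⟩, hc.trans (Fintype.sum_subsingleton _ (⟨0⟩ : K))⟩
  have hF : FSch.IsCohF 𝔛 hX.1 F₁ := isFinitePresentation_free (R := R) 1
  let qm : F₁ ⟶ Q := freeTop Q fun _ => q
  have hqm : ∀ W : (𝔛.X 0).Opens, apF qm W (one W) = rsF Q (le_top : W ≤ ⊤) q := fun W =>
    freeTop_e₀ (R := R) Q (fun _ => q) (⟨0⟩ : K) W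
  let ψ : B ⊞ F₁ ⟶ Q := biprod.desc π (-qm)
  let il : B ⟶ B ⊞ F₁ := biprod.inl
  let ir : F₁ ⟶ B ⊞ F₁ := biprod.inr
  let pr : kernel ψ ⟶ F₁ := kernel.ι ψ ≫ biprod.snd
  have hψl : ∀ (W : (𝔛.X 0).Opens) (z : SF 𝔛 hX.1 B W), apF ψ W (apF il W z) = apF π W z :=
    fun W z => apF_congr hX (f := il ≫ ψ) (biprod.inl_desc _ _) W z
  have hψr : ∀ (W : (𝔛.X 0).Opens) (z : SF 𝔛 hX.1 F₁ W), apF ψ W (apF ir W z) = - apF qm W z :=
    fun W z => apF_congr hX (f := ir ≫ ψ) (biprod.inr_desc _ _) W z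
  have hls : ∀ (W : (𝔛.X 0).Opens) (z : SF 𝔛 hX.1 B W), apF biprod.snd W (apF il W z) = 0 :=
    fun W z => hom_comp_zero biprod.inl_snd _ z
  have hrs : ∀ (W : (𝔛.X 0).Opens) (z : SF 𝔛 hX.1 F₁ W), apF biprod.snd W (apF ir W z) = z :=
    fun W z => apF_congr hX (f := ir ≫ biprod.snd) biprod.inr_snd W z
  have htotal : ∀ (W : (𝔛.X 0).Opens) (z : SF 𝔛 hX.1 (B ⊞ F₁) W),
      z = apF il W (apF biprod.fst W z) + apF ir W (apF biprod.snd W z) :=
    fun W z => (apF_congr hX (f := biprod.fst ≫ il + biprod.snd ≫ ir) biprod.total W z).symm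
  have hQE : QR (kernel ψ) := (qr_ext hX il biprod.snd (fun W z hz =>
    ⟨apF biprod.fst W z, by conv_rhs => rw [htotal W z, hz, map_zero, add_zero]⟩) hB (qr_coh hX hF)).of_mono
      (kernel.ι ψ)
  choose u₀ hu₀ using fun x => (exists_kernel_sect ψ (op (V x))).1 (apF il _ (b x) + apF ir _ (one (V x))) (by
    show apF ψ _ (_ + _) = 0
    rw [map_add, hψl, hψr, hqm, hb, add_neg_cancel])
  choose u hu using fun (x : 𝔛.X 0) (j : Fin m) => (exists_kernel_sect ψ (op (V x))).1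
    (apF il _ (rsF B (le_top : V x ≤ ⊤) (w j))) (by
      show apF ψ _ _ = 0
      rw [hψl, apF_rsF π, hw]
      exact res_zero (R := R) Q _)
  have hu₀s : ∀ x, apF pr (V x) (u₀ x) = one (V x) := fun x => by
    refine (congrArg (apF biprod.snd (V x)) (hu₀ x)).trans ((map_add _ _ _).trans ?_)
    rw [hls, hrs, zero_add]
  haveI : Epi pr := Preadditive.epi_of_cancel_zero _ fun {H} h hh => by
    refine SheafOfModules.hom_ext (PresheafOfModules.hom_ext fun W => ModuleCat.hom_ext (LinearMap.ext fun z => ?_))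
    obtain ⟨W, rfl⟩ : ∃ W', W = op W' := ⟨W.unop, rfl⟩
    refine eq_of_locally (R := R) H _ _ fun x hx => ⟨V x ⊓ W, inf_le_right, ⟨hxV x, hx⟩, ?_⟩
    obtain ⟨r, hr⟩ := hgen (rsF F₁ (inf_le_right : V x ⊓ W ≤ W) z)
    show rsF H inf_le_right (apF h W z) = rsF H inf_le_right 0
    rw [← apF_rsF h inf_le_right, hr, map_smul, ← hone (inf_le_left : V x ⊓ W ≤ V x), apF_rsF h,
      show apF h (V x) (one (V x)) = 0 from (congrArg (apF h (V x)) (hu₀s x)).symm.trans (hom_comp_zero hh _ _),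
      show rsF H (inf_le_left : V x ⊓ W ≤ V x) (0 : SF 𝔛 hX.1 H (V x)) = 0 from res_zero (R := R) H _, smul_zero]
    exact (res_zero (R := R) H _).symm
  have hE : FSch.IsCohF 𝔛 hX.1 (kernel ψ) := by
    refine isCohF_of_qr_finGen hX hQE fun x => ⟨V x, hxV x, m + 1, Fin.cons (u₀ x) (u x), fun W hW y hy z => ?_⟩
    let z' := apF (kernel.ι ψ) W z
    obtain ⟨r, hr⟩ := hgen (apF biprod.snd W z')
    obtain ⟨V', hV', hyV', c, hc⟩ := hker W (apF biprod.fst W z' - r • rsF B hW (b x)) (by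
      have h0 : apF ψ W z' = 0 := hom_comp_zero (kernel.condition ψ) _ z
      rw [htotal W z', map_add, hψl, hψr, hr, map_smul, hqm, ← sub_eq_add_neg, sub_eq_zero] at h0
      rw [map_sub, map_smul, h0, apF_rsF π hW, hb, rsF_rsF, sub_self]) y hy
    let e := hV'.trans hW
    let r' := resO 𝔛 hX.1 hV' r
    refine ⟨V', hV', hyV', Fin.cons r' c, injective_apF (kernel.ι ψ) V' ?_⟩
    have hfst : apF biprod.fst V' (rsF (B ⊞ F₁) hV' z') =
        r' • rsF B e (b x) + ∑ j, c j • rsF B (le_top : V' ≤ ⊤) (w j) := by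
      rw [apF_rsF, ← hc]
      refine Eq.trans (eq_add_of_sub_eq' ?_) rfl
      refine Eq.trans ?_ (res_sub (R := R) B hV' _ _).symm
      refine congrArg₂ (· - ·) rfl ?_
      exact (congrArg (fun s => r' • s) (rsF_rsF B hW hV' (b x))).symm.trans (res_smul (R := R) B hV' r _).symm
    have hsnd : apF biprod.snd V' (rsF (B ⊞ F₁) hV' z') = r' • one V' :=
      (apF_rsF _ hV' z').trans ((congrArg (rsF F₁ hV') hr).trans
        ((res_smul (R := R) F₁ hV' r _).trans (congrArg (fun s => r' • s) (hone hV'))))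
    have h0 : apF (kernel.ι ψ) V' (rsF (kernel ψ) e (u₀ x)) = apF il V' (rsF B e (b x)) + apF ir V' (one V') := by
      rw [apF_rsF, show apF (kernel.ι ψ) (V x) (u₀ x) = _ from hu₀ x, apF_rsF, ← hone e, apF_rsF ir]
      exact res_add (R := R) _ _ _ _
    have h1 : ∀ j, apF (kernel.ι ψ) V' (rsF (kernel ψ) e (u x j)) = apF il V' (rsF B (le_top : V' ≤ ⊤) (w j)) := by
      intro j
      rw [apF_rsF, show apF (kernel.ι ψ) (V x) (u x j) = _ from hu x j, ← apF_rsF il, rsF_rsF]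
    refine (apF_rsF _ hV' z).trans ((htotal V' _).trans ?_)
    rw [hfst, hsnd, map_sum, Fin.sum_univ_succ]
    simp only [Fin.cons_zero, Fin.cons_succ, map_smul, h0, h1, map_add, map_sum, smul_add]
    rw [add_right_comm]
  obtain ⟨e, he⟩ := surjective_of_epi 𝔛 hX hE hF pr htop (one ⊤)
  refine ⟨apF biprod.fst ⊤ (apF (kernel.ι ψ) ⊤ e), ?_⟩
  have h0 : apF ψ ⊤ (apF (kernel.ι ψ) ⊤ e) = 0 := hom_comp_zero (kernel.condition ψ) _ e
  have he' : apF biprod.snd ⊤ (apF (kernel.ι ψ) ⊤ e) = one ⊤ := he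
  rw [htotal ⊤ (apF (kernel.ι ψ) ⊤ e), map_add, hψl, hψr, he', hqm, ← sub_eq_add_neg, sub_eq_zero] at h0
  rw [h0]
  exact res_self (R := R) Q _ q

variable {A B C : FSch.ModF 𝔛 hX.1} (i : A ⟶ B) (p : B ⟶ C) (hw : i ≫ p = 0)
  (hex : ∀ (U : (𝔛.X 0).Opens) (b : SF 𝔛 hX.1 B U), apF p U b = 0 → ∃ a, apF i U a = b)
  (hp : ∀ (W : (𝔛.X 0).Opens) (c : SF 𝔛 hX.1 C W), ∀ x ∈ W, ∃ (V : (𝔛.X 0).Opens) (hV : V ≤ W),
    x ∈ V ∧ ∃ b : SF 𝔛 hX.1 B V, apF p V b = rsF C hV c)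

include hw hex hp in
/-- Sections of a quotient lift over an affine formal scheme. -/
theorem lift_top (hB : QR B) (htop : IsAffineOpen (⊤ : (𝔛.X 0).Opens)) (hg : GenOn A ⊤)
    (t : SF 𝔛 hX.1 C ⊤) : ∃ b : SF 𝔛 hX.1 B ⊤, apF p ⊤ b = t := by
  classical
  let R := ModSite.ringSh (𝔛.Osh hX.1)
  -- local lifts
  choose V₀ hV₀ hxV₀ b₀ hb₀ using fun x : 𝔛.X 0 => hp ⊤ t x trivial
  choose V hVaff hxV hVle using fun x => Opens.isBasis_iff_nbhd.1 (𝔛.X 0).isBasis_affineOpens (hxV₀ x)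
  let b : ∀ x, SF 𝔛 hX.1 B (V x) := fun x => rsF B (hVle x) (b₀ x)
  have hb : ∀ x, apF p (V x) (b x) = rsF C (le_top : V x ≤ ⊤) t := fun x =>
    (apF_rsF p (hVle x) (b₀ x)).trans ((congrArg (rsF C (hVle x)) (hb₀ x)).trans (rsF_rsF C _ _ t))
  clear_value b
  obtain ⟨S, hS⟩ := htop.isCompact.elim_finite_subcover (fun x => (V x : Set (𝔛.X 0))) (fun x => (V x).2)
    fun x _ => Set.mem_iUnion.2 ⟨x, hxV x⟩
  -- differences
  choose a ha using fun k l : S => hex (V k.1 ⊓ V l.1) (rsF B inf_le_left (b k.1) - rsF B inf_le_right (b l.1)) (by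
    rw [map_sub, sub_eq_zero]
    refine ((apF_rsF p _ _).trans (congrArg (rsF C inf_le_left) (hb k.1))).trans ?_
    refine Eq.trans ?_ ((apF_rsF p _ _).trans (congrArg (rsF C inf_le_right) (hb l.1))).symm
    rw [rsF_rsF, rsF_rsF])
  choose G hG using fun k l : S => exists_finset_span hX hg
    (htop.isQuasiSeparated (V k.1 : Set (𝔛.X 0)) (V l.1 : Set (𝔛.X 0)) (Set.subset_univ _) (V k.1).2
      (hVaff k.1).isCompact (Set.subset_univ _) (V l.1).2 (hVaff l.1).isCompact) (a k l)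
  let GG : Finset (SF 𝔛 hX.1 A ⊤) := Finset.univ.biUnion fun kl : S × S => G kl.1 kl.2
  let g : ULift.{u} (Fin GG.card) → SF 𝔛 hX.1 A ⊤ := fun j => (GG.equivFin.symm j.down).1
  let θ : (SheafOfModules.free (R := R) (ULift.{u} (Fin GG.card)) : FSch.ModF 𝔛 hX.1) ⟶ A := freeTop A g
  let Q := cokernel (θ ≫ i)
  let π : B ⟶ Q := cokernel.π (θ ≫ i)
  have hkill : ∀ (j : ULift.{u} (Fin GG.card)) (W : (𝔛.X 0).Opens),
      apF π W (apF i W (rsF A (le_top : W ≤ ⊤) (g j))) = 0 := fun j W => by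
    refine Eq.trans ?_ (hom_comp_zero (cokernel.condition (θ ≫ i)) (op W) (e₀ (R := R) _ j (op W)))
    exact congrArg (fun z => apF π W (apF i W z)) (freeTop_e₀ (R := R) A g j W).symm
  have hspan : ∀ (k l : S) (W : (𝔛.X 0).Opens) (hW : W ≤ V k.1 ⊓ V l.1),
      rsF Q hW (apF π _ (rsF B inf_le_left (b k.1))) = rsF Q hW (apF π _ (rsF B inf_le_right (b l.1))) := by
    intro k l W hW
    refine eq_of_locally (R := R) Q _ _ fun z hz => ?_
    obtain ⟨V', hV', hzV', hmem⟩ := hG k l z (hW hz)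
    refine ⟨V' ⊓ W, inf_le_right, ⟨hzV', hz⟩, ?_⟩
    have h0 : apF π V' (apF i V' (rsF A hV' (a k l))) = 0 := by
      have hle : Submodule.span (O 𝔛 hX.1 V') ((fun s => rsF A (le_top : V' ≤ ⊤) s) '' (G k l : Set _)) ≤
          LinearMap.ker (apF π V' ∘ₗ apF i V') := by
        refine Submodule.span_le.2 ?_
        rintro _ ⟨s, hs, rfl⟩
        obtain ⟨j, rfl⟩ : ∃ j, g j = s := ⟨⟨GG.equivFin ⟨s, Finset.mem_biUnion.2 ⟨(k, l), Finset.mem_univ _, hs⟩⟩⟩,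
          congrArg Subtype.val (GG.equivFin.symm_apply_apply _)⟩
        exact hkill j V'
      exact hle hmem
    rw [apF_rsF i hV' (a k l), ha k l, apF_rsF π hV', map_sub] at h0
    have h1 : rsF Q hV' (apF π _ (rsF B inf_le_left (b k.1))) = rsF Q hV' (apF π _ (rsF B inf_le_right (b l.1))) :=
      sub_eq_zero.1 ((res_sub (R := R) Q hV' _ _).symm.trans h0)
    have h2 := congrArg (rsF Q (inf_le_left : V' ⊓ W ≤ V')) h1
    rw [rsF_rsF, rsF_rsF] at h2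
    exact (rsF_rsF Q _ _ _).trans (h2.trans (rsF_rsF Q _ _ _).symm)
  obtain ⟨q, hq, -⟩ := TopCat.Sheaf.existsUnique_gluing'
    (⟨Q.val.presheaf, Q.isSheaf⟩ : TopCat.Sheaf Ab.{u} (𝔛.X 0).toTopCat) (fun k : S => V k.1) ⊤
    (fun k => homOfLE le_top) (fun x hx => by
      obtain ⟨y, hy, hxy⟩ := Set.mem_iUnion₂.1 (hS hx)
      exact Opens.mem_iSup.2 ⟨⟨y, hy⟩, hxy⟩) (fun k => apF π (V k.1) (b k.1)) (fun k l => by
      show rsF Q inf_le_left (apF π (V k.1) (b k.1)) = rsF Q inf_le_right (apF π (V l.1) (b l.1))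
      have h1 := hspan k l _ le_rfl
      rw [apF_rsF π inf_le_left, apF_rsF π inf_le_right, rsF_rsF, rsF_rsF] at h1
      exact h1)
  have hq' : ∀ k : S, rsF Q (le_top : V k.1 ≤ ⊤) q = apF π (V k.1) (b k.1) := hq
  -- it suffices to lift the class
  suffices H : ∃ b' : SF 𝔛 hX.1 B ⊤, apF π ⊤ b' = q by
    obtain ⟨b', hb'⟩ := H
    let p' : Q ⟶ C := cokernel.desc (θ ≫ i) p (by rw [Category.assoc, hw, comp_zero])
    have hp' : ∀ (W : (𝔛.X 0).Opens) (z : SF 𝔛 hX.1 B W), apF p' W (apF π W z) = apF p W z := fun W z =>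
      apF_congr hX (f := π ≫ p') (cokernel.π_desc _ _ _) W z
    refine ⟨b', eq_of_locally (R := R) C _ _ fun x _ => ?_⟩
    obtain ⟨y, hy, hxy⟩ := Set.mem_iUnion₂.1 (hS (Set.mem_univ x))
    refine ⟨V y, le_top, hxy, ?_⟩
    show rsF C le_top (apF p ⊤ b') = rsF C le_top t
    rw [← hp', hb', ← apF_rsF p' le_top, hq' ⟨y, hy⟩, hp', hb]
  refine lift_glued hX π hB htop (fun j : Fin GG.card => apF i ⊤ (g ⟨j⟩)) (fun j => ?_) ?_ q fun x => ?_
  · have h0 := hkill ⟨j⟩ ⊤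
    rwa [show rsF A (le_top : (⊤ : (𝔛.X 0).Opens) ≤ ⊤) (g ⟨j⟩) = g ⟨j⟩ from res_self (R := R) A _ _] at h0
  · intro W z hz x hx
    obtain ⟨V', hV', hxV', f, hf⟩ := exists_preimage_of_coker (θ ≫ i) z hz x hx
    obtain ⟨d, rfl⟩ := exists_coeff₀ (R := R) (op V') f
    refine ⟨V', hV', hxV', fun j => d ⟨j⟩, hf.symm.trans ?_⟩
    refine (congrArg (apF i V') (freeTop_comb (R := R) A g V' d)).trans ((map_sum _ _ _).trans ?_)
    exact Fintype.sum_equiv Equiv.ulift _ _ fun j => (map_smul _ _ _).trans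
      (congrArg (fun s => (show O 𝔛 hX.1 V' from d j) • s) (apF_rsF i (le_top : V' ≤ ⊤) (g j)))
  · obtain ⟨y, hy, hxy⟩ := Set.mem_iUnion₂.1 (hS (Set.mem_univ x))
    exact ⟨V y, b y, hxy, (hq' ⟨y, hy⟩).symm⟩

end Groth.L09.IndCoh
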