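import Groth.Agent.L17.FSheaf.LocPresFP
import Groth.Agent.L09.ModEt.Generators
import Mathlib.Topology.Compactness.Compact

/-!
# Presentations of modules on ringed spaces by sections
-/

set_option autoImplicit false
set_option linter.style.haveILetI false
set_option linter.unusedSectionVars false
set_option backward.isDefEq.respectTransparency false
set_option backward.isDefEq.respectTransparency.types false

universe u

open CategoryTheory CategoryTheory.Limits TopologicalSpace Opposite

noncomputable section

namespace Groth.L09.IndCoh.Pres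

open Groth.L17.FSheaf

variable {X : TopCat.{u}} {R : Sheaf (Opens.grothendieckTopology X) RingCat.{u}}

/-- Restriction of coefficient vectors. -/
def vec {I : Type u} {U V : Opens X} (h : V ≤ U) : (I →₀ R.obj.obj (op U)) →+ (I →₀ R.obj.obj (op V)) :=
  Finsupp.mapRange.addMonoidHom (R.obj.map (homOfLE h).op).hom.toAddMonoidHom

theorem vec_apply {I : Type u} {U V : Opens X} (h : V ≤ U) (b : I →₀ R.obj.obj (op U)) (i : I) :
    vec h b i = rres h (b i) := rfl

theorem vec_vec {I : Type u} {U V W : Opens X} (h : V ≤ U) (h' : W ≤ V) (b : I →₀ R.obj.obj (op U)) :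
    vec h' (vec h b) = vec (h'.trans h) b := Finsupp.ext fun _ => rres_rres h h' _

variable (M : SheafOfModules.{u} R)

/-- Restriction commutes with combinations. -/
theorem res_lc {I : Type u} {U V : Opens X} (h : V ≤ U) (s : I → M.val.obj (op U)) (c : I →₀ R.obj.obj (op U)) :
    res M h (Finsupp.linearCombination (R.obj.obj (op U)) s c) =
      Finsupp.linearCombination (R.obj.obj (op V)) (fun i => res M h (s i)) (vec h c) := by
  induction c using Finsupp.induction_linear with
  | zero => simp
  | add a b ha hb => rw [map_add, res_add, map_add, map_add, ha, hb]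
  | single i r =>
    rw [Finsupp.linearCombination_single, res_smul, show vec h (Finsupp.single i r) = Finsupp.single i (rres h r) by
      simp [vec], Finsupp.linearCombination_single]

/-- Generators and relations by sections over an open, valid on smaller opens. -/
structure Data (U : Opens X) : Type (u + 1) where
  I : Type u
  J : Type u
  s : I → M.val.obj (op U)
  b : J → I →₀ R.obj.obj (op U)
  gen : ∀ ⦃W : Opens X⦄ (hW : W ≤ U), ∀ x ∈ W, ∀ y : M.val.obj (op W), ∃ (V : Opens X) (hV : V ≤ W),
    x ∈ V ∧ res M hV y ∈ Submodule.span (R.obj.obj (op V)) (Set.range fun i => res M (hV.trans hW) (s i))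
  rel_zero : ∀ j, Finsupp.linearCombination (R.obj.obj (op U)) s (b j) = 0
  rel : ∀ ⦃W : Opens X⦄ (hW : W ≤ U) (c : I →₀ R.obj.obj (op W)),
    Finsupp.linearCombination (R.obj.obj (op W)) (fun i => res M hW (s i)) c = 0 →
    ∀ x ∈ W, ∃ (V : Opens X) (hV : V ≤ W), x ∈ V ∧
      vec hV c ∈ Submodule.span (R.obj.obj (op V)) (Set.range fun j => vec (hV.trans hW) (b j))

variable {M} {U : Opens X}

section Over

variable (U) in
/-- The standard sections of a free module. -/
abbrev fe (I : Type u) (i : I) (W : (Over U)ᵒᵖ) : (SheafOfModules.free (R := R.over U) I).val.obj W :=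
  (SheafOfModules.freeSection (R := R.over U) i).eval W

/-- Coordinates. -/
abbrev co {I : Type u} (i : I) {W : Opens X} (hW : W ≤ U)
    (z : (SheafOfModules.free (R := R.over U) I).val.obj (objO hW)) : R.obj.obj (op W) :=
  ((Groth.L09.ModGen.proj (R := R.over U) i).val.app (objO hW)).hom z

theorem co_res {I : Type u} (i : I) {W V : Opens X} (hW : W ≤ U) (hV : V ≤ W)
    (z : (SheafOfModules.free (R := R.over U) I).val.obj (objO hW)) :
    co i (hV.trans hW) ((SheafOfModules.free (R := R.over U) I).val.map
      (show objO hW ⟶ objO (hV.trans hW) from (Over.homMk (homOfLE hV)).op) z) = rres hV (co i hW z) :=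
  PresheafOfModules.naturality_apply (Groth.L09.ModGen.proj (R := R.over U) i).val _ z

theorem co_lc {I : Type u} (i : I) {W : Opens X} (hW : W ≤ U) (c : I →₀ R.obj.obj (op W)) :
    co i hW (Finsupp.linearCombination ((R.over U).obj.obj (objO hW)) (fun j => fe U I j (objO hW)) c) = c i :=
  Groth.L09.ModGen.proj_linearCombination (R := R.over U) i (objO hW) c

/-- Sections of generated modules are locally combinations. -/
theorem exists_local_span {N : SheafOfModules.{u} (R.over U)} (σ : N.GeneratingSections) {W : Opens X} (hW : W ≤ U)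
    (z : N.val.obj (objO hW)) (x : X) (hx : x ∈ W) : ∃ (V : Opens X) (hV : V ≤ W), x ∈ V ∧
      ∃ d : σ.I →₀ (R.over U).obj.obj (objO (hV.trans hW)),
        Finsupp.linearCombination ((R.over U).obj.obj (objO (hV.trans hW)))
          (fun j => (σ.s j).eval (objO (hV.trans hW))) d =
          N.val.map (show objO hW ⟶ objO (hV.trans hW) from (Over.homMk (homOfLE hV)).op) z := by
  obtain ⟨T, hT, hspan⟩ := Groth.L09.ModGen.exists_cover_mem_span σ (objO hW).unop z
  rw [GrothendieckTopology.mem_over_iff] at hT
  obtain ⟨V, f, hf, hxV⟩ := hT x hx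
  have hm := hspan _ ((Sieve.overEquiv_iff _ f).1 hf)
  obtain ⟨d, hd⟩ := Finsupp.mem_span_range_iff_exists_finsupp.1 hm
  exact ⟨V, leOfHom f, hxV, d, (Finsupp.linearCombination_apply _ _).trans hd⟩

/-- The tautological generators. -/
def freeGen (I : Type u) : (SheafOfModules.free (R := R.over U) I).GeneratingSections where
  I := I
  s := SheafOfModules.freeSection
  epi := by
    rw [show (SheafOfModules.free (R := R.over U) I).freeHomEquiv.symm SheafOfModules.freeSection = 𝟙 _
      from Equiv.symm_apply_apply _ _]
    infer_instance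

/-- Sections of free modules over compact opens have finite support. -/
theorem exists_vec {I : Type u} {W : Opens X} (hW : W ≤ U) (hc : IsCompact (W : Set X))
    (z : (SheafOfModules.free (R := R.over U) I).val.obj (objO hW)) :
    ∃ b : I →₀ R.obj.obj (op W), (∀ i, b i = co i hW z) ∧
      Finsupp.linearCombination ((R.over U).obj.obj (objO hW)) (fun j => fe U I j (objO hW)) b = z := by
  classical
  choose V hV hxV d hd using fun x : W => exists_local_span (freeGen (R := R) I) hW z x.1 x.2
  obtain ⟨t, ht⟩ := hc.elim_finite_subcover (fun x : W => (V x : Set X)) (fun x => (V x).2)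
    fun x hx => Set.mem_iUnion.2 ⟨⟨x, hx⟩, hxV _⟩
  have hco : ∀ x i, rres (hV x) (co i hW z) = d x i := fun x i =>
    (co_res i hW (hV x) z).symm.trans ((congrArg (co i ((hV x).trans hW)) (hd x)).symm.trans (co_lc i _ (d x)))
  have hzero : ∀ i, (∀ x ∈ t, d x i = 0) → co i hW z = 0 := fun i hi =>
    TopCat.Sheaf.eq_of_locally_eq' (⟨(SheafOfModules.unit R).val.presheaf, (SheafOfModules.unit R).isSheaf⟩ :
      TopCat.Sheaf Ab.{u} X) (fun x : t => V x.1) W (fun x => homOfLE (hV x.1))
      (fun y hy => by
        obtain ⟨x, hxt, hyx⟩ := Set.mem_iUnion₂.1 (ht hy)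
        exact Opens.mem_iSup.2 ⟨⟨x, hxt⟩, hyx⟩) (co i hW z) 0 fun x => by
        refine ((hco x.1 i).trans (hi x.1 x.2)).trans (Eq.symm ?_)
        exact map_zero (R.obj.map (homOfLE (hV x.1)).op).hom
  let b : I →₀ R.obj.obj (op W) := Finsupp.onFinset (t.biUnion fun x => (d x).support) (fun i => co i hW z)
    fun i hi => by
      by_contra hni
      simp only [Finset.mem_biUnion, Finsupp.mem_support_iff, not_exists, not_and, not_not] at hni
      exact hi (hzero i hni)
  refine ⟨b, fun i => rfl, sub_eq_zero.1 (eq_zero_of_cover _ _ fun y hy => ?_)⟩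
  let x : W := ⟨y, hy⟩
  refine ⟨V x, hV x, hxV x, ?_⟩
  let f : objO hW ⟶ objO ((hV x).trans hW) := (Over.homMk (homOfLE (hV x))).op
  show (SheafOfModules.free (R := R.over U) I).val.map f _ = 0
  rw [map_sub, sub_eq_zero]
  have hb : vec (hV x) b = d x := Finsupp.ext fun i => hco x i
  have key : ∀ b : I →₀ R.obj.obj (op W), (SheafOfModules.free (R := R.over U) I).val.map f
      (Finsupp.linearCombination ((R.over U).obj.obj (objO hW)) (fun j => fe U I j (objO hW)) b) =
      Finsupp.linearCombination ((R.over U).obj.obj (objO ((hV x).trans hW)))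
        (fun j => fe U I j (objO ((hV x).trans hW))) (vec (hV x) b) := by
    intro b
    induction b using Finsupp.induction_linear with
    | zero => simp
    | add p q hp hq => simp only [map_add, hp, hq]
    | single i r =>
      rw [show vec (hV x) (Finsupp.single i r) = Finsupp.single i (rres (hV x) r) by simp [vec],
        Finsupp.linearCombination_single, Finsupp.linearCombination_single]
      refine (PresheafOfModules.map_smul _ f _ _).trans ?_
      exact congrArg (fun t => (R.over U).obj.map f r • t)
        (PresheafOfModules.sections_property (SheafOfModules.freeSection (R := R.over U) i) f)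
  rw [key, hb]
  exact hd x

end Over

/-- A presentation gives data on compact opens. -/
theorem exists_data (P : (M.over U).Presentation) {U₁ : Opens X} (hU₁ : U₁ ≤ U) (hc : IsCompact (U₁ : Set X)) :
    Nonempty (Data M U₁) := by
  let F := SheafOfModules.free (R := R.over U) P.generators.I
  let ι : kernel P.generators.π ⟶ F := kernel.ι _
  let z : ∀ (j : P.relations.I) {W : Opens X} (hW : W ≤ U), F.val.obj (objO hW) := fun j W hW =>
    (SheafOfModules.sectionsMap ι (P.relations.s j)).eval (objO hW)
  have hz : ∀ j {W V : Opens X} (hW : W ≤ U) (hV : V ≤ W) i,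
      co i (hV.trans hW) (z j (hV.trans hW)) = rres hV (co i hW (z j hW)) := fun j W V hW hV i =>
    (congrArg (co i (hV.trans hW)) (PresheafOfModules.sections_property
      (SheafOfModules.sectionsMap ι (P.relations.s j))
      (show objO hW ⟶ objO (hV.trans hW) from (Over.homMk (homOfLE hV)).op)).symm).trans (co_res i hW hV _)
  choose b hb hbz using fun j => exists_vec hU₁ hc (z j hU₁)
  have hπ : ∀ {W : Opens X} (hW : W ≤ U) (c : P.generators.I →₀ R.obj.obj (op W)),
      (P.generators.π.val.app (objO hW)).hom (Finsupp.linearCombination ((R.over U).obj.obj (objO hW))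
        (fun j => fe U P.generators.I j (objO hW)) c) =
      Finsupp.linearCombination (R.obj.obj (op W)) (fun i => res M hW (gsec P.generators i)) c := fun {W} hW c => by
    refine (Groth.L09.ModGen.π_linearCombination P.generators (objO hW) c).trans ?_
    congr 2
    funext i
    exact (PresheafOfModules.sections_property (P.generators.s i) (toO (objO hW))).symm
  refine ⟨{ I := P.generators.I, J := P.relations.I, s := fun i => res M hU₁ (gsec P.generators i), b := b,
            gen := fun W hW x hx y => ?_, rel_zero := fun j => ?_, rel := fun W hW c hc x hx => ?_ }⟩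
  · obtain ⟨V, hV, hxV, d, hd⟩ := exists_local_span P.generators (hW.trans hU₁) y x hx
    refine ⟨V, hV, hxV, Finsupp.mem_span_range_iff_exists_finsupp.2 ⟨d, ?_⟩⟩
    refine Eq.trans ?_ hd
    refine (Finsupp.linearCombination_apply _ _).symm.trans (congrArg (fun v => Finsupp.linearCombination _ v d) ?_)
    funext i
    exact (res_res M hU₁ (hV.trans hW) _).trans
      (PresheafOfModules.sections_property (P.generators.s i) (toO (objO ((hV.trans hW).trans hU₁))))
  · refine Eq.trans (hπ hU₁ (b j)).symm ?_
    rw [hbz]
    exact LinearMap.congr_fun (congrArg (fun φ => ((φ : _ ⟶ M.over U).val.app (objO hU₁)).hom)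
      (kernel.condition P.generators.π)) _
  · obtain ⟨k, hk⟩ := Groth.L09.ModGen.exists_kernel_lift P.generators.π (Z := objO (hW.trans hU₁))
      (Finsupp.linearCombination ((R.over U).obj.obj (objO (hW.trans hU₁)))
        (fun j => fe U P.generators.I j (objO (hW.trans hU₁))) c) (by
        refine (hπ (hW.trans hU₁) c).trans (Eq.trans ?_ hc)
        congr 2
        funext i
        exact (res_res M hU₁ hW _).symm)
    obtain ⟨V, hV, hxV, d, hd⟩ := exists_local_span P.relations (hW.trans hU₁) k x hx
    refine ⟨V, hV, hxV, Finsupp.mem_span_range_iff_exists_finsupp.2 ⟨d, Finsupp.ext fun i => ?_⟩⟩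
    have h1 := congrArg (co i (hV.trans (hW.trans hU₁)))
      ((congrArg (fun t => (ι.val.app (objO (hV.trans (hW.trans hU₁)))).hom t) hd).trans
        ((PresheafOfModules.naturality_apply ι.val (show objO (hW.trans hU₁) ⟶ objO (hV.trans (hW.trans hU₁)) from
          (Over.homMk (homOfLE hV)).op) k).trans (congrArg (F.val.map _).hom hk)))
    replace h1 := h1.trans ((co_res i (hW.trans hU₁) hV _).trans (congrArg (rres hV) (co_lc i _ c)))
    let O' := objO (hV.trans (hW.trans hU₁))
    let L := ((Groth.L09.ModGen.proj (R := R.over U) i).val.app O').hom.comp (ι.val.app O').hom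
    have h2 := Finsupp.apply_linearCombination ((R.over U).obj.obj O') L
      (fun j => (P.relations.s j).eval O') d
    rw [Finsupp.linearCombination_apply ((R.over U).obj.obj O') (v := ⇑L ∘ _)] at h2
    refine Eq.trans (Eq.trans ?_ h2.symm) h1
    rw [Finsupp.sum_apply]
    refine Finset.sum_congr rfl fun j _ => ?_
    show @Eq (R.obj.obj (op V)) ((show R.obj.obj (op V) from d j) * vec (hV.trans hW) (b j) i)
      ((show R.obj.obj (op V) from d j) * (show R.obj.obj (op V) from co i _ (z j (hV.trans (hW.trans hU₁)))))
    exact congrArg (fun t => (show R.obj.obj (op V) from d j) * t)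
      ((congrArg (rres (hV.trans hW)) (hb j i)).trans (hz j hU₁ (hV.trans hW) i).symm)

/-- Data give a presentation. -/
theorem nonempty_presentation (D : Data M U) : Nonempty (M.over U).Presentation := by
  classical
  let sec : D.I → (M.over U).sections := fun i => ofTop (M.over U) (D.s i)
  have hsec : ∀ i {W : Opens X} (hW : W ≤ U), (sec i).eval (objO hW) = res M hW (D.s i) := fun i W hW => rfl
  have hepi : Epi ((M.over U).freeHomEquiv.symm sec) := Preadditive.epi_of_cancel_zero _ fun {H} q hq => by
    have hq' : ∀ i (W : (Over U)ᵒᵖ), (q.val.app W).hom ((sec i).eval W) = 0 := fun i W => by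
      have h1 : SheafOfModules.ιFree i ≫ (M.over U).freeHomEquiv.symm sec = (M.over U).unitHomEquiv.symm (sec i) := by
        rw [← SheafOfModules.unitHomEquiv_symm_freeHomEquiv_apply, Equiv.apply_symm_apply]
      have h2 : (M.over U).unitHomEquiv.symm (sec i) ≫ q = 0 := by rw [← h1, Category.assoc, hq, comp_zero]
      rw [SheafOfModules.unitHomEquiv_symm_comp] at h2
      have h3 : SheafOfModules.sectionsMap q (sec i) = H.unitHomEquiv 0 := by rw [← h2, Equiv.apply_symm_apply]
      exact (congrArg (fun v => v.eval W) h3).trans rfl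
    refine SheafOfModules.hom_ext (PresheafOfModules.hom_ext fun W => ModuleCat.hom_ext (LinearMap.ext fun m => ?_))
    show (q.val.app W).hom m = 0
    refine eq_zero_of_cover H _ fun x hx => ?_
    obtain ⟨V, hV, hxV, hmem⟩ := D.gen (leOfHom W.unop.hom) x hx m
    obtain ⟨d, hd⟩ := Finsupp.mem_span_range_iff_exists_finsupp.1 hmem
    let f : W ⟶ objO (hV.trans (leOfHom W.unop.hom)) := (Over.homMk (homOfLE hV)).op
    refine ⟨V, hV, hxV, (PresheafOfModules.naturality_apply q.val f m).symm.trans ?_⟩
    refine (congrArg (q.val.app _).hom hd.symm).trans ?_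
    rw [map_finsuppSum]
    refine Finset.sum_eq_zero fun i _ => ?_
    exact (map_smul _ _ _).trans ((congrArg (fun t => d i • t)
      (hq' i (objO (hV.trans (leOfHom W.unop.hom))))).trans (smul_zero _))
  let σ : (M.over U).GeneratingSections := { I := D.I, s := sec, epi := hepi }
  let F := SheafOfModules.free (R := R.over U) D.I
  have hπ : ∀ (W : (Over U)ᵒᵖ) (c : D.I →₀ (R.over U).obj.obj W),
      (σ.π.val.app W).hom (Finsupp.linearCombination ((R.over U).obj.obj W) (fun j => fe U D.I j W) c) =
      Finsupp.linearCombination ((R.over U).obj.obj W) (fun i => (sec i).eval W) c := fun W c =>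
    Groth.L09.ModGen.π_linearCombination σ W c
  let w : D.J → F.val.obj (topO U) := fun j =>
    Finsupp.linearCombination ((R.over U).obj.obj (topO U)) (fun i => fe U D.I i (topO U)) (D.b j)
  have hw : ∀ j, (σ.π.val.app (topO U)).hom (w j) = 0 := fun j => by
    refine (hπ _ _).trans (Eq.trans ?_ (D.rel_zero j))
    congr 2
    funext i
    exact res_self M le_rfl (D.s i)
  choose k hk using fun j => (exists_kernel_section σ.π (topO U) (w j) (hw j)).1
  let kf : D.J → (kernel σ.π).sections := fun j => ofTop (kernel σ.π) (k j)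
  have hkι : ∀ j {W : Opens X} (hW : W ≤ U), ((kernel.ι σ.π).val.app (objO hW)).hom ((kf j).eval (objO hW)) =
      Finsupp.linearCombination ((R.over U).obj.obj (objO hW)) (fun i => fe U D.I i (objO hW)) (vec hW (D.b j)) := by
    intro j W hW
    let f : topO U ⟶ objO hW := toO (objO hW)
    refine (PresheafOfModules.naturality_apply (kernel.ι σ.π).val f (k j)).trans ?_
    refine (congrArg (F.val.map f).hom (hk j)).trans ?_
    show F.val.map f (Finsupp.linearCombination ((R.over U).obj.obj (topO U)) _ (D.b j)) = _
    induction D.b j using Finsupp.induction_linear with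
    | zero => simp
    | add p q hp hq => simp only [map_add, hp, hq]
    | single i r =>
      rw [show vec hW (Finsupp.single i r) = Finsupp.single i (rres hW r) by simp [vec],
        Finsupp.linearCombination_single, Finsupp.linearCombination_single]
      refine (PresheafOfModules.map_smul _ f _ _).trans ?_
      exact congrArg (fun t => (R.over U).obj.map f r • t)
        (PresheafOfModules.sections_property (SheafOfModules.freeSection (R := R.over U) i) f)
  refine ⟨{ generators := σ, relations := { I := D.J, s := kf, epi := ?_ } }⟩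
  refine Preadditive.epi_of_cancel_zero _ fun {H} q hq => ?_
  have hq' : ∀ j (W : (Over U)ᵒᵖ), (q.val.app W).hom ((kf j).eval W) = 0 := fun j W => by
    have h1 : SheafOfModules.ιFree j ≫ (kernel σ.π).freeHomEquiv.symm kf = (kernel σ.π).unitHomEquiv.symm (kf j) := by
      rw [← SheafOfModules.unitHomEquiv_symm_freeHomEquiv_apply, Equiv.apply_symm_apply]
    have h2 : (kernel σ.π).unitHomEquiv.symm (kf j) ≫ q = 0 := by rw [← h1, Category.assoc, hq, comp_zero]
    rw [SheafOfModules.unitHomEquiv_symm_comp] at h2
    have h3 : SheafOfModules.sectionsMap q (kf j) = H.unitHomEquiv 0 := by rw [← h2, Equiv.apply_symm_apply]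
    exact (congrArg (fun v => v.eval W) h3).trans rfl
  refine SheafOfModules.hom_ext (PresheafOfModules.hom_ext fun W => ModuleCat.hom_ext (LinearMap.ext fun m => ?_))
  show (q.val.app W).hom m = 0
  refine eq_zero_of_cover H _ fun x hx => ?_
  let hW : W.unop.left ≤ U := leOfHom W.unop.hom
  let f₀ : W ⟶ objO hW := (Over.homMk (homOfLE le_rfl)).op
  obtain ⟨V₀, hV₀, hxV₀, c, hc⟩ := exists_local_span (freeGen (R := R) D.I) hW
    (((kernel.ι σ.π).val.app (objO hW)).hom ((kernel σ.π).val.map f₀ m)) x hx
  let g : objO hW ⟶ objO (hV₀.trans hW) := (Over.homMk (homOfLE hV₀)).op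
  let m₀ : (kernel σ.π).val.obj (objO (hV₀.trans hW)) := (kernel σ.π).val.map g ((kernel σ.π).val.map f₀ m)
  have hm₀ : ((kernel.ι σ.π).val.app (objO (hV₀.trans hW))).hom m₀ =
      Finsupp.linearCombination ((R.over U).obj.obj (objO (hV₀.trans hW))) (fun i => fe U D.I i _) c :=
    (PresheafOfModules.naturality_apply (kernel.ι σ.π).val g _).trans hc.symm
  have hc0 : Finsupp.linearCombination (R.obj.obj (op V₀)) (fun i => res M (hV₀.trans hW) (D.s i)) c = 0 := by
    refine (hπ (objO (hV₀.trans hW)) c).symm.trans ((congrArg _ hm₀).symm.trans ?_)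
    exact LinearMap.congr_fun (congrArg (fun φ => ((φ : _ ⟶ M.over U).val.app _).hom) (kernel.condition σ.π)) m₀
  obtain ⟨V, hV, hxV, hmem⟩ := D.rel (hV₀.trans hW) c hc0 x hxV₀
  obtain ⟨d, hd⟩ := Finsupp.mem_span_range_iff_exists_finsupp.1 hmem
  refine ⟨V, hV.trans hV₀, hxV, ?_⟩
  let g' : objO (hV₀.trans hW) ⟶ objO ((hV.trans hV₀).trans hW) := (Over.homMk (homOfLE hV)).op
  let e : W ⟶ objO ((hV.trans hV₀).trans hW) := (Over.homMk (homOfLE (hV.trans hV₀))).op
  have he : e = f₀ ≫ g ≫ g' := Quiver.Hom.unop_inj (Over.OverMorphism.ext (Subsingleton.elim _ _))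
  refine (PresheafOfModules.naturality_apply q.val e m).symm.trans ?_
  have hm : ((kernel σ.π).val.map e m : (kernel σ.π).val.obj (objO ((hV.trans hV₀).trans hW))) =
      d.sum fun j r => r • (kf j).eval (objO ((hV.trans hV₀).trans hW)) := by
    refine (exists_kernel_section σ.π (objO ((hV.trans hV₀).trans hW)) 0 (map_zero _)).2 ?_
    have hme : ((kernel σ.π).val.map e m : (kernel σ.π).val.obj (objO ((hV.trans hV₀).trans hW))) =
        (kernel σ.π).val.map g' m₀ :=
      (congrArg (fun t => (kernel σ.π).val.presheaf.map t m) he).trans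
        ((PresheafOfModules.map_comp_apply _ f₀ (g ≫ g') m).trans (PresheafOfModules.map_comp_apply _ g g' _))
    refine Eq.trans (congrArg ((kernel.ι σ.π).val.app (objO ((hV.trans hV₀).trans hW))).hom hme) ?_
    refine (PresheafOfModules.naturality_apply (kernel.ι σ.π).val g' m₀).trans ?_
    refine (congrArg (F.val.map g').hom hm₀).trans ?_
    have key : ∀ c : D.I →₀ R.obj.obj (op V₀), (F.val.map g'
        (Finsupp.linearCombination ((R.over U).obj.obj (objO (hV₀.trans hW)))
          (fun i => fe U D.I i (objO (hV₀.trans hW))) c) : F.val.obj (objO ((hV.trans hV₀).trans hW))) =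
        Finsupp.linearCombination ((R.over U).obj.obj (objO ((hV.trans hV₀).trans hW)))
          (fun i => fe U D.I i (objO ((hV.trans hV₀).trans hW))) (vec hV c) := by
      intro c
      induction c using Finsupp.induction_linear with
      | zero => simp
      | add p q hp hq => simp only [map_add, hp, hq]
      | single i r =>
        rw [show vec hV (Finsupp.single i r) = Finsupp.single i (rres hV r) by simp [vec],
          Finsupp.linearCombination_single, Finsupp.linearCombination_single]
        refine (PresheafOfModules.map_smul _ g' _ _).trans ?_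
        exact congrArg (fun t => (R.over U).obj.map g' r • t)
          (PresheafOfModules.sections_property (SheafOfModules.freeSection (R := R.over U) i) g')
    refine (key c).trans ?_
    let O' := objO ((hV.trans hV₀).trans hW)
    let Φ : (D.I →₀ (R.over U).obj.obj O') →ₗ[(R.over U).obj.obj O'] F.val.obj O' :=
      Finsupp.linearCombination _ fun i => fe U D.I i O'
    let ιh := ((kernel.ι σ.π).val.app O').hom
    have e1 : Φ (vec hV c) = d.sum fun j r => Φ (r • vec ((hV.trans hV₀).trans hW) (D.b j)) :=
      (congrArg Φ hd.symm).trans (map_finsuppSum Φ d _)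
    have e2 : (d.sum fun j r => ιh (r • (kf j).eval O')) = ιh (d.sum fun j r => r • (kf j).eval O') :=
      (map_finsuppSum ιh d _).symm
    refine e1.trans (Eq.trans ?_ e2)
    refine Finset.sum_congr rfl fun j _ => ?_
    refine (Φ.map_smul _ _).trans (Eq.trans ?_ (ιh.map_smul _ _).symm)
    exact congrArg (fun t => d j • t) (hkι j ((hV.trans hV₀).trans hW)).symm
  rw [hm, map_finsuppSum]
  refine Finset.sum_eq_zero fun j _ => ?_
  exact (map_smul _ _ _).trans ((congrArg (fun t => d j • t) (hq' j _)).trans (smul_zero _))

/-- A module with data near every point is quasi-coherent. -/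
theorem isQuasicoherent_of_data (h : ∀ x : X, ∃ U : Opens X, x ∈ U ∧ Nonempty (Data M U)) : M.IsQuasicoherent := by
  choose U hU hD using h
  let q : SheafOfModules.QuasicoherentData.{u} (R := R) M :=
    SheafOfModules.QuasicoherentData.mk.{u, u, u, u} (R := R) (M := M) (↥X) U
      (coversTop U fun x => ⟨x, hU x⟩) fun x => (nonempty_presentation (hD x).some).some
  exact q.isQuasicoherent

/-- A quasi-coherent module has data on compact neighbourhoods. -/
theorem exists_open_data [M.IsQuasicoherent] (x : X) : ∃ U : Opens X, x ∈ U ∧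
    ∀ U₁ : Opens X, U₁ ≤ U → IsCompact (U₁ : Set X) → Nonempty (Data M U₁) := by
  obtain ⟨q⟩ := SheafOfModules.IsQuasicoherent.nonempty_quasicoherentData.{u} (M := M)
  obtain ⟨i, hi⟩ := Opens.mem_iSup.1 (show x ∈ ⨆ i, q.X i from
    (show TopologicalSpace.IsOpenCover q.X from (Opens.coversTop_iff _ q.X).1 q.coversTop).symm ▸ Opens.mem_top x)
  exact ⟨q.X i, hi, fun U₁ h hc => exists_data (q.presentation i) h hc⟩

end Groth.L09.IndCoh.Pres
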