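import Groth.Agent.L09.IndCoh.Closure
import Groth.Agent.L09.IndCoh.OpensQC

/-!
# Quasi-coherent modules on formal schemes through relations and generators
-/

set_option autoImplicit false
set_option linter.style.haveILetI false
set_option linter.unusedSectionVars false
set_option backward.isDefEq.respectTransparency false
set_option backward.isDefEq.respectTransparency.types false

universe u

open CategoryTheory CategoryTheory.Limits AlgebraicGeometry TopologicalSpace Opposite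

noncomputable section

namespace Groth.L09.IndCoh

open Groth.L17.FSheaf

variable {𝔛 : FSch.Sys.{u}} (hX : 𝔛.IsLocNoethFormal)

/-- Restriction of coefficient vectors. -/
abbrev vecO {U V : (𝔛.X 0).Opens} {I : Type u} (e : V ≤ U) : (I →₀ O 𝔛 hX.1 U) →+ (I →₀ O 𝔛 hX.1 V) :=
  Pres.vec (R := ModSite.ringSh (𝔛.Osh hX.1)) e

theorem vecO_single {U V : (𝔛.X 0).Opens} {I : Type u} (e : V ≤ U) (i : I) (r : O 𝔛 hX.1 U) :
    vecO hX e (Finsupp.single i r) = Finsupp.single i (resO 𝔛 hX.1 e r) :=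
  Finsupp.mapRange_single (hf := map_zero _)

/-- Relations between coefficient vectors over an affine open restrict. -/
theorem relGen_vectors {U : (𝔛.X 0).Opens} (hU : IsAffineOpen U) {I : Type u} {n : ℕ}
    (v : Fin n → I →₀ O 𝔛 hX.1 U) {W : (𝔛.X 0).Opens} (hW : W ≤ U) (c : Fin n → O 𝔛 hX.1 W)
    (hc : ∀ k, ∑ i, c i * resO 𝔛 hX.1 hW (v i k) = 0) (p : 𝔛.X 0) (hp : p ∈ W) :
    ∃ (V : (𝔛.X 0).Opens) (hV : V ≤ W), p ∈ V ∧ (fun i => resO 𝔛 hX.1 hV (c i)) ∈
      Submodule.span (O 𝔛 hX.1 V) ((fun (r : Fin n → O 𝔛 hX.1 U) i => resO 𝔛 hX.1 (hV.trans hW) (r i)) ''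
        {r | ∀ k, ∑ i, r i * v i k = 0}) := by
  classical
  let R := ModSite.ringSh (𝔛.Osh hX.1)
  let S := Finset.univ.biUnion fun i => (v i).support
  let K := ULift.{u} (Fin S.card)
  let t : K → I := fun k => (S.equivFin.symm k.down).1
  let F : FSch.ModF 𝔛 hX.1 := SheafOfModules.free (R := R) K
  have hF : FSch.IsCohF 𝔛 hX.1 F := isFinitePresentation_free (R := R) _
  let w : Fin n → SF 𝔛 hX.1 F U := fun i => ∑ k, v i (t k) • e₀ (R := R) K k (op U)
  have hw : ∀ {V : (𝔛.X 0).Opens} (e : V ≤ U) (a : Fin n → O 𝔛 hX.1 V),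
      ∑ i, a i • rsF F e (w i) =
        ∑ k, (∑ i, a i * resO 𝔛 hX.1 e (v i (t k))) • (e₀ (R := R) K k (op V) : SF 𝔛 hX.1 F V) := by
    intro V e a
    simp only [Finset.sum_smul]
    rw [Finset.sum_comm]
    refine Finset.sum_congr rfl fun i _ => ?_
    rw [show rsF F e (w i) = ∑ k, resO 𝔛 hX.1 e (v i (t k)) • (e₀ (R := R) K k (op V) : SF 𝔛 hX.1 F V) from
      (res_sum (R := R) F Finset.univ e _).trans (Finset.sum_congr rfl fun k _ =>
        (res_smul (R := R) F e _ _).trans (congrArg (fun s => rres (R := R) e (v i (t k)) • s)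
          (PresheafOfModules.sections_property (SheafOfModules.freeSection (R := R) k) (homOfLE e).op))),
      Finset.smul_sum]
    exact Finset.sum_congr rfl fun k _ => smul_smul _ _ _
  obtain ⟨V, hV, hpV, hmem⟩ := relGen_coh hX hF hU w hW c
    ((hw hW c).trans (Finset.sum_eq_zero fun k _ => by rw [hc, zero_smul])) p hp
  refine ⟨V, hV, hpV, Submodule.span_mono (Set.image_mono ?_) hmem⟩
  intro r hr k
  by_cases hk : k ∈ S
  · obtain ⟨k', rfl⟩ : ∃ k' : K, t k' = k :=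
      ⟨⟨S.equivFin ⟨k, hk⟩⟩, congrArg Subtype.val (S.equivFin.symm_apply_apply _)⟩
    refine coeff_eq_zero (R := R) (op U) (fun k => ∑ i, r i * v i (t k)) ?_ k'
    refine Eq.trans ?_ (mem_Rels.1 hr)
    simp only [Finset.sum_smul]
    rw [Finset.sum_comm]
    refine Finset.sum_congr rfl fun i _ => ?_
    show _ = r i • ∑ k, v i (t k) • e₀ (R := R) K k (op U)
    rw [Finset.smul_sum]
    exact Finset.sum_congr rfl fun k _ => (smul_smul _ _ _).symm
  · refine Finset.sum_eq_zero fun i _ => ?_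
    rw [Finsupp.notMem_support_iff.1 fun h => hk (Finset.mem_biUnion.2 ⟨i, Finset.mem_univ i, h⟩), mul_zero]

variable {M : FSch.ModF 𝔛 hX.1}

/-- Quasi-coherent modules have generated relations. -/
theorem qr_of_qcoh [SheafOfModules.IsQuasicoherent.{u} M] : QR M := by
  classical
  intro U n y x hx
  obtain ⟨U', hxU', hD⟩ := Pres.exists_open_data (R := ModSite.ringSh (𝔛.Osh hX.1)) (M := M) x
  obtain ⟨U₁, hU₁, hxU₁, hle₁⟩ := Opens.isBasis_iff_nbhd.1 (𝔛.X 0).isBasis_affineOpens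
    (show x ∈ U' ⊓ U from ⟨hxU', hx⟩)
  obtain ⟨D⟩ := hD U₁ (hle₁.trans inf_le_left) hU₁.isCompact
  let s : D.I → SF 𝔛 hX.1 M U₁ := D.s
  choose V hV hxV hm using fun i => D.gen le_rfl x hxU₁ (rsF M (hle₁.trans inf_le_right) (y i))
  obtain ⟨V', hxV', hV'⟩ : ∃ V' : (𝔛.X 0).Opens, x ∈ V' ∧ ∀ i, V' ≤ V i :=
    ⟨⟨⋂ i, (V i : Set (𝔛.X 0)), isOpen_iInter_of_finite fun i => (V i).2⟩, Set.mem_iInter.2 hxV,
      fun i => Set.iInter_subset (fun i => (V i : Set (𝔛.X 0))) i⟩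
  obtain ⟨U₂, hU₂, hxU₂, hle₂⟩ := Opens.isBasis_iff_nbhd.1 (𝔛.X 0).isBasis_affineOpens
    (show x ∈ V' ⊓ U₁ from ⟨hxV', hxU₁⟩)
  let e₁ : U₂ ≤ U₁ := hle₂.trans inf_le_right
  choose d hd using fun i => Finsupp.mem_span_range_iff_exists_finsupp.1 (hm i)
  let d' : Fin n → D.I →₀ O 𝔛 hX.1 U₂ := fun i => vecO hX ((hle₂.trans inf_le_left).trans (hV' i)) (d i)
  have hd' : ∀ i, rsF M (e₁.trans (hle₁.trans inf_le_right)) (y i) =
      Finsupp.linearCombination (O 𝔛 hX.1 U₂) (fun k => rsF M e₁ (s k)) (d' i) := by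
    intro i
    have h1 := congrArg (rsF M ((hle₂.trans inf_le_left).trans (hV' i))) (hd i).symm
    rw [rsF_rsF, rsF_rsF] at h1
    refine h1.trans ?_
    refine Eq.trans ?_ ((Pres.res_lc (R := ModSite.ringSh (𝔛.Osh hX.1)) M ((hle₂.trans inf_le_left).trans (hV' i))
      (fun k => rsF M (hV i) (s k)) (d i)).trans ?_)
    · exact congrArg _ (Finsupp.linearCombination_apply _ _).symm
    · refine congrArg (fun v => Finsupp.linearCombination _ v (d' i)) (funext fun k => ?_)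
      exact res_res (R := ModSite.ringSh (𝔛.Osh hX.1)) M _ _ _
  refine ⟨U₂, e₁.trans (hle₁.trans inf_le_right), hU₂, hxU₂, fun W hW c hc p hp => ?_⟩
  let Φ : (D.I →₀ O 𝔛 hX.1 W) →ₗ[O 𝔛 hX.1 W] SF 𝔛 hX.1 M W :=
    Finsupp.linearCombination _ fun k => rsF M (hW.trans e₁) (s k)
  let cv : D.I →₀ O 𝔛 hX.1 W := ∑ i, c i • (vecO hX hW (d' i) : D.I →₀ O 𝔛 hX.1 W)
  have hcv : Φ cv = 0 := by
    refine ((map_sum Φ _ _).trans (Finset.sum_congr rfl fun i _ => ?_)).trans hc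
    refine (map_smul Φ _ _).trans (congrArg (fun z => c i • z) (Eq.symm ?_))
    refine (congrArg (rsF M hW) (hd' i)).trans ((Pres.res_lc (R := ModSite.ringSh (𝔛.Osh hX.1)) M hW _ _).trans ?_)
    exact congrArg (fun v => Finsupp.linearCombination _ v (vecO hX hW (d' i)))
      (funext fun k => res_res (R := ModSite.ringSh (𝔛.Osh hX.1)) M _ _ _)
  obtain ⟨V₁, hV₁, hpV₁, hspan⟩ := D.rel (hW.trans e₁) cv hcv p hp
  obtain ⟨m, j, g, hg⟩ := exists_fin_span (A := O 𝔛 hX.1 V₁) (P := D.I →₀ O 𝔛 hX.1 V₁)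
    (v := fun j => vecO hX (hV₁.trans (hW.trans e₁)) (D.b j)) hspan
  let b' : Fin m → D.I →₀ O 𝔛 hX.1 U₂ := fun l => vecO hX e₁ (D.b (j l))
  let v : Fin (n + m) → D.I →₀ O 𝔛 hX.1 U₂ := Fin.append d' b'
  let a : Fin (n + m) → O 𝔛 hX.1 V₁ := Fin.append (fun i => resO 𝔛 hX.1 hV₁ (c i)) fun l => - g l
  obtain ⟨V₂, hV₂, hpV₂, hmem⟩ := relGen_vectors hX hU₂ v (hV₁.trans hW) a (fun k => by
    rw [Fin.sum_univ_add]
    simp only [a, v, Fin.append_left, Fin.append_right, neg_mul, Finset.sum_neg_distrib]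
    rw [← sub_eq_add_neg, sub_eq_zero]
    have h1 := DFunLike.congr_fun hg k
    rw [Finsupp.coe_finsetSum, Finset.sum_apply] at h1
    refine Eq.trans ?_ (h1.trans (Finset.sum_congr rfl fun l _ => ?_))
    · refine Eq.trans ?_ (congrArg (resO 𝔛 hX.1 hV₁) (Finsupp.finsetSum_apply Finset.univ _ k)).symm
      rw [map_sum]
      refine Finset.sum_congr rfl fun i _ => Eq.trans ?_ (map_mul _ _ _).symm
      exact congrArg (fun z => resO 𝔛 hX.1 hV₁ (c i) * z) (resO_resO hW hV₁ (d' i k)).symm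
    · exact congrArg (fun z => g l * z) (resO_resO e₁ (hV₁.trans hW) (D.b (j l) k)).symm) p hpV₁
  refine ⟨V₂, hV₂.trans hV₁, hpV₂, ?_⟩
  let pr : (Fin (n + m) → O 𝔛 hX.1 V₂) →ₗ[O 𝔛 hX.1 V₂] (Fin n → O 𝔛 hX.1 V₂) :=
    LinearMap.funLeft _ _ (Fin.castAdd m)
  have hle' : Submodule.span (O 𝔛 hX.1 V₂)
      ((fun (r : Fin (n + m) → O 𝔛 hX.1 U₂) i => resO 𝔛 hX.1 (hV₂.trans (hV₁.trans hW)) (r i)) ''
        {r | ∀ k, ∑ i, r i * v i k = 0}) ≤
      (resRels M ((hV₂.trans hV₁).trans hW)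
        (fun i => rsF M (e₁.trans (hle₁.trans inf_le_right)) (y i))).comap pr := by
    refine Submodule.span_le.2 ?_
    rintro _ ⟨r, hr, rfl⟩
    refine Submodule.subset_span ⟨fun i => r (Fin.castAdd m i), mem_Rels.2 ?_, rfl⟩
    let Ψ : (D.I →₀ O 𝔛 hX.1 U₂) →ₗ[O 𝔛 hX.1 U₂] SF 𝔛 hX.1 M U₂ :=
      Finsupp.linearCombination _ fun k => rsF M e₁ (s k)
    have h0 : Ψ (∑ l, r l • v l) = 0 := by
      rw [show ∑ l, r l • v l = 0 from Finsupp.ext fun k => (Finsupp.finsetSum_apply _ _ _).trans (hr k), map_zero]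
    rw [map_sum, Fin.sum_univ_add] at h0
    simp only [map_smul, v, Fin.append_left, Fin.append_right] at h0
    rw [Finset.sum_eq_zero (f := fun l => r (Fin.natAdd n l) • Ψ (b' l)) fun l _ => ?_, add_zero] at h0
    · exact (Finset.sum_congr rfl fun i _ => congrArg (fun z => r (Fin.castAdd m i) • z) (hd' i)).trans h0
    · rw [show Ψ (b' l) = 0 from ((Pres.res_lc (R := ModSite.ringSh (𝔛.Osh hX.1)) M e₁ _ _).symm.trans
        ((congrArg (rsF M e₁) (D.rel_zero (j l))).trans (res_zero _ _))), smul_zero]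
  have h3 := hle' hmem
  rw [Submodule.mem_comap] at h3
  convert h3 using 1
  funext i
  show _ = resO 𝔛 hX.1 hV₂ (a (Fin.castAdd m i))
  simp only [a, Fin.append_left]
  exact (resO_resO hV₁ hV₂ (c i)).symm

/-- Quasi-coherent modules are locally generated by sections. -/
theorem lGen_of_qcoh [SheafOfModules.IsQuasicoherent.{u} M] : LGen M := fun x => by
  obtain ⟨U', hxU', hD⟩ := Pres.exists_open_data (R := ModSite.ringSh (𝔛.Osh hX.1)) (M := M) x
  obtain ⟨U₁, hU₁, hxU₁, hle₁⟩ := Opens.isBasis_iff_nbhd.1 (𝔛.X 0).isBasis_affineOpens hxU'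
  obtain ⟨D⟩ := hD U₁ hle₁ hU₁.isCompact
  refine ⟨U₁, hU₁, hxU₁, fun W hW z p hp => ?_⟩
  obtain ⟨V, hV, hpV, hmem⟩ := D.gen hW p hp z
  refine ⟨V, hV, hpV, ?_⟩
  refine (Submodule.span_mono ?_ hmem :)
  rintro _ ⟨i, rfl⟩
  exact ⟨D.s i, rfl⟩

/-- Locally generated modules with generated relations are quasi-coherent. -/
theorem qcoh_of_qr_lGen (hR : QR M) (hG : LGen M) : SheafOfModules.IsQuasicoherent.{u} M := by
  classical
  refine Pres.isQuasicoherent_of_data (R := ModSite.ringSh (𝔛.Osh hX.1)) (M := M) fun x => ?_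
  obtain ⟨U, hU, hxU, hg⟩ := hG x
  let L : (SF 𝔛 hX.1 M U →₀ O 𝔛 hX.1 U) →ₗ[O 𝔛 hX.1 U] SF 𝔛 hX.1 M U := Finsupp.linearCombination _ id
  refine ⟨U, hxU, ⟨{ I := SF 𝔛 hX.1 M U, J := {b // L b = 0}, s := id, b := Subtype.val,
                     gen := ?_, rel_zero := fun j => j.2, rel := ?_ }⟩⟩
  · intro W hW p hp z
    exact hg hW z p hp
  intro W hW c hc p hp
  let c₀ : SF 𝔛 hX.1 M U →₀ O 𝔛 hX.1 W := c
  let n := c₀.support.card
  let t : Fin n → SF 𝔛 hX.1 M U := fun i => (c₀.support.equivFin.symm i).1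
  have hsum : ∀ {P : Type u} [AddCommMonoid P] (f : SF 𝔛 hX.1 M U → O 𝔛 hX.1 W → P),
      c₀.sum f = ∑ i, f (t i) (c₀ (t i)) := fun f =>
    (Finset.sum_coe_sort c₀.support fun s => f s (c₀ s)).symm.trans
      (Equiv.sum_comp c₀.support.equivFin.symm fun s => f s.1 (c₀ s.1)).symm
  obtain ⟨V, hV, hpV, hmem⟩ := relGen_affine hX hR hU t hW (fun i => c₀ (t i)) (by
    refine Eq.trans (hsum fun s r => r • rsF M hW s).symm (Eq.trans ?_ hc)
    exact (Finsupp.linearCombination_apply _ _).symm) p hp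
  refine ⟨V, hV, hpV, ?_⟩
  let S : Submodule (O 𝔛 hX.1 V) (SF 𝔛 hX.1 M U →₀ O 𝔛 hX.1 V) := Submodule.span _
    (Set.range fun j : {b // L b = 0} => vecO hX (hV.trans hW) j.1)
  have h1 := lincomb_mem (w := fun i => Finsupp.single (t i) (1 : O 𝔛 hX.1 V)) (S := S) (fun r hr => by
    refine Submodule.subset_span ⟨⟨∑ i, Finsupp.single (t i) (r i), ?_⟩, ?_⟩
    · rw [map_sum]
      refine Eq.trans (Finset.sum_congr rfl fun i _ => ?_) hr
      exact Finsupp.linearCombination_single _ _ _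
    · refine (map_sum (vecO hX (hV.trans hW)) _ _).trans (Finset.sum_congr rfl fun i _ => ?_)
      rw [vecO_single, Finsupp.smul_single, smul_eq_mul, mul_one]) hmem
  refine (?_ : vecO hX hV c₀ ∈ S)
  convert h1 using 1
  refine (congrArg (vecO hX hV) ((Finsupp.sum_single c₀).symm.trans (hsum Finsupp.single))).trans ?_
  refine (map_sum (vecO hX hV) _ _).trans (Finset.sum_congr rfl fun i _ => ?_)
  rw [vecO_single, Finsupp.smul_single, smul_eq_mul, mul_one]

/-- Quasi-coherence through relations and generators. -/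
theorem qcoh_iff : SheafOfModules.IsQuasicoherent.{u} M ↔ QR M ∧ LGen M :=
  ⟨fun _ => ⟨qr_of_qcoh hX, lGen_of_qcoh hX⟩, fun h => qcoh_of_qr_lGen hX h.1 h.2⟩

end Groth.L09.IndCoh
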