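import Groth.Agent.L09.IndCoh.RestrictBack
import Groth.Agent.L09.RHomSite.Complexes
import Groth.Agent.L09.RHomSite.FreeSec
import Groth.Agent.L17.IndRpush.WeakSerre

/-!
# Internal derived Hom of coherent complexes on formal schemes
-/

set_option autoImplicit false
set_option linter.style.haveILetI false
set_option linter.unusedSectionVars false
set_option backward.defeqAttrib.useBackward true
set_option backward.isDefEq.respectTransparency false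
set_option backward.isDefEq.respectTransparency.types false

universe u

open CategoryTheory CategoryTheory.Limits AlgebraicGeometry TopologicalSpace Opposite

attribute [local instance] HasDerivedCategory.standard

noncomputable section

namespace Groth.L09.IndCoh

open Groth.L17.FSheaf Groth.L09.RHomSite

variable {𝔛 : FSch.Sys.{u}} (hX : 𝔛.IsLocNoethFormal) (U : (𝔛.X 0).Opens)

/-- Quasi-coherence over an open. -/
def qcohAt (M : FSch.ModF 𝔛 hX.1) : Prop := QR ((rf 𝔛 hX.1 U).obj M) ∧ LGen ((rf 𝔛 hX.1 U).obj M)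

/-- Coherence over an open. -/
def cohAt (M : FSch.ModF 𝔛 hX.1) : Prop :=
  FSch.IsCohF (R' 𝔛 hX.1 U) (h' 𝔛 hX.1 U) ((rf 𝔛 hX.1 U).obj M)

theorem plump_qcohAt : Plump (qcohAt hX U) := by
  obtain ⟨h₁, h₂⟩ := preservesFinite_rf hX U
  let F := rf 𝔛 hX.1 U
  refine ⟨fun e h => ⟨h.1.of_mono (F.map e.inv), lGen_of_epi (hX' hX U) h.2 (F.map e.hom)⟩,
    fun f hM hN => ?_, fun f hM hN => ?_, fun S hS h1 h3 => ?_⟩
  · let e := PreservesKernel.iso F f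
    exact ⟨(hM.1.of_mono (kernel.ι (F.map f))).of_mono e.hom,
      lGen_of_epi (hX' hX U) (lGen_kernel (hX' hX U) hM.2 hN.1 (F.map f)) e.inv⟩
  · let e := PreservesCokernel.iso F f
    exact ⟨(qr_cokernel (hX' hX U) hM.2 hN.1 (F.map f)).of_mono e.hom,
      lGen_of_epi (hX' hX U) (lGen_of_epi (hX' hX U) hN.2 (cokernel.π (F.map f))) e.inv⟩
  · have hS' := hS.map_of_exact F
    haveI := hS'.mono_f
    haveI := hS'.epi_g
    have hex := Groth.L17.IndRpush.shortExact_sections (hX' hX U) hS'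
    have hB : QR (S.map F).X₂ := qr_ext (hX' hX U) (S.map F).f (S.map F).g hex h1.1 h3.1
    exact ⟨hB, lGen_ext (hX' hX U) (S.map F).f (S.map F).g (S.map F).zero hex hB h1.2 h3.2⟩

theorem plump_cohAt : Plump (cohAt hX U) := by
  obtain ⟨h₁, h₂⟩ := preservesFinite_rf hX U
  let F := rf 𝔛 hX.1 U
  exact ⟨fun e h => isCohF_of_iso (hX' hX U) h (F.mapIso e),
    fun f hM hN => isCohF_of_iso (hX' hX U) (isCohF_kernel (R' 𝔛 hX.1 U) (hX' hX U) hM hN (F.map f))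
      (PreservesKernel.iso F f).symm,
    fun f hM hN => isCohF_of_iso (hX' hX U) (isCohF_cokernel (R' 𝔛 hX.1 U) (hX' hX U) hM hN (F.map f))
      (PreservesCokernel.iso F f).symm,
    fun _ hS h1 h3 => Groth.L17.IndRpush.isCohF_ext (hX' hX U) (hS.map_of_exact F) h1 h3⟩

theorem isZero_rf {M : FSch.ModF 𝔛 hX.1} (h : ZU U M) : IsZero ((rf 𝔛 hX.1 U).obj M) := by
  refine (IsZero.iff_id_eq_zero _).2 (SheafOfModules.Hom.ext (PresheafOfModules.hom_ext fun T =>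
    ModuleCat.hom_ext (LinearMap.ext fun x => ?_)))
  exact congrArg (fun t : (ModSite.restr (𝔛.Osh hX.1) U).obj M ⟶ (ModSite.restr (𝔛.Osh hX.1) U).obj M =>
    t.val.app (op (Over.mk (homOfLE (im_le 𝔛 hX.1 U T.unop)))) x) ((IsZero.iff_id_eq_zero _).1 h)

theorem cohAt_of_zu {M : FSch.ModF 𝔛 hX.1} (h : ZU U M) : cohAt hX U M :=
  isCohF_zero (hX' hX U) (isZero_rf hX U h)

theorem qcohAt_of_cohAt {M : FSch.ModF 𝔛 hX.1} (h : cohAt hX U M) : qcohAt hX U M :=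
  ⟨qr_coh (hX' hX U) h, lGen_coh (hX' hX U) h⟩

theorem cohAt_freeOn : cohAt hX U (ModSite.freeOn (𝔛.Osh hX.1) U) := by
  let X' := R' 𝔛 hX.1 U
  let E := eR 𝔛 hX.1 U
  let M := ModSite.freeOn (𝔛.Osh hX.1) U
  let one : SF 𝔛 hX.1 M U := oneSec (𝔛.Osh hX.1) U
  let g : SF X' (h' 𝔛 hX.1 U) ((rf 𝔛 hX.1 U).obj M) ⊤ := up 𝔛 hX.1 U ⊤ (rsF M (im_le 𝔛 hX.1 U ⊤) one)
  have key : ∀ (V : (X'.X 0).Opens) (a : O 𝔛 hX.1 (ι₀ 𝔛 hX.1 U ''ᵁ V)),
      E V a • rsF ((rf 𝔛 hX.1 U).obj M) (le_top : V ≤ ⊤) g = up 𝔛 hX.1 U V (a • rsF M (im_le 𝔛 hX.1 U V) one) :=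
    fun V a => (congrArg (fun t => E V a • up 𝔛 hX.1 U V t)
      (rsF_rsF M (im_le 𝔛 hX.1 U ⊤) ((ι₀ 𝔛 hX.1 U).image_mono (le_top : V ≤ ⊤)) one)).trans (smul_up 𝔛 hX.1 U V a _)
  refine isFinitePresentation_of_local (R := ModSite.ringSh (X'.Osh (h' 𝔛 hX.1 U))) (B := Set.univ)
    (Opens.isBasis_iff_nbhd.2 fun {W x} hx => ⟨W, trivial, hx, le_rfl⟩) _ fun x => ?_
  refine ⟨⊤, trivial, 1, 0, fun _ => g, fun j => j.elim0, fun V _ h => ?_, fun j => j.elim0, fun V _ h a ha => ?_⟩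
  · refine eq_top_iff.2 fun y _ => ?_
    obtain ⟨a, ha⟩ := (bijective_smul_oneSec (𝔛.Osh hX.1) U (homOfLE (im_le 𝔛 hX.1 U V))).2 y
    refine (Submodule.mem_span_range_iff_exists_fun _).2 ⟨fun _ => E V a, ?_⟩
    rw [Fin.sum_univ_one]
    exact (key V a).trans ha
  · refine ⟨fun j => j.elim0, fun i => ?_⟩
    rw [Fin.sum_univ_one] at ha
    rw [Finset.univ_eq_empty, Finset.sum_empty, Subsingleton.elim i 0]
    obtain ⟨b, hb⟩ := (E V).surjective (a 0)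
    rw [← hb] at ha ⊢
    have h0 : b • rsF M (im_le 𝔛 hX.1 U V) one = (0 : O 𝔛 hX.1 (ι₀ 𝔛 hX.1 U ''ᵁ V)) • rsF M (im_le 𝔛 hX.1 U V) one :=
      ((key V b).symm.trans ha).trans
        (zero_smul (O 𝔛 hX.1 (ι₀ 𝔛 hX.1 U ''ᵁ V)) (rsF M (im_le 𝔛 hX.1 U V) one)).symm
    have h1 : b = 0 := (bijective_smul_oneSec (𝔛.Osh hX.1) U (homOfLE (im_le 𝔛 hX.1 U V))).1 h0
    rw [h1]
    exact map_zero _

theorem cohAt_coprod (n : ℕ) :
    cohAt hX U (∐ fun _ : ULift.{u} (Fin n) => ModSite.freeOn (𝔛.Osh hX.1) U) := by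
  have hP := plump_cohAt hX U
  refine Groth.L09.RHomSite.finCoprod_induction (cohAt hX U) (fun h e => hP.iso e h)
    (fun M hM => cohAt_of_zu hX U ((ModSite.restr _ U).map_isZero hM)) (fun M N hM hN => ?_) _ _
    fun _ => cohAt_freeOn hX U
  exact hP.ext _ ({ r := biprod.fst, s := biprod.inr } :
    (ShortComplex.mk (biprod.inl : M ⟶ M ⊞ N) biprod.snd (by simp)).Splitting).shortExact hM hN

/-- Modules coherent on an affine open are presented there. -/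
theorem exists_pres (hU : IsAffineOpen U) {M : FSch.ModF 𝔛 hX.1} (hM : cohAt hX U M) :
    ∃ (n : ℕ) (f : (∐ fun _ : ULift.{u} (Fin n) => ModSite.freeOn (𝔛.Osh hX.1) U) ⟶ M),
      ZU U (cokernel f) ∧ cohAt hX U (kernel f) := by
  haveI : IsAffine ((R' 𝔛 hX.1 U).X 0) := isAffineOpen_lvU 𝔛 hX.1 hU 0
  obtain ⟨n, g, hg⟩ := exists_gens (hX' hX U) hM (isAffineOpen_top _)
  have hUT : U ≤ ι₀ 𝔛 hX.1 U ''ᵁ ⊤ := fun z hz => ⟨⟨z, (lvU_zero 𝔛 hX.1 U).ge hz⟩, trivial, rfl⟩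
  let g' : Fin n → SF 𝔛 hX.1 M U := fun i => rsF M hUT (g i)
  let f : (∐ fun _ : ULift.{u} (Fin n) => ModSite.freeOn (𝔛.Osh hX.1) U) ⟶ M :=
    Sigma.desc fun i => ofSec (𝔛.Osh hX.1) U (g' i.down)
  have hf : ∀ i : Fin n, ∃ e, apF f U e = g' i := fun i => by
    refine ⟨apF (Sigma.ι (fun _ : ULift.{u} (Fin n) => ModSite.freeOn (𝔛.Osh hX.1) U) ⟨i⟩) U
      (oneSec (𝔛.Osh hX.1) U), ?_⟩
    exact (apF_congr hX (Sigma.ι_desc _ _) U _).trans (ofSec_oneSec (𝔛.Osh hX.1) U (g' i))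
  refine ⟨n, f, isZero_restr_of_sections U fun W z => ?_, (plump_cohAt hX U).ker f (cohAt_coprod hX U n) hM⟩
  let π := cokernel.π f
  refine eq_of_locally (R := ModSite.ringSh (𝔛.Osh hX.1)) _ z 0 fun y hy => ?_
  obtain ⟨V₀, hV₀, hyV₀, a, ha⟩ := exists_lift π z y hy
  obtain ⟨V, hV, hyV, hVV₀⟩ := Opens.isBasis_iff_nbhd.1 (𝔛.X 0).isBasis_affineOpens hyV₀
  obtain ⟨B, rfl⟩ := exists_image hX (hVV₀.trans (hV₀.trans W.hom.le))
  refine ⟨_, hVV₀.trans hV₀, hyV, Eq.trans ?_ (res_zero _ _).symm⟩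
  obtain ⟨c, hc⟩ := hg (isAffineOpen_of_image hX hV) (le_top : B ≤ ⊤) (up 𝔛 hX.1 U B (rsF M hVV₀ a))
  choose e he using hf
  let e₁ := im_le 𝔛 hX.1 U B
  have h2 : ∀ i, apF f (ι₀ 𝔛 hX.1 U ''ᵁ B) ((eR 𝔛 hX.1 U B).symm (c i) • rsF _ e₁ (e i)) =
      (eR 𝔛 hX.1 U B).symm (c i) • rsF M ((ι₀ 𝔛 hX.1 U).image_mono (le_top : B ≤ ⊤))
        (show SF 𝔛 hX.1 M (ι₀ 𝔛 hX.1 U ''ᵁ ⊤) from g i) := fun i =>
    (map_smul _ _ _).trans (congrArg (fun t => (eR 𝔛 hX.1 U B).symm (c i) • t)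
      ((apF_rsF f e₁ (e i)).trans ((congrArg (rsF M e₁) (he i)).trans (rsF_rsF M hUT e₁ (g i)))))
  have h1 : rsF M hVV₀ a = apF f (ι₀ 𝔛 hX.1 U ''ᵁ B)
      (∑ i, (eR 𝔛 hX.1 U B).symm (c i) • rsF _ e₁ (e i)) := by
    rw [map_sum, Finset.sum_congr rfl fun i _ => h2 i]
    refine hc.trans (Finset.sum_congr rfl fun i _ => ?_)
    exact (congrArg (fun b => b • rsF ((rf 𝔛 hX.1 U).obj M) (le_top : B ≤ ⊤) (g i))
      ((eR 𝔛 hX.1 U B).apply_symm_apply (c i)).symm).trans (smul_up 𝔛 hX.1 U B _ _)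
  refine (rsF_rsF (cokernel f) hV₀ hVV₀ z).symm.trans ((congrArg (rsF (cokernel f) hVV₀) ha.symm).trans
    ((apF_rsF π hVV₀ a).symm.trans ((congrArg (apF π _) h1).trans ?_)))
  exact hom_comp_zero (cokernel.condition f) (op (ι₀ 𝔛 hX.1 U ''ᵁ B)) _

theorem bdd_of_isZero {P : FSch.ModF 𝔛 hX.1 → Prop} {G : DerivedCategory (FSch.ModF 𝔛 hX.1)}
    (hG : ∀ i : ℤ, P (SiteCmp.HMod G i)) {n : ℤ} (hGn : ∀ i : ℤ, i ≤ n → IsZero (SiteCmp.HMod G i)) : Bdd P n G :=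
  ⟨(DerivedCategory.isGE_iff G n).2 fun i hi => hGn i hi.le, hG⟩

section Main

variable (F : CochainComplex (FSch.ModF 𝔛 hX.1) ℤ) [ModSite.HasLTensorCx F] [DerComp.HasRHom F]
  (hF : ∀ i : ℤ, FSch.IsCohF 𝔛 hX.1 (SiteCmp.HMod (DerivedCategory.Q.obj F) i))
  (m : ℤ) (hFm : ∀ i : ℤ, m ≤ i → IsZero (SiteCmp.HMod (DerivedCategory.Q.obj F) i))
  (G : DerivedCategory (FSch.ModF 𝔛 hX.1)) (n : ℤ) (hGn : ∀ i : ℤ, i ≤ n → IsZero (SiteCmp.HMod G i)) (i : ℤ)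

include hF hFm hGn

omit hGn in
theorem mem_at {P : FSch.ModF 𝔛 hX.1 → Prop} (hP : Plump P) (hPU : ∀ M, cohAt hX U M → P M) (hU : IsAffineOpen U)
    (hG : Bdd P n G) : P (SiteCmp.HMod ((DerComp.RHom F).obj G) i) := by
  haveI : F.IsLE m := (DerivedCategory.isLE_Q_obj_iff F m).1
    ((DerivedCategory.isLE_iff _ m).2 fun j hj => hFm j hj.le)
  have hZ : ∀ M, ZU U M → P M := fun M h => hPU M (cohAt_of_zu hX U h)
  have hC : ∀ M, cohAt hX U M → ∃ (n : ℕ)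
      (f : (∐ fun _ : ULift.{u} (Fin n) => ModSite.freeOn (𝔛.Osh hX.1) U) ⟶ M),
      ZU U (cokernel f) ∧ cohAt hX U (kernel f) := fun M hM => exists_pres hX U hU hM
  have hF' : ∀ j, cohAt hX U ((DerivedCategory.homologyFunctor _ j).obj (DerivedCategory.Q.obj F)) :=
    fun j => isCohF_rf hX (hF j)
  exact mem_RHom hP U hZ (cohAt hX U) hC F hF' m G n hG i

/-- Internal derived Hom of coherent objects has coherent cohomology. -/
theorem isCohF_RHom (hG : ∀ i : ℤ, FSch.IsCohF 𝔛 hX.1 (SiteCmp.HMod G i)) :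
    FSch.IsCohF 𝔛 hX.1 (SiteCmp.HMod ((DerComp.RHom F).obj G) i) :=
  isCohF_of_cover hX fun x => by
    obtain ⟨V, hV, hxV, -⟩ := Opens.isBasis_iff_nbhd.1 (𝔛.X 0).isBasis_affineOpens (Opens.mem_top x)
    have hG' : ∀ j, cohAt hX V (SiteCmp.HMod G j) := fun j => isCohF_rf (U := V) hX (M := SiteCmp.HMod G j) (hG j)
    have hb : Bdd (cohAt hX V) n G := bdd_of_isZero (P := cohAt hX V) hX hG' hGn
    have hc : cohAt hX V (SiteCmp.HMod ((DerComp.RHom F).obj G) i) :=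
      mem_at hX V F hF m hFm G n i (P := cohAt hX V) (plump_cohAt hX V) (fun _ h => h) hV hb
    exact ⟨V, hxV, hc⟩

/-- Internal derived Hom of a coherent into a quasi-coherent object has quasi-coherent cohomology. -/
theorem qcoh_RHom (hG : ∀ i : ℤ, SheafOfModules.IsQuasicoherent.{u} (SiteCmp.HMod G i)) :
    SheafOfModules.IsQuasicoherent.{u} (SiteCmp.HMod ((DerComp.RHom F).obj G) i) := by
  have hQ : ∀ V : (𝔛.X 0).Opens, IsAffineOpen V → qcohAt hX V (SiteCmp.HMod ((DerComp.RHom F).obj G) i) :=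
    fun V hV => mem_at hX V F hF m hFm G n i (P := qcohAt hX V) (plump_qcohAt hX V) (fun _ h => qcohAt_of_cohAt hX V h) hV
      (bdd_of_isZero hX (fun j => by
        haveI := hG j
        exact ⟨qr_rf hX V (qr_of_qcoh hX), lGen_rf hX (lGen_of_qcoh hX)⟩) hGn)
  refine qcoh_of_qr_lGen hX (qr_of_cover hX fun x => ?_) (lGen_of_cover hX fun x => ?_) <;>
  · obtain ⟨V, hV, hxV, -⟩ := Opens.isBasis_iff_nbhd.1 (𝔛.X 0).isBasis_affineOpens (Opens.mem_top x)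
    first | exact ⟨V, hxV, (hQ V hV).1⟩ | exact ⟨V, hxV, (hQ V hV).2⟩

end Main

end Groth.L09.IndCoh
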