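import Groth.Agent.L17.FSheaf.RestrictOpen
import Groth.Agent.L17.FSheaf.CohCat

/-!
# Restriction of modules on a formal scheme to an open
-/

set_option autoImplicit false
set_option linter.style.haveILetI false
set_option linter.unusedSectionVars false
set_option backward.isDefEq.respectTransparency false
set_option backward.isDefEq.respectTransparency.types false

universe u

open CategoryTheory CategoryTheory.Limits AlgebraicGeometry TopologicalSpace Opposite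

noncomputable section

namespace Groth.L09.IndCoh

open Groth.L17.FSheaf

variable (𝔛 : FSch.Sys.{u}) (h : 𝔛.IsFormal) (U : (𝔛.X 0).Opens)

/-- The restricted system. -/
abbrev R' : FSch.Sys.{u} := 𝔛.restrictOpen h U

/-- The restricted system is formal. -/
theorem h' : (R' 𝔛 h U).IsFormal := isFormal_restrictOpen 𝔛 h U

/-- The inclusion of the smallest level. -/
abbrev ι₀ : (R' 𝔛 h U).X 0 ⟶ 𝔛.X 0 := (𝔛.lvU h 0 U).ι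

theorem lvU_zero : 𝔛.lvU h 0 U = U := toX_preimage_lvU 𝔛 h 0 U

theorem im_le (V : ((R' 𝔛 h U).X 0).Opens) : ι₀ 𝔛 h U ''ᵁ V ≤ U := by
  rintro _ ⟨v, -, rfl⟩
  exact (lvU_zero 𝔛 h U).le v.2

theorem le_preim_im (V : ((R' 𝔛 h U).X 0).Opens) : V ≤ ι₀ 𝔛 h U ⁻¹ᵁ (ι₀ 𝔛 h U ''ᵁ V) :=
  ((ι₀ 𝔛 h U).preimage_image_eq V).ge

theorem im_preim {W : (𝔛.X 0).Opens} (hW : W ≤ U) : ι₀ 𝔛 h U ''ᵁ (ι₀ 𝔛 h U ⁻¹ᵁ W) = W := by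
  rw [Scheme.Hom.image_preimage_eq_opensRange_inf, Scheme.Opens.opensRange_ι, lvU_zero]
  exact inf_eq_right.2 hW

/-- The comparison of the rings of sections. -/
def toR' (V : ((R' 𝔛 h U).X 0).Opens) :
    O 𝔛 h (ι₀ 𝔛 h U ''ᵁ V) →+* O (R' 𝔛 h U) (h' 𝔛 h U) V :=
  (((R' 𝔛 h U).Osh (h' 𝔛 h U)).obj.map (homOfLE (le_preim_im 𝔛 h U V)).op).hom.comp
    ((FSch.Hom.sharp (𝔛.restrictOpenι h U) (h' 𝔛 h U) h).hom.app (op (ι₀ 𝔛 h U ''ᵁ V))).hom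

theorem toR'_res {V W : ((R' 𝔛 h U).X 0).Opens} (e : W ≤ V) (x : O 𝔛 h (ι₀ 𝔛 h U ''ᵁ V)) :
    toR' 𝔛 h U W ((𝔛.Osh h).obj.map (homOfLE ((ι₀ 𝔛 h U).image_mono e)).op x) =
      ((R' 𝔛 h U).Osh (h' 𝔛 h U)).obj.map (homOfLE e).op (toR' 𝔛 h U V x) := by
  have hn := ConcreteCategory.congr_hom
    ((FSch.Hom.sharp (𝔛.restrictOpenι h U) (h' 𝔛 h U) h).hom.naturality (homOfLE ((ι₀ 𝔛 h U).image_mono e)).op) x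
  refine (congrArg (((R' 𝔛 h U).Osh (h' 𝔛 h U)).obj.map (homOfLE (le_preim_im 𝔛 h U W)).op) hn).trans ?_
  refine (ConcreteCategory.congr_hom (((R' 𝔛 h U).Osh (h' 𝔛 h U)).obj.map_comp _ _) _).symm.trans ?_
  exact Eq.trans (congrArg (fun t => ((R' 𝔛 h U).Osh (h' 𝔛 h U)).obj.map t _) (Subsingleton.elim _ _))
    (ConcreteCategory.congr_hom (((R' 𝔛 h U).Osh (h' 𝔛 h U)).obj.map_comp _ _) _)

theorem lvU_im (k : ℕ) (V : ((R' 𝔛 h U).X 0).Opens) :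
    (R' 𝔛 h U).lvU (h' 𝔛 h U) k V = (𝔛.lvU h k U).ι ⁻¹ᵁ 𝔛.lvU h k (ι₀ 𝔛 h U ''ᵁ V) := by
  refine Eq.trans ?_ (FSch.Hom.lvU_preimage (𝔛.restrictOpenι h U) (h' 𝔛 h U) h k (ι₀ 𝔛 h U ''ᵁ V)).symm
  exact congrArg _ ((ι₀ 𝔛 h U).preimage_image_eq V).symm

theorem pR_toR' (k : ℕ) (V : ((R' 𝔛 h U).X 0).Opens) (x : O 𝔛 h (ι₀ 𝔛 h U ''ᵁ V)) :
    pR (R' 𝔛 h U) (h' 𝔛 h U) k V (toR' 𝔛 h U V x) =
      (𝔛.lvU h k U).ι.appLE (𝔛.lvU h k (ι₀ 𝔛 h U ''ᵁ V)) ((R' 𝔛 h U).lvU (h' 𝔛 h U) k V) (lvU_im 𝔛 h U k V).le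
        (pR 𝔛 h k (ι₀ 𝔛 h U ''ᵁ V) x) := by
  have h1 := NatTrans.naturality_apply ((R' 𝔛 h U).OshProj (h' 𝔛 h U) k).hom
    (homOfLE (le_preim_im 𝔛 h U V)).op ((FSch.Hom.sharp (𝔛.restrictOpenι h U) (h' 𝔛 h U) h).hom.app
      (op (ι₀ 𝔛 h U ''ᵁ V)) x)
  have h2 := ConcreteCategory.congr_hom (congrArg (fun t => t.hom.app (op (ι₀ 𝔛 h U ''ᵁ V)))
    (FSch.Hom.sharp_proj (𝔛.restrictOpenι h U) (h' 𝔛 h U) h k)) x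
  refine h1.trans ((congrArg _ h2).trans ?_)
  exact ConcreteCategory.congr_hom (Scheme.Hom.appLE_map (𝔛.lvU h k U).ι
    (FSch.Hom.lvU_preimage (𝔛.restrictOpenι h U) (h' 𝔛 h U) h k (ι₀ 𝔛 h U ''ᵁ V)).ge _) _

theorem tR_appLE (k : ℕ) (V : ((R' 𝔛 h U).X 0).Opens) (y : Γ(𝔛.X (k + 1), 𝔛.lvU h (k + 1) (ι₀ 𝔛 h U ''ᵁ V))) :
    tR (R' 𝔛 h U) (h' 𝔛 h U) k V ((𝔛.lvU h (k + 1) U).ι.appLE (𝔛.lvU h (k + 1) (ι₀ 𝔛 h U ''ᵁ V))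
        ((R' 𝔛 h U).lvU (h' 𝔛 h U) (k + 1) V) (lvU_im 𝔛 h U (k + 1) V).le y) =
      (𝔛.lvU h k U).ι.appLE (𝔛.lvU h k (ι₀ 𝔛 h U ''ᵁ V)) ((R' 𝔛 h U).lvU (h' 𝔛 h U) k V) (lvU_im 𝔛 h U k V).le
        (tR 𝔛 h k (ι₀ 𝔛 h U ''ᵁ V) y) := by
  have e₃ : (R' 𝔛 h U).lvU (h' 𝔛 h U) k V ≤
      ((𝔛.lvU h k U).ι ≫ 𝔛.ι k) ⁻¹ᵁ 𝔛.lvU h (k + 1) (ι₀ 𝔛 h U ''ᵁ V) :=
    (lvU_im 𝔛 h U k V).le.trans (Scheme.Hom.preimage_mono _ (𝔛.lvU_le h k (ι₀ 𝔛 h U ''ᵁ V)))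
  have hL := FSch.appLE_comp_appLE_of_eq ((R' 𝔛 h U).ι k) (𝔛.lvU h (k + 1) U).ι ((𝔛.lvU h k U).ι ≫ 𝔛.ι k)
    (Scheme.Hom.resLE_comp_ι _ _) _ _ _ (lvU_im 𝔛 h U (k + 1) V).le ((R' 𝔛 h U).lvU_le (h' 𝔛 h U) k V) e₃
  have hR := FSch.appLE_comp_appLE_of_eq (𝔛.lvU h k U).ι (𝔛.ι k) _ rfl _ _ _ (𝔛.lvU_le h k (ι₀ 𝔛 h U ''ᵁ V))
    (lvU_im 𝔛 h U k V).le e₃
  exact ConcreteCategory.congr_hom (hL.trans hR.symm) y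

theorem bijective_appLE_ι {X : Scheme.{u}} {W A : X.Opens} {B : W.toScheme.Opens} (hA : A ≤ W)
    (e : B = W.ι ⁻¹ᵁ A) : Function.Bijective (W.ι.appLE A B e.le) := by
  subst e
  have : IsIso (W.ι.app A) := by
    refine W.ι.isIso_app _ ?_
    rwa [Scheme.Opens.opensRange_ι]
  rw [← Scheme.Hom.app_eq_appLE]
  exact ConcreteCategory.bijective_of_isIso _

theorem bijective_toR' (V : ((R' 𝔛 h U).X 0).Opens) : Function.Bijective (toR' 𝔛 h U V) := by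
  let A := ι₀ 𝔛 h U ''ᵁ V
  let e : ∀ k, Γ(𝔛.X k, 𝔛.lvU h k A) → Γ((R' 𝔛 h U).X k, (R' 𝔛 h U).lvU (h' 𝔛 h U) k V) := fun k =>
    (𝔛.lvU h k U).ι.appLE (𝔛.lvU h k A) _ (lvU_im 𝔛 h U k V).le
  have he : ∀ k, Function.Bijective (e k) := fun k =>
    bijective_appLE_ι (lvU_mono 𝔛 h k (im_le 𝔛 h U V)) (lvU_im 𝔛 h U k V)
  refine ⟨fun x y hxy => pR_ext 𝔛 h fun k => (he k).1 ?_, fun z => ?_⟩
  · exact (pR_toR' 𝔛 h U k V x).symm.trans ((congrArg _ hxy).trans (pR_toR' 𝔛 h U k V y))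
  · choose y hy using fun k => (he k).2 (pR (R' 𝔛 h U) (h' 𝔛 h U) k V z)
    obtain ⟨x, hx⟩ := exists_pR 𝔛 h A y fun k => (he k).1 ((tR_appLE 𝔛 h U k V (y (k + 1))).symm.trans
      ((congrArg (tR (R' 𝔛 h U) (h' 𝔛 h U) k V) (hy (k + 1))).trans
        ((tR_pR (R' 𝔛 h U) (h' 𝔛 h U) k V z).trans (hy k).symm)))
    exact ⟨x, pR_ext (R' 𝔛 h U) (h' 𝔛 h U) fun k => (pR_toR' 𝔛 h U k V x).trans ((congrArg _ (hx k)).trans (hy k))⟩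

/-- The comparison as an isomorphism. -/
def eR (V : ((R' 𝔛 h U).X 0).Opens) : O 𝔛 h (ι₀ 𝔛 h U ''ᵁ V) ≃+* O (R' 𝔛 h U) (h' 𝔛 h U) V :=
  RingEquiv.ofBijective (toR' 𝔛 h U V) (bijective_toR' 𝔛 h U V)

/-- The map of sheaves of rings underlying restriction. -/
def φR : ModSite.ringSh ((R' 𝔛 h U).Osh (h' 𝔛 h U)) ⟶
    ((ι₀ 𝔛 h U).opensFunctor.sheafPushforwardContinuous RingCat.{u} _ _).obj (ModSite.ringSh (𝔛.Osh h)) :=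
  ⟨{ app := fun V => RingCat.ofHom (eR 𝔛 h U V.unop).symm.toRingHom
     naturality := fun V W e => by
       refine ConcreteCategory.hom_ext _ _ fun z => (eR 𝔛 h U W.unop).injective ?_
       obtain ⟨x, rfl⟩ := (eR 𝔛 h U V.unop).surjective z
       refine ((eR 𝔛 h U W.unop).apply_symm_apply _).trans ?_
       refine Eq.trans ?_ (congrArg (fun t => eR 𝔛 h U W.unop
         ((𝔛.Osh h).obj.map (homOfLE ((ι₀ 𝔛 h U).image_mono e.unop.le)).op t))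
         ((eR 𝔛 h U V.unop).symm_apply_apply x).symm)
       exact (toR'_res 𝔛 h U e.unop.le x).symm }⟩

/-- Restriction of modules to an open. -/
def rf : FSch.ModF 𝔛 h ⥤ FSch.ModF (R' 𝔛 h U) (h' 𝔛 h U) :=
  SheafOfModules.pushforward (F := (ι₀ 𝔛 h U).opensFunctor) (φR 𝔛 h U)

/-- The sections of a restriction. -/
abbrev up {M : FSch.ModF 𝔛 h} (V : ((R' 𝔛 h U).X 0).Opens) (x : SF 𝔛 h M (ι₀ 𝔛 h U ''ᵁ V)) :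
    SF (R' 𝔛 h U) (h' 𝔛 h U) ((rf 𝔛 h U).obj M) V := x

theorem smul_up {M : FSch.ModF 𝔛 h} (V : ((R' 𝔛 h U).X 0).Opens) (a : O 𝔛 h (ι₀ 𝔛 h U ''ᵁ V))
    (x : SF 𝔛 h M (ι₀ 𝔛 h U ''ᵁ V)) : eR 𝔛 h U V a • up 𝔛 h U V x = up 𝔛 h U V (a • x) := by
  show ((eR 𝔛 h U V).symm (eR 𝔛 h U V a)) • x = a • x
  rw [RingEquiv.symm_apply_apply]

theorem res_up {M : FSch.ModF 𝔛 h} {V W : ((R' 𝔛 h U).X 0).Opens} (e : W ≤ V) (x : SF 𝔛 h M (ι₀ 𝔛 h U ''ᵁ V)) :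
    res (R := ModSite.ringSh ((R' 𝔛 h U).Osh (h' 𝔛 h U))) ((rf 𝔛 h U).obj M) e (up 𝔛 h U V x) =
      up 𝔛 h U W (res (R := ModSite.ringSh (𝔛.Osh h)) M ((ι₀ 𝔛 h U).image_mono e) x) := rfl

end Groth.L09.IndCoh
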