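import Groth.Agent.L09.IndCoh.Base
import Groth.Agent.L09.IndCoh.Restrict

/-!
# Modules whose local relations are generated
-/

set_option autoImplicit false
set_option linter.style.haveILetI false
set_option linter.unusedSectionVars false
set_option backward.isDefEq.respectTransparency false
set_option backward.isDefEq.respectTransparency.types false

universe u

open CategoryTheory CategoryTheory.Limits AlgebraicGeometry TopologicalSpace Opposite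

noncomputable section

namespace Groth.L09.IndCoh

open Groth.L17.FSheaf

variable {𝔛 : FSch.Sys.{u}} {h : 𝔛.IsFormal}

/-- Restriction of sections of a module. -/
abbrev rsF (M : FSch.ModF 𝔛 h) {U V : (𝔛.X 0).Opens} (e : V ≤ U) (x : SF 𝔛 h M U) : SF 𝔛 h M V :=
  res (R := ModSite.ringSh (𝔛.Osh h)) M e x

/-- A morphism on sections. -/
abbrev apF {M N : FSch.ModF 𝔛 h} (f : M ⟶ N) (U : (𝔛.X 0).Opens) : SF 𝔛 h M U →ₗ[O 𝔛 h U] SF 𝔛 h N U :=
  (f.val.app (op U)).hom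

theorem apF_rsF {M N : FSch.ModF 𝔛 h} (f : M ⟶ N) {U V : (𝔛.X 0).Opens} (e : V ≤ U) (x : SF 𝔛 h M U) :
    apF f V (rsF M e x) = rsF N e (apF f U x) :=
  PresheafOfModules.naturality_apply f.val (homOfLE e).op x

variable (M : FSch.ModF 𝔛 h)

theorem rsF_rsF {U V W : (𝔛.X 0).Opens} (e : V ≤ U) (e' : W ≤ V) (x : SF 𝔛 h M U) :
    rsF M e' (rsF M e x) = rsF M (e'.trans e) x := res_res M e e' x

theorem resO_resO {U V W : (𝔛.X 0).Opens} (e : V ≤ U) (e' : W ≤ V) (a : O 𝔛 h U) :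
    resO 𝔛 h e' (resO 𝔛 h e a) = resO 𝔛 h (e'.trans e) a :=
  rres_rres (R := ModSite.ringSh (𝔛.Osh h)) e e' a

theorem rsF_comb {U V W : (𝔛.X 0).Opens} (e : W ≤ U) (e' : V ≤ W) {n : ℕ} (c : Fin n → O 𝔛 h W)
    (y : Fin n → SF 𝔛 h M U) :
    rsF M e' (∑ i, c i • rsF M e (y i)) = ∑ i, resO 𝔛 h e' (c i) • rsF M (e'.trans e) (y i) :=
  res_comb (R := ModSite.ringSh (𝔛.Osh h)) M e e' c y

/-- The relations among sections. -/
def Rels {U : (𝔛.X 0).Opens} {n : ℕ} (y : Fin n → SF 𝔛 h M U) : Submodule (O 𝔛 h U) (Fin n → O 𝔛 h U) :=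
  LinearMap.ker (Fintype.linearCombination (O 𝔛 h U) y)

variable {M} in
theorem mem_Rels {U : (𝔛.X 0).Opens} {n : ℕ} {y : Fin n → SF 𝔛 h M U} {c : Fin n → O 𝔛 h U} :
    c ∈ Rels M y ↔ ∑ i, c i • y i = 0 := Iff.rfl

/-- Restrictions of relations. -/
def resRels {U V : (𝔛.X 0).Opens} (e : V ≤ U) {n : ℕ} (y : Fin n → SF 𝔛 h M U) :
    Submodule (O 𝔛 h V) (Fin n → O 𝔛 h V) :=
  Submodule.span (O 𝔛 h V) ((fun (r : Fin n → O 𝔛 h U) i => resO 𝔛 h e (r i)) '' Rels M y)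

theorem resRels_res {U V W : (𝔛.X 0).Opens} (e : V ≤ U) (e' : W ≤ V) {n : ℕ} (y : Fin n → SF 𝔛 h M U)
    {a : Fin n → O 𝔛 h V} (ha : a ∈ resRels M e y) : (fun i => resO 𝔛 h e' (a i)) ∈ resRels M (e'.trans e) y := by
  induction ha using Submodule.span_induction with
  | mem v hv =>
    obtain ⟨r, hr, rfl⟩ := hv
    exact Submodule.subset_span ⟨r, hr, funext fun i => (resO_resO e e' (r i)).symm⟩
  | zero => simp only [Pi.zero_apply, map_zero]; exact zero_mem _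
  | add v w _ _ hv hw => simp only [Pi.add_apply, map_add]; exact add_mem hv hw
  | smul r v _ hv => simp only [Pi.smul_apply, smul_eq_mul, map_mul]; exact Submodule.smul_mem _ (resO 𝔛 h e' r) hv

/-- The relations over an open generate all relations on smaller opens. -/
def RelGen {U : (𝔛.X 0).Opens} {n : ℕ} (y : Fin n → SF 𝔛 h M U) : Prop :=
  ∀ ⦃W : (𝔛.X 0).Opens⦄ (hW : W ≤ U) (c : Fin n → O 𝔛 h W), ∑ i, c i • rsF M hW (y i) = 0 →
    ∀ x ∈ W, ∃ (V : (𝔛.X 0).Opens) (hV : V ≤ W), x ∈ V ∧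
      (fun i => resO 𝔛 h hV (c i)) ∈ resRels M (hV.trans hW) y

/-- Relations among finitely many sections are generated near every point. -/
def QR : Prop :=
  ∀ (U : (𝔛.X 0).Opens) (n : ℕ) (y : Fin n → SF 𝔛 h M U), ∀ x ∈ U, ∃ (U₁ : (𝔛.X 0).Opens) (hU₁ : U₁ ≤ U),
    IsAffineOpen U₁ ∧ x ∈ U₁ ∧ RelGen M fun i => rsF M hU₁ (y i)

/-- The sections over an open generate on all smaller opens. -/
def GenOn (U : (𝔛.X 0).Opens) : Prop :=
  ∀ ⦃W : (𝔛.X 0).Opens⦄ (hW : W ≤ U) (s : SF 𝔛 h M W), ∀ x ∈ W, ∃ (V : (𝔛.X 0).Opens) (hV : V ≤ W),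
    x ∈ V ∧ rsF M hV s ∈ Submodule.span (O 𝔛 h V) (Set.range fun t : SF 𝔛 h M U => rsF M (hV.trans hW) t)

/-- Sections on an affine neighbourhood of every point generate. -/
def LGen : Prop := ∀ x : 𝔛.X 0, ∃ U : (𝔛.X 0).Opens, IsAffineOpen U ∧ x ∈ U ∧ GenOn M U

variable {M}

theorem GenOn.mono {U U' : (𝔛.X 0).Opens} (hg : GenOn M U) (e : U' ≤ U) : GenOn M U' := fun W hW s x hx => by
  obtain ⟨V, hV, hxV, hs⟩ := hg (hW.trans e) s x hx
  refine ⟨V, hV, hxV, Submodule.span_mono ?_ hs⟩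
  rintro _ ⟨t, rfl⟩
  exact ⟨rsF M e t, rsF_rsF M e (hV.trans hW) t⟩

theorem LGen.nhd (hM : LGen M) {W : (𝔛.X 0).Opens} {x : 𝔛.X 0} (hx : x ∈ W) :
    ∃ U : (𝔛.X 0).Opens, IsAffineOpen U ∧ x ∈ U ∧ U ≤ W ∧ GenOn M U := by
  obtain ⟨U₀, -, hxU₀, hg⟩ := hM x
  obtain ⟨U, hU, hxU, hle⟩ := Opens.isBasis_iff_nbhd.1 (𝔛.X 0).isBasis_affineOpens
    (show x ∈ W ⊓ U₀ from ⟨hx, hxU₀⟩)
  exact ⟨U, hU, hxU, hle.trans inf_le_left, hg.mono (hle.trans inf_le_right)⟩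

/-- Relations in a module are relations in a target of a monomorphism. -/
theorem injective_apF {N : FSch.ModF 𝔛 h} (f : M ⟶ N) [Mono f] (U : (𝔛.X 0).Opens) : Function.Injective (apF f U) := by
  refine (injective_iff_map_eq_zero _).2 fun x hx => ?_
  obtain ⟨k, hk⟩ := (exists_kernel_sect f (op U)).1 x hx
  have h0 : kernel.ι f = 0 := kernel.ι_of_mono f
  exact hk.symm.trans (congrArg (fun t : kernel f ⟶ M => (t.val.app (op U)).hom k) h0)

theorem Rels_mono {N : FSch.ModF 𝔛 h} (f : M ⟶ N) [Mono f] {U : (𝔛.X 0).Opens} {n : ℕ} (y : Fin n → SF 𝔛 h M U) :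
    Rels M y = Rels N fun i => apF f U (y i) := by
  ext c
  rw [mem_Rels, mem_Rels, ← (injective_apF f U).eq_iff, map_zero, map_sum]
  exact Eq.congr_left (Finset.sum_congr rfl fun i _ => map_smul _ _ _)

theorem RelGen.of_mono {N : FSch.ModF 𝔛 h} (f : M ⟶ N) [Mono f] {U : (𝔛.X 0).Opens} {n : ℕ}
    {y : Fin n → SF 𝔛 h M U} (hy : RelGen N fun i => apF f U (y i)) : RelGen M y := fun W hW c hc x hx => by
  obtain ⟨V, hV, hxV, hmem⟩ := hy hW c (by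
    refine Eq.trans ?_ ((congrArg (apF f W) hc).trans (map_zero _))
    rw [map_sum]
    exact Finset.sum_congr rfl fun i _ => ((map_smul _ _ _).trans (congrArg (c i • ·) (apF_rsF f hW (y i)))).symm) x hx
  exact ⟨V, hV, hxV, by rw [resRels, Rels_mono f y]; exact hmem⟩

theorem QR.of_mono {N : FSch.ModF 𝔛 h} (f : M ⟶ N) [Mono f] (hN : QR N) : QR M := fun U n y x hx => by
  obtain ⟨U₁, hU₁, haff, hxU₁, hg⟩ := hN U n (fun i => apF f U (y i)) x hx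
  refine ⟨U₁, hU₁, haff, hxU₁, RelGen.of_mono f ?_⟩
  rwa [show (fun i => apF f U₁ (rsF M hU₁ (y i))) = fun i => rsF N hU₁ (apF f U (y i)) from
    funext fun i => apF_rsF f hU₁ (y i)]

section Noeth

variable (hX : 𝔛.IsLocNoethFormal)

/-- Relations in a coherent module restrict. -/
theorem relGen_coh {H : FSch.ModF 𝔛 hX.1} (hH : FSch.IsCohF 𝔛 hX.1 H) {U : (𝔛.X 0).Opens} (hU : IsAffineOpen U)
    {n : ℕ} (y : Fin n → SF 𝔛 hX.1 H U) : RelGen H y := fun W hW c hc x hx => by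
  obtain ⟨V, hV, hxV, hVW⟩ := Opens.isBasis_iff_nbhd.1 (𝔛.X 0).isBasis_affineOpens hx
  obtain ⟨m, r, hr0, hr⟩ := exists_relations 𝔛 hX (𝔊 := H) hU y
  obtain ⟨d, hd⟩ := rel_restrict_mod 𝔛 hX hH hU hV (hVW.trans hW) y r hr (fun i => resO 𝔛 hX.1 hVW (c i))
    ((rsF_comb H hW hVW c y).symm.trans ((congrArg (rsF H hVW) hc).trans (res_zero _ _)))
  refine ⟨V, hVW, hxV, ?_⟩
  have he : (fun i => resO 𝔛 hX.1 hVW (c i)) = ∑ j, d j • fun i => resO 𝔛 hX.1 (hVW.trans hW) (r j i) := by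
    funext i
    simp only [hd i, Finset.sum_apply, Pi.smul_apply, smul_eq_mul]
  rw [he]
  exact Submodule.sum_mem _ fun j _ => Submodule.smul_mem _ _ (Submodule.subset_span ⟨r j, hr0 j, rfl⟩)

theorem qr_coh {H : FSch.ModF 𝔛 hX.1} (hH : FSch.IsCohF 𝔛 hX.1 H) : QR H := fun U n y x hx => by
  obtain ⟨U₁, hU₁, hxU₁, hle⟩ := Opens.isBasis_iff_nbhd.1 (𝔛.X 0).isBasis_affineOpens hx
  exact ⟨U₁, hle, hU₁, hxU₁, relGen_coh hX hH hU₁ _⟩

theorem genOn_coh {H : FSch.ModF 𝔛 hX.1} (hH : FSch.IsCohF 𝔛 hX.1 H) {U : (𝔛.X 0).Opens} (hU : IsAffineOpen U) :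
    GenOn H U := fun W hW s x hx => by
  obtain ⟨V, hV, hxV, hVW⟩ := Opens.isBasis_iff_nbhd.1 (𝔛.X 0).isBasis_affineOpens hx
  obtain ⟨n, m, g, r, -, hg⟩ := exists_gen_rel_SF 𝔛 hX hH hU
  refine ⟨V, hVW, hxV, Submodule.span_mono ?_ ((hg hV (hVW.trans hW)).1 ▸ Submodule.mem_top : rsF H hVW s ∈ _)⟩
  rintro _ ⟨i, rfl⟩
  exact ⟨g i, rfl⟩

theorem lGen_coh {H : FSch.ModF 𝔛 hX.1} (hH : FSch.IsCohF 𝔛 hX.1 H) : LGen H := fun x => by
  obtain ⟨U, hU, hxU, -⟩ := Opens.isBasis_iff_nbhd.1 (𝔛.X 0).isBasis_affineOpens (Opens.mem_top x)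
  exact ⟨U, hU, hxU, genOn_coh hX hH hU⟩

/-- A locally generated submodule of a coherent module is coherent. -/
theorem isCohF_of_mono {H K : FSch.ModF 𝔛 hX.1} (hH : FSch.IsCohF 𝔛 hX.1 H) (ι : K ⟶ H) [Mono ι] (hK : LGen K) :
    FSch.IsCohF 𝔛 hX.1 K := by
  refine isFinitePresentation_of_locPres (R := ModSite.ringSh (𝔛.Osh hX.1)) _ fun x => ?_
  obtain ⟨U, hU, hxU, hg⟩ := hK x
  haveI := (O_spec 𝔛 hX hU).1
  haveI : Module.Finite (O 𝔛 hX.1 U) (SF 𝔛 hX.1 H U) := (SF_spec 𝔛 hX hH hU).1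
  haveI : Module.Finite (O 𝔛 hX.1 U) (SF 𝔛 hX.1 K U) := Module.Finite.of_injective (apF ι U) (injective_apF ι U)
  obtain ⟨n, g, hspan⟩ := Module.Finite.exists_fin (R := O 𝔛 hX.1 U) (M := SF 𝔛 hX.1 K U)
  obtain ⟨m, r, hr0, hr⟩ := exists_relations 𝔛 hX (𝔊 := K) hU g
  refine ⟨U, hxU, n, m, g, r, fun W hW y hy z => ?_, hr0, fun W hW c hc y hy => ?_⟩
  · obtain ⟨V, hV, hyV, hmem⟩ := hg hW z y hy
    refine ⟨V, hV, hyV, ?_⟩
    have hle : Submodule.span (O 𝔛 hX.1 V) (Set.range fun t : SF 𝔛 hX.1 K U => rsF K (hV.trans hW) t) ≤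
        Submodule.span (O 𝔛 hX.1 V) (Set.range fun i => rsF K (hV.trans hW) (g i)) := by
      refine Submodule.span_le.2 ?_
      rintro _ ⟨t, rfl⟩
      obtain ⟨a, rfl⟩ := (Submodule.mem_span_range_iff_exists_fun _).1
        (hspan ▸ Submodule.mem_top : t ∈ Submodule.span (O 𝔛 hX.1 U) (Set.range g))
      refine (Submodule.mem_span_range_iff_exists_fun _).2 ⟨fun i => resO 𝔛 hX.1 (hV.trans hW) (a i), ?_⟩
      refine Eq.trans ?_ (res_sum (R := ModSite.ringSh (𝔛.Osh hX.1)) K Finset.univ (hV.trans hW) _).symm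
      exact Finset.sum_congr rfl fun i _ => (res_smul K (hV.trans hW) (a i) (g i)).symm
    obtain ⟨a, ha⟩ := (Submodule.mem_span_range_iff_exists_fun _).1 (hle hmem)
    exact ⟨a, ha.symm⟩
  · obtain ⟨V, hV, hyV, hmem⟩ := RelGen.of_mono ι (relGen_coh hX hH hU _) hW c hc y hy
    refine ⟨V, hV, hyV, ?_⟩
    have hle : resRels K (hV.trans hW) g ≤
        Submodule.span (O 𝔛 hX.1 V) (Set.range fun j => fun i => resO 𝔛 hX.1 (hV.trans hW) (r j i)) := by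
      refine Submodule.span_le.2 ?_
      rintro _ ⟨b, hb, rfl⟩
      obtain ⟨d, hd⟩ := hr b hb
      refine (Submodule.mem_span_range_iff_exists_fun _).2 ⟨fun j => resO 𝔛 hX.1 (hV.trans hW) (d j), funext fun i => ?_⟩
      simp only [Finset.sum_apply, Pi.smul_apply, smul_eq_mul, hd i, map_sum, map_mul]
    obtain ⟨d, hd⟩ := (Submodule.mem_span_range_iff_exists_fun _).1 (hle hmem)
    refine ⟨d, fun i => ?_⟩
    exact ((congrFun hd i).symm.trans (by simp only [Finset.sum_apply, Pi.smul_apply, smul_eq_mul]; rfl))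

end Noeth

end Groth.L09.IndCoh
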