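import Groth.Agent.L09.IndCoh.Qcoh
import Groth.Agent.L09.IndCoh.Cov
import Groth.Agent.L09.IndCoh.LGenExt
import Groth.Agent.L17.FSheaf.RestrictMod
import Groth.Agent.L09.IndCoh.FinType
import Mathlib.CategoryTheory.Abelian.ShortExact

/-!
# Local properties of modules read off from restrictions to opens
-/

set_option autoImplicit false
set_option linter.style.haveILetI false
set_option linter.unusedSectionVars false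
set_option backward.isDefEq.respectTransparency false
set_option backward.isDefEq.respectTransparency.types false

universe u

open CategoryTheory CategoryTheory.Limits AlgebraicGeometry TopologicalSpace Opposite

noncomputable section

namespace Groth.L09.IndCoh

open Groth.L17.FSheaf

variable {𝔛 : FSch.Sys.{u}} (hX : 𝔛.IsLocNoethFormal) (U : (𝔛.X 0).Opens)

theorem rf_eq : rf 𝔛 hX.1 U = Groth.L17.FSheaf.Restr.ρ 𝔛 hX.1 U := rfl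

instance additive_rf {h : 𝔛.IsFormal} : (rf 𝔛 h U).Additive := { map_add := rfl }

/-- Restriction is exact. -/
theorem preservesFinite_rf :
    PreservesFiniteLimits (rf 𝔛 hX.1 U) ∧ PreservesFiniteColimits (rf 𝔛 hX.1 U) := by
  obtain ⟨h₁, h₂⟩ := Groth.L17.FSheaf.Restr.preservesFinite_ρT 𝔛 hX.1 U
  haveI : PreservesFiniteColimits (SheafOfModules.toSheaf.{u}
      (ModSite.ringSh ((R' 𝔛 hX.1 U).Osh (h' 𝔛 hX.1 U)))) := Groth.L15.ExtSupp.preservesFiniteColimits_toSheaf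
  have key : ∀ S : ShortComplex (FSch.ModF 𝔛 hX.1), S.ShortExact → (S.map (rf 𝔛 hX.1 U)).ShortExact := fun S hS =>
    CategoryTheory.ShortExact.reflects_shortExact_of_faithful (S := S.map (rf 𝔛 hX.1 U)) (SheafOfModules.toSheaf _)
      (hS.map_of_exact (Groth.L17.FSheaf.Restr.ρT 𝔛 hX.1 U))
  exact ((Functor.exact_tfae (rf 𝔛 hX.1 U)).out 0 3).1 key

variable {U}

theorem le_of_image_le {A B : ((R' 𝔛 hX.1 U).X 0).Opens} (h : ι₀ 𝔛 hX.1 U ''ᵁ A ≤ ι₀ 𝔛 hX.1 U ''ᵁ B) : A ≤ B :=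
  fun z hz => by
    obtain ⟨w, hw, hwz⟩ := h ⟨z, hz, rfl⟩
    rwa [← (ι₀ 𝔛 hX.1 U).isOpenEmbedding.injective hwz]

theorem mem_of_image_mem {A : ((R' 𝔛 hX.1 U).X 0).Opens} {v : (R' 𝔛 hX.1 U).X 0}
    (h : ι₀ 𝔛 hX.1 U v ∈ ι₀ 𝔛 hX.1 U ''ᵁ A) : v ∈ A := by
  obtain ⟨w, hw, hwv⟩ := h
  rwa [← (ι₀ 𝔛 hX.1 U).isOpenEmbedding.injective hwv]

theorem exists_image {W : (𝔛.X 0).Opens} (hW : W ≤ U) :
    ∃ B : ((R' 𝔛 hX.1 U).X 0).Opens, W = ι₀ 𝔛 hX.1 U ''ᵁ B :=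
  ⟨_, (im_preim 𝔛 hX.1 U hW).symm⟩

variable (U) in
theorem exists_mem {x : 𝔛.X 0} (hx : x ∈ U) : ∃ v : (R' 𝔛 hX.1 U).X 0, ι₀ 𝔛 hX.1 U v = x :=
  ⟨⟨x, (lvU_zero 𝔛 hX.1 U).ge hx⟩, rfl⟩

theorem isAffineOpen_of_image {B : ((R' 𝔛 hX.1 U).X 0).Opens} (h : IsAffineOpen (ι₀ 𝔛 hX.1 U ''ᵁ B)) :
    IsAffineOpen B := by
  rw [← (ι₀ 𝔛 hX.1 U).preimage_image_eq B]
  exact h.preimage_of_isOpenImmersion _ ((ι₀ 𝔛 hX.1 U).image_le_opensRange B)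

variable {M : FSch.ModF 𝔛 hX.1}

/-- Generation transfers to restrictions. -/
theorem genOn_rf_of {T : ((R' 𝔛 hX.1 U).X 0).Opens} (hg : GenOn M (ι₀ 𝔛 hX.1 U ''ᵁ T)) :
    GenOn ((rf 𝔛 hX.1 U).obj M) T := by
  intro W' hW' s v hv
  obtain ⟨V, hV, hvV, hmem⟩ := hg ((ι₀ 𝔛 hX.1 U).image_mono hW') s (ι₀ 𝔛 hX.1 U v) ⟨v, hv, rfl⟩
  obtain ⟨B, rfl⟩ := exists_image hX (hV.trans (im_le 𝔛 hX.1 U W'))
  refine ⟨B, le_of_image_le hX hV, mem_of_image_mem hX hvV, ?_⟩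
  obtain ⟨n, t, c, hc⟩ := exists_fin_span hmem
  show up 𝔛 hX.1 U B (rsF M _ s) ∈ _
  have hsum : up 𝔛 hX.1 U B (∑ i, c i • rsF M (hV.trans ((ι₀ 𝔛 hX.1 U).image_mono hW')) (t i)) ∈
      Submodule.span (O (R' 𝔛 hX.1 U) (hX' hX U).1 B) (Set.range fun t' : SF (R' 𝔛 hX.1 U) (hX' hX U).1
        ((rf 𝔛 hX.1 U).obj M) T => rsF ((rf 𝔛 hX.1 U).obj M) ((le_of_image_le hX hV).trans hW') t') := by
    rw [show up 𝔛 hX.1 U B (∑ i, c i • rsF M (hV.trans ((ι₀ 𝔛 hX.1 U).image_mono hW')) (t i)) =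
      ∑ i, eR 𝔛 hX.1 U B (c i) • up 𝔛 hX.1 U B (rsF M (hV.trans ((ι₀ 𝔛 hX.1 U).image_mono hW')) (t i)) from
        (Finset.sum_congr rfl fun i _ => (smul_up 𝔛 hX.1 U B (c i) _).symm)]
    exact Submodule.sum_mem _ fun i _ => Submodule.smul_mem _ _ (Submodule.subset_span ⟨up 𝔛 hX.1 U T (t i), rfl⟩)
  exact hc.symm ▸ hsum

/-- Local generation is preserved by restriction. -/
theorem lGen_rf (hM : LGen M) : LGen ((rf 𝔛 hX.1 U).obj M) := fun v => by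
  obtain ⟨U', hU', hvU', hle, hg⟩ := hM.nhd (show ι₀ 𝔛 hX.1 U v ∈ U from (lvU_zero 𝔛 hX.1 U).le v.2)
  obtain ⟨B, rfl⟩ := exists_image hX hle
  exact ⟨B, isAffineOpen_of_image hX hU', mem_of_image_mem hX hvU', genOn_rf_of hX hg⟩

/-- Generation is detected on restrictions. -/
theorem genOn_back {T : ((R' 𝔛 hX.1 U).X 0).Opens} (hg : GenOn ((rf 𝔛 hX.1 U).obj M) T) :
    GenOn M (ι₀ 𝔛 hX.1 U ''ᵁ T) := by
  intro W hW s x hx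
  obtain ⟨B, rfl⟩ := exists_image hX (hW.trans (im_le 𝔛 hX.1 U T))
  obtain ⟨v, hv, rfl⟩ := hx
  obtain ⟨B₁, hB₁, hvB₁, hmem⟩ := hg (le_of_image_le hX hW) (up 𝔛 hX.1 U B s) v hv
  refine ⟨ι₀ 𝔛 hX.1 U ''ᵁ B₁, (ι₀ 𝔛 hX.1 U).image_mono hB₁, ⟨v, hvB₁, rfl⟩, ?_⟩
  obtain ⟨n, t, c, hc⟩ := exists_fin_span hmem
  obtain ⟨c', rfl⟩ : ∃ c' : Fin n → O 𝔛 hX.1 (ι₀ 𝔛 hX.1 U ''ᵁ B₁), (fun i => eR 𝔛 hX.1 U B₁ (c' i)) = c :=
    ⟨fun i => (eR 𝔛 hX.1 U B₁).symm (c i), funext fun i => (eR 𝔛 hX.1 U B₁).apply_symm_apply _⟩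
  have h1 : rsF M ((ι₀ 𝔛 hX.1 U).image_mono hB₁) s = ∑ i, c' i • rsF M
      (((ι₀ 𝔛 hX.1 U).image_mono hB₁).trans hW) (show SF 𝔛 hX.1 M (ι₀ 𝔛 hX.1 U ''ᵁ T) from t i) :=
    hc.trans (Finset.sum_congr rfl fun i _ => smul_up 𝔛 hX.1 U B₁ (c' i) _)
  rw [h1]
  exact Submodule.sum_mem _ fun i _ => Submodule.smul_mem _ _ (Submodule.subset_span ⟨_, rfl⟩)

/-- Generation of relations is detected on restrictions. -/
theorem relGen_back {B : ((R' 𝔛 hX.1 U).X 0).Opens} {n : ℕ} {y : Fin n → SF 𝔛 hX.1 M (ι₀ 𝔛 hX.1 U ''ᵁ B)}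
    (hy : RelGen ((rf 𝔛 hX.1 U).obj M) fun i => up 𝔛 hX.1 U B (y i)) : RelGen M y := by
  intro W hW c hc x hx
  obtain ⟨W', rfl⟩ := exists_image hX (hW.trans (im_le 𝔛 hX.1 U B))
  obtain ⟨v, hv, rfl⟩ := hx
  let E := eR 𝔛 hX.1 U
  obtain ⟨B₁, hB₁, hvB₁, hmem⟩ := hy (le_of_image_le hX hW) (fun i => E W' (c i))
    ((Finset.sum_congr rfl fun i _ => smul_up 𝔛 hX.1 U W' (c i) (rsF M hW (y i))).trans hc) v hv
  refine ⟨ι₀ 𝔛 hX.1 U ''ᵁ B₁, (ι₀ 𝔛 hX.1 U).image_mono hB₁, ⟨v, hvB₁, rfl⟩, ?_⟩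
  let e := hB₁.trans (le_of_image_le hX hW)
  have key : ∀ a : Fin n → O (R' 𝔛 hX.1 U) (h' 𝔛 hX.1 U) B₁,
      a ∈ resRels ((rf 𝔛 hX.1 U).obj M) e (fun i => up 𝔛 hX.1 U B (y i)) →
      (fun i => (E B₁).symm (a i)) ∈ resRels M ((ι₀ 𝔛 hX.1 U).image_mono e) y := by
    intro a ha
    induction ha using Submodule.span_induction with
    | mem a ha =>
      obtain ⟨r, hr, rfl⟩ := ha
      refine Submodule.subset_span ⟨fun i => (E B).symm (r i), ?_, funext fun i => (E B₁).injective ?_⟩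
      · exact mem_Rels.2 ((Finset.sum_congr rfl fun i _ => ((smul_up 𝔛 hX.1 U B ((E B).symm (r i)) (y i)).symm.trans
          (congrArg (fun b => b • up 𝔛 hX.1 U B (y i)) ((E B).apply_symm_apply (r i))))).trans (mem_Rels.1 hr))
      · refine Eq.trans ?_ ((E B₁).apply_symm_apply _).symm
        refine (toR'_res 𝔛 hX.1 U e ((E B).symm (r i))).trans ?_
        exact congrArg (resO (R' 𝔛 hX.1 U) (h' 𝔛 hX.1 U) e) ((E B).apply_symm_apply (r i))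
    | zero => simp only [Pi.zero_apply, map_zero]; exact zero_mem _
    | add a b _ _ ha hb => simp only [Pi.add_apply, map_add]; exact add_mem ha hb
    | smul t a _ ha => simp only [Pi.smul_apply, smul_eq_mul, map_mul]; exact Submodule.smul_mem _ ((E B₁).symm t) ha
  have h1 := key _ hmem
  have h2 : (fun i => (E B₁).symm (resO (R' 𝔛 hX.1 U) (h' 𝔛 hX.1 U) hB₁ (E W' (c i)))) =
      fun i => resO 𝔛 hX.1 ((ι₀ 𝔛 hX.1 U).image_mono hB₁) (c i) := funext fun i =>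
    (E B₁).injective (((E B₁).apply_symm_apply _).trans (toR'_res 𝔛 hX.1 U hB₁ (c i)).symm)
  rwa [h2] at h1



/-- Local generation is local. -/
theorem lGen_of_cover (h : ∀ x : 𝔛.X 0, ∃ V : (𝔛.X 0).Opens, x ∈ V ∧ LGen ((rf 𝔛 hX.1 V).obj M)) : LGen M :=
  fun x => by
    obtain ⟨V, hxV, hV⟩ := h x
    obtain ⟨v, rfl⟩ := exists_mem hX V hxV
    obtain ⟨B, hB, hvB, hg⟩ := hV v
    exact ⟨_, hB.image_of_isOpenImmersion (ι₀ 𝔛 hX.1 V), ⟨v, hvB, rfl⟩, genOn_back hX hg⟩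

/-- Generation of relations is local. -/
theorem qr_of_cover (h : ∀ x : 𝔛.X 0, ∃ V : (𝔛.X 0).Opens, x ∈ V ∧ QR ((rf 𝔛 hX.1 V).obj M)) : QR M := by
  intro U' n y x hx
  obtain ⟨V, hxV, hV⟩ := h x
  obtain ⟨B, hB⟩ := exists_image hX (inf_le_right : U' ⊓ V ≤ V)
  obtain ⟨v, rfl⟩ := exists_mem hX V hxV
  have hle : ι₀ 𝔛 hX.1 V ''ᵁ B ≤ U' := hB.ge.trans inf_le_left
  obtain ⟨B₁, hB₁, haff, hvB₁, hg⟩ := hV B n (fun i => up 𝔛 hX.1 V B (rsF M hle (y i))) v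
    (mem_of_image_mem hX (hB ▸ (show ι₀ 𝔛 hX.1 V v ∈ U' ⊓ V from ⟨hx, hxV⟩)))
  refine ⟨_, ((ι₀ 𝔛 hX.1 V).image_mono hB₁).trans hle, haff.image_of_isOpenImmersion (ι₀ 𝔛 hX.1 V),
    ⟨v, hvB₁, rfl⟩, relGen_back hX ?_⟩
  rw [show (fun i => up 𝔛 hX.1 V B₁ (rsF M (((ι₀ 𝔛 hX.1 V).image_mono hB₁).trans hle) (y i))) =
    fun i => rsF ((rf 𝔛 hX.1 V).obj M) hB₁ (up 𝔛 hX.1 V B (rsF M hle (y i))) from
      funext fun i => (rsF_rsF M hle ((ι₀ 𝔛 hX.1 V).image_mono hB₁) (y i)).symm]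
  exact hg

/-- Coherence is preserved by restriction. -/
theorem isCohF_rf (hM : FSch.IsCohF 𝔛 hX.1 M) :
    FSch.IsCohF (R' 𝔛 hX.1 U) (h' 𝔛 hX.1 U) ((rf 𝔛 hX.1 U).obj M) :=
  Groth.L17.FSheaf.Restr.isCohF_ρ 𝔛 U hX hM

/-- Coherence is local. -/
theorem isCohF_of_cover (h : ∀ x : 𝔛.X 0, ∃ V : (𝔛.X 0).Opens, x ∈ V ∧
    FSch.IsCohF (R' 𝔛 hX.1 V) (h' 𝔛 hX.1 V) ((rf 𝔛 hX.1 V).obj M)) : FSch.IsCohF 𝔛 hX.1 M := by
  refine isCohF_of_qr_finGen hX (qr_of_cover hX fun x => ?_) fun x => ?_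
  · obtain ⟨V, hxV, hV⟩ := h x
    exact ⟨V, hxV, qr_coh (hX' hX V) hV⟩
  obtain ⟨V, hxV, hV⟩ := h x
  obtain ⟨v, rfl⟩ := exists_mem hX V hxV
  haveI := hV
  obtain ⟨B, hvB, n, g, hg⟩ := exists_fin_gen (R := ModSite.ringSh ((R' 𝔛 hX.1 V).Osh (h' 𝔛 hX.1 V)))
    ((rf 𝔛 hX.1 V).obj M) v
  refine ⟨ι₀ 𝔛 hX.1 V ''ᵁ B, ⟨v, hvB, rfl⟩, n, fun i => (show SF 𝔛 hX.1 M (ι₀ 𝔛 hX.1 V ''ᵁ B) from g i), fun W hW y hy z => ?_⟩
  obtain ⟨W', rfl⟩ := exists_image hX (hW.trans (im_le 𝔛 hX.1 V B))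
  obtain ⟨w, hw, rfl⟩ := hy
  obtain ⟨B₁, hB₁, hwB₁, c, hc⟩ := hg (le_of_image_le hX hW) w hw (up 𝔛 hX.1 V W' z)
  refine ⟨_, (ι₀ 𝔛 hX.1 V).image_mono hB₁, ⟨w, hwB₁, rfl⟩, fun i => (eR 𝔛 hX.1 V B₁).symm (c i), hc.trans ?_⟩
  refine Finset.sum_congr rfl fun i _ => ?_
  exact (congrArg (fun b => b • _) ((eR 𝔛 hX.1 V B₁).apply_symm_apply (c i)).symm).trans
    (smul_up 𝔛 hX.1 V B₁ _ _)

end Groth.L09.IndCoh
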