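import Groth.Agent.L09.IndCoh.Cov
import Groth.Agent.L09.IndCoh.Qcoh
import Groth.Agent.L09.IndCoh.LiftTop
import Groth.Agent.L15.LocPres.HomColim

/-!
# Internal homs out of coherent modules on formal schemes
-/

set_option autoImplicit false
set_option linter.style.haveILetI false
set_option linter.unusedSectionVars false
set_option backward.isDefEq.respectTransparency false
set_option backward.isDefEq.respectTransparency.types false

universe u

open CategoryTheory CategoryTheory.Limits AlgebraicGeometry TopologicalSpace Opposite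

noncomputable section

namespace Groth.L09.IndCoh

open Groth.L17.FSheaf
open Groth.L15.LocPres (evL LPres evL_res)

variable {𝔛 : FSch.Sys.{u}} (hX : 𝔛.IsLocNoethFormal) (F : FSch.ModF 𝔛 hX.1) [ModSite.HasSheafHom F]
  (G : FSch.ModF 𝔛 hX.1)

/-- The internal hom. -/
abbrev homF : FSch.ModF 𝔛 hX.1 := (ModSite.sheafHom F).obj G

theorem qr_coprod (hG : QR G) (p : ℕ) : QR (∐ fun _ : ULift.{u} (Fin p) => G) :=
  finCoprod_induction (fun M : FSch.ModF 𝔛 hX.1 => QR M) (fun h e => h.of_mono e.inv)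
    (fun A h => qr_coh hX (isCohF_zero hX h)) (fun _ _ h h' => qr_biprod hX h h') _ _ fun _ => hG

/-- The coproduct injection. -/
abbrev inj {p : ℕ} (j : Fin p) : G ⟶ ∐ fun _ : ULift.{u} (Fin p) => G := Sigma.ι (fun _ : ULift.{u} (Fin p) => G) ⟨j⟩

/-- A finite tuple of sections as a section of the coproduct. -/
def tup {p : ℕ} {W : (𝔛.X 0).Opens} (z : Fin p → SF 𝔛 hX.1 G W) : SF 𝔛 hX.1 (∐ fun _ : ULift.{u} (Fin p) => G) W :=
  ∑ j, apF (inj hX G j) W (z j)

theorem rsF_sum {M : FSch.ModF 𝔛 hX.1} {U W : (𝔛.X 0).Opens} (e : W ≤ U) {ι : Type*} (s : Finset ι)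
    (z : ι → SF 𝔛 hX.1 M U) : rsF M e (∑ i ∈ s, z i) = ∑ i ∈ s, rsF M e (z i) :=
  res_sum (R := ModSite.ringSh (𝔛.Osh hX.1)) M s e z

theorem rsF_smul {M : FSch.ModF 𝔛 hX.1} {U W : (𝔛.X 0).Opens} (e : W ≤ U) (a : O 𝔛 hX.1 U) (z : SF 𝔛 hX.1 M U) :
    rsF M e (a • z) = resO 𝔛 hX.1 e a • rsF M e z := res_smul (R := ModSite.ringSh (𝔛.Osh hX.1)) M e a z

theorem tup_res {p : ℕ} {U W : (𝔛.X 0).Opens} (e : W ≤ U) (z : Fin p → SF 𝔛 hX.1 G U) :
    rsF _ e (tup hX G z) = tup hX G fun j => rsF G e (z j) :=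
  (rsF_sum hX e _ _).trans (Finset.sum_congr rfl fun j _ => (apF_rsF (inj hX G j) e (z j)).symm)

theorem comb_tup {p n : ℕ} {W : (𝔛.X 0).Opens} (c : Fin n → O 𝔛 hX.1 W) (z : Fin n → Fin p → SF 𝔛 hX.1 G W) :
    ∑ l, c l • tup hX G (z l) = tup hX G fun j => ∑ l, c l • z l j := by
  simp only [tup, Finset.smul_sum, map_sum]
  rw [Finset.sum_comm]
  exact Finset.sum_congr rfl fun j _ => Finset.sum_congr rfl fun l _ => ((apF (inj hX G j) W).map_smul _ _).symm

theorem tup_eq_zero {p : ℕ} {W : (𝔛.X 0).Opens} {z : Fin p → SF 𝔛 hX.1 G W} :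
    tup hX G z = 0 ↔ ∀ j, z j = 0 := by
  refine ⟨fun h j => ?_, fun h => Finset.sum_eq_zero fun j _ => by rw [h j, map_zero]⟩
  classical
  let q : (∐ fun _ : ULift.{u} (Fin p) => G) ⟶ G := Sigma.desc fun k => if k.down = j then 𝟙 G else 0
  have h1 := congrArg (apF q W) h
  rw [map_zero, tup, map_sum, Finset.sum_eq_single j] at h1
  · refine Eq.trans ?_ h1
    refine Eq.trans ?_ (apF_congr hX (f := inj hX G j ≫ q) (Sigma.ι_desc _ _) W (z j)).symm
    rw [if_pos rfl]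
    rfl
  · intro k _ hk
    refine (apF_congr hX (f := inj hX G k ≫ q) (Sigma.ι_desc _ _) W (z k)).trans ?_
    rw [if_neg hk]
    rfl
  · exact fun h => absurd (Finset.mem_univ j) h

variable {F}

/-- The values of a section of the internal hom on generators. -/
def vals {U : (𝔛.X 0).Opens} (P : LPres F U) {W : (𝔛.X 0).Opens} (e : W ≤ U) :
    SF 𝔛 hX.1 (homF hX F G) W →ₗ[O 𝔛 hX.1 W] (Fin P.n → SF 𝔛 hX.1 G W) :=
  LinearMap.pi fun i => (evL F).flip (rsF F e (P.s i))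

theorem vals_injective {U : (𝔛.X 0).Opens} (P : LPres F U) {W : (𝔛.X 0).Opens} (e : W ≤ U) :
    Function.Injective (vals hX G P e) := fun φ φ' h =>
  (P.res (homOfLE e)).hom_ext φ φ' fun i => congrFun h i

theorem vals_res {U : (𝔛.X 0).Opens} (P : LPres F U) {W V : (𝔛.X 0).Opens} (e : W ≤ U) (e' : V ≤ W)
    (φ : SF 𝔛 hX.1 (homF hX F G) W) (i : Fin P.n) :
    vals hX G P (e'.trans e) (rsF (homF hX F G) e' φ) i = rsF G e' (vals hX G P e φ i) := by
  refine Eq.trans ?_ (evL_res F (homOfLE e') φ (rsF F e (P.s i))).symm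
  exact congrArg (evL F (rsF (homF hX F G) e' φ)) (rsF_rsF F e e' (P.s i)).symm

variable (hG : QR G)
include hG

theorem relGen_hom {U : (𝔛.X 0).Opens} (hU : IsAffineOpen U) (P : LPres F U) {n : ℕ}
    (y : Fin n → SF 𝔛 hX.1 (homF hX F G) U) : RelGen (homF hX F G) y := fun W hW c hc x hx => by
  let T : Fin n → SF 𝔛 hX.1 _ U := fun l => tup hX G (vals hX G P le_rfl (y l))
  obtain ⟨V, hV, hxV, hmem⟩ := relGen_affine hX (qr_coprod hX G hG P.n) hU T hW c (by
    simp only [T, tup_res]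
    rw [comb_tup, tup_eq_zero]
    intro i
    have h1 := congrFun ((congrArg (vals hX G P hW) hc).trans (map_zero _)) i
    rw [map_sum, Finset.sum_apply] at h1
    refine Eq.trans (Finset.sum_congr rfl fun l _ => ?_) h1
    exact (congrArg (fun t => c l • t) (vals_res hX G P le_rfl hW (y l) i).symm).trans
      (congrFun ((vals hX G P hW).map_smul _ _).symm i)) x hx
  refine ⟨V, hV, hxV, Submodule.span_mono (Set.image_mono ?_) hmem⟩
  intro r hr
  have h0 := mem_Rels.1 hr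
  rw [comb_tup, tup_eq_zero] at h0
  refine mem_Rels.2 (vals_injective hX G P le_rfl (funext fun i => ?_))
  rw [map_sum, map_zero, Finset.sum_apply]
  refine Eq.trans (Finset.sum_congr rfl fun l _ => ?_) (h0 i)
  exact congrFun ((vals hX G P le_rfl).map_smul _ _) i

theorem genOn_hom {U : (𝔛.X 0).Opens} (hU : IsAffineOpen U) (hg : GenOn G U) (P : LPres F U) :
    GenOn (homF hX F G) U := fun W hW φ x hx => by
  classical
  choose V hV hxV hm using fun i => hg hW (vals hX G P hW φ i) x hx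
  obtain ⟨V', hxV', hV', hV'W⟩ : ∃ V' : (𝔛.X 0).Opens, x ∈ V' ∧ (∀ i, V' ≤ V i) ∧ V' ≤ W :=
    ⟨⟨⋂ i, (V i : Set (𝔛.X 0)), isOpen_iInter_of_finite fun i => (V i).2⟩ ⊓ W, ⟨Set.mem_iInter.2 hxV, hx⟩,
      fun i => inf_le_left.trans fun _ h => Set.mem_iInter.1 h i, inf_le_right⟩
  choose N t c hc using fun i => exists_fin_span (hm i)
  let e := Fintype.equivFin (Σ i, Fin (N i))
  let row : Fin (Fintype.card (Σ i, Fin (N i))) → Fin P.n := fun q => (e.symm q).1
  let tt : Fin (Fintype.card (Σ i, Fin (N i))) → SF 𝔛 hX.1 G U := fun q => t _ (e.symm q).2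
  let cc : Fin (Fintype.card (Σ i, Fin (N i))) → O 𝔛 hX.1 V' := fun q =>
    resO 𝔛 hX.1 (hV' _) (c _ (e.symm q).2)
  let T : Fin (Fintype.card (Σ i, Fin (N i))) → SF 𝔛 hX.1 _ U := fun q =>
    tup hX G fun j => (P.a j (row q) : O 𝔛 hX.1 U) • tt q
  have hval : ∀ i, vals hX G P (hV'W.trans hW) (rsF (homF hX F G) hV'W φ) i =
      ∑ q, if row q = i then cc q • rsF G (hV'W.trans hW) (tt q) else 0 := by
    intro i
    refine Eq.trans ?_ (e.symm.sum_comp fun z : Σ i, Fin (N i) => if z.1 = i then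
      resO 𝔛 hX.1 (hV' _) (c _ z.2) • rsF G (hV'W.trans hW) (t _ z.2) else 0).symm
    rw [Fintype.sum_sigma, Finset.sum_eq_single i (fun i' _ hi => by simp [hi])
      (fun h => absurd (Finset.mem_univ i) h)]
    simp only [↓reduceIte]
    refine (vals_res hX G P hW hV'W φ i).trans ?_
    refine ((rsF_rsF G (hV i) (hV' i) _).symm.trans ((congrArg (rsF G (hV' i)) (hc i)).trans ?_))
    exact rsF_comb G ((hV i).trans hW) (hV' i) (c i) (t i)
  obtain ⟨V₂, hV₂, hxV₂, hmem⟩ := relGen_affine hX (qr_coprod hX G hG P.p) hU T (hV'W.trans hW) cc (by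
    simp only [T, tup_res, rsF_smul]
    rw [comb_tup, tup_eq_zero]
    intro j
    have h0 : ∑ i, resO 𝔛 hX.1 (hV'W.trans hW) (P.a j i) •
        vals hX G P (hV'W.trans hW) (rsF (homF hX F G) hV'W φ) i = 0 :=
      Groth.L15.LocPres.sum_rel F (P.res (homOfLE (hV'W.trans hW))) (rsF (homF hX F G) hV'W φ) j
    refine Eq.trans ?_ h0
    simp only [hval, Finset.smul_sum, smul_ite, smul_zero]
    rw [Finset.sum_comm]
    refine Finset.sum_congr rfl fun q _ => ?_
    rw [Finset.sum_ite_eq Finset.univ (row q), if_pos (Finset.mem_univ _)]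
    refine (congrArg (fun z => cc q • z) (rsF_smul hX (hV'W.trans hW) (P.a j (row q) : O 𝔛 hX.1 U) (tt q))).trans ?_
    exact (smul_smul _ _ _).trans ((congrArg (fun z => z • rsF G (hV'W.trans hW) (tt q)) (mul_comm _ _)).trans
      (smul_smul _ _ _).symm)) x hxV'
  refine ⟨V₂, hV₂.trans hV'W, hxV₂, ?_⟩
  let S := Submodule.span (O 𝔛 hX.1 V₂)
    (Set.range fun ψ : SF 𝔛 hX.1 (homF hX F G) U => rsF (homF hX F G) ((hV₂.trans hV'W).trans hW) ψ)
  let v := vals hX G P ((hV₂.trans hV'W).trans hW)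
  have h2 := lincomb_mem (w := fun q (i : Fin P.n) => if row q = i then rsF G (hV₂.trans (hV'W.trans hW)) (tt q) else 0)
    (S := S.map v) (fun r hr => by
      simp only [T] at hr
      rw [comb_tup, tup_eq_zero] at hr
      obtain ⟨ψ, hψ⟩ := P.exists_desc (fun i => ∑ q, if row q = i then r q • tt q else 0) (fun j => by
        refine Eq.trans ?_ (hr j)
        simp only [Finset.smul_sum, smul_ite, smul_zero]
        rw [Finset.sum_comm]
        refine Finset.sum_congr rfl fun q _ => ?_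
        rw [Finset.sum_ite_eq Finset.univ (row q), if_pos (Finset.mem_univ _)]
        show (P.a j (row q) : O 𝔛 hX.1 U) • (r q • tt q) = r q • ((P.a j (row q) : O 𝔛 hX.1 U) • tt q)
        rw [smul_smul, smul_smul, mul_comm])
      refine ⟨rsF (homF hX F G) _ ψ, Submodule.subset_span ⟨ψ, rfl⟩, funext fun i => ?_⟩
      refine (vals_res hX G P le_rfl _ ψ i).trans ?_
      have hψi : vals hX G P le_rfl ψ i = ∑ q, if row q = i then r q • tt q else 0 :=
        (congrArg (evL F ψ) (res_self (R := ModSite.ringSh (𝔛.Osh hX.1)) F _ (P.s i))).trans (hψ i)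
      rw [hψi, rsF_sum hX]
      simp only [Finset.sum_apply, Pi.smul_apply]
      refine Finset.sum_congr rfl fun q _ => ?_
      by_cases hq : row q = i
      · simp only [hq, ↓reduceIte]
        exact rsF_smul hX _ _ _
      · simp only [hq, ↓reduceIte, smul_zero]
        exact res_zero (R := ModSite.ringSh (𝔛.Osh hX.1)) G _) hmem
  obtain ⟨ω, hω, hωe⟩ := h2
  rw [show rsF (homF hX F G) (hV₂.trans hV'W) φ = ω from vals_injective hX G P ((hV₂.trans hV'W).trans hW) (funext fun i => ?_)]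
  · exact hω
  · rw [hωe]
    refine (congrArg (fun z => vals hX G P ((hV₂.trans hV'W).trans hW) z i) (rsF_rsF _ hV'W hV₂ φ).symm).trans ?_
    refine (vals_res hX G P (hV'W.trans hW) hV₂ _ i).trans ?_
    rw [hval, rsF_sum hX]
    simp only [Finset.sum_apply, Pi.smul_apply]
    refine Finset.sum_congr rfl fun q _ => ?_
    by_cases hq : row q = i
    · simp only [hq, ↓reduceIte]
      exact (rsF_smul hX _ _ _).trans (congrArg (fun t => resO 𝔛 hX.1 hV₂ (cc q) • t) (rsF_rsF G _ _ _))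
    · simp only [hq, ↓reduceIte, smul_zero]
      exact res_zero (R := ModSite.ringSh (𝔛.Osh hX.1)) G _

omit hG in
theorem exists_affine_lpres (hF : FSch.IsCohF 𝔛 hX.1 F) {W : (𝔛.X 0).Opens} {x : 𝔛.X 0} (hx : x ∈ W) :
    ∃ U : (𝔛.X 0).Opens, IsAffineOpen U ∧ x ∈ U ∧ U ≤ W ∧ Nonempty (LPres F U) := by
  haveI : SheafOfModules.IsFinitePresentation (R := ModSite.ringSh (𝔛.Osh hX.1)) F := hF
  obtain ⟨S, hS, hd⟩ := Groth.L15.LocPres.exists_cover (O := 𝔛.Osh hX.1) F W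
  obtain ⟨V, f, hf, hxV⟩ := hS x hx
  obtain ⟨U, hU, hxU, hle⟩ := Opens.isBasis_iff_nbhd.1 (𝔛.X 0).isBasis_affineOpens hxV
  exact ⟨U, hU, hxU, hle.trans (leOfHom f), (hd f hf).map fun P => P.res (homOfLE hle)⟩

theorem qr_hom (hF : FSch.IsCohF 𝔛 hX.1 F) : QR (homF hX F G) := fun W n y x hx => by
  obtain ⟨U, hU, hxU, hle, ⟨P⟩⟩ := exists_affine_lpres hX (F := F) hF hx
  exact ⟨U, hle, hU, hxU, relGen_hom hX G hG hU P _⟩

theorem lGen_hom (hF : FSch.IsCohF 𝔛 hX.1 F) (hL : LGen G) : LGen (homF hX F G) := fun x => by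
  obtain ⟨U₀, -, hxU₀, hg⟩ := hL x
  obtain ⟨U, hU, hxU, hle, ⟨P⟩⟩ := exists_affine_lpres hX (F := F) hF hxU₀
  exact ⟨U, hU, hxU, genOn_hom hX G hG hU (hg.mono hle) P⟩

omit hG in
/-- The internal hom of coherent modules is coherent. -/
theorem isCohF_hom (hF : FSch.IsCohF 𝔛 hX.1 F) (hGc : FSch.IsCohF 𝔛 hX.1 G) :
    FSch.IsCohF 𝔛 hX.1 (homF hX F G) := by
  refine isCohF_of_qr_finGen hX (qr_hom hX G (qr_coh hX hGc) hF) fun x => ?_
  obtain ⟨U, hU, hxU, -, ⟨P⟩⟩ := exists_affine_lpres hX (F := F) hF (show x ∈ (⊤ : (𝔛.X 0).Opens) from trivial)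
  haveI := (O_spec 𝔛 hX hU).1
  haveI : Module.Finite (O 𝔛 hX.1 U) (SF 𝔛 hX.1 G U) := (SF_spec 𝔛 hX hGc hU).1
  haveI : Module.Finite (O 𝔛 hX.1 U) (SF 𝔛 hX.1 (homF hX F G) U) :=
    Module.Finite.of_injective (vals hX G P le_rfl) (vals_injective hX G P le_rfl)
  obtain ⟨n, g, hspan⟩ := Module.Finite.exists_fin (R := O 𝔛 hX.1 U) (M := SF 𝔛 hX.1 (homF hX F G) U)
  refine ⟨U, hxU, n, g, fun W hW y hy z => ?_⟩
  obtain ⟨V, hV, hyV, hmem⟩ := genOn_hom hX G (qr_coh hX hGc) hU (genOn_coh hX hGc hU) P hW z y hy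
  refine ⟨V, hV, hyV, ?_⟩
  have hle : Submodule.span (O 𝔛 hX.1 V) (Set.range fun t : SF 𝔛 hX.1 (homF hX F G) U =>
      rsF (homF hX F G) (hV.trans hW) t) ≤
      Submodule.span (O 𝔛 hX.1 V) (Set.range fun i => rsF (homF hX F G) (hV.trans hW) (g i)) := by
    refine Submodule.span_le.2 ?_
    rintro _ ⟨t, rfl⟩
    obtain ⟨a, rfl⟩ := (Submodule.mem_span_range_iff_exists_fun _).1
      (hspan ▸ Submodule.mem_top : t ∈ Submodule.span (O 𝔛 hX.1 U) (Set.range g))
    show rsF (homF hX F G) (hV.trans hW) _ ∈ Submodule.span _ _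
    simp only [rsF_sum hX, rsF_smul hX]
    exact Submodule.sum_mem _ fun i _ => Submodule.smul_mem _ _ (Submodule.subset_span ⟨i, rfl⟩)
  obtain ⟨a, ha⟩ := (Submodule.mem_span_range_iff_exists_fun _).1 (hle hmem)
  exact ⟨a, ha.symm⟩

end Groth.L09.IndCoh
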