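import Groth.Agent.L09.IndCoh.Cov
import Mathlib.Algebra.Category.ModuleCat.Presheaf.Submodule

/-!
# Coherent submodules spanned by compatible families of local sections
-/

set_option autoImplicit false
set_option linter.style.haveILetI false
set_option linter.unusedSectionVars false
set_option backward.isDefEq.respectTransparency false
set_option backward.isDefEq.respectTransparency.types false

universe u

open CategoryTheory CategoryTheory.Limits AlgebraicGeometry TopologicalSpace Opposite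

noncomputable section

namespace Groth.L09.IndCoh

open Groth.L17.FSheaf

variable {𝔛 : FSch.Sys.{u}} (hX : 𝔛.IsLocNoethFormal) (B : FSch.ModF 𝔛 hX.1) {κ : Type u} (U : κ → (𝔛.X 0).Opens)
  {n : κ → ℕ} (g : ∀ k, Fin (n k) → SF 𝔛 hX.1 B (U k))

/-- Sections which are locally combinations of the given ones. -/
def locSpan (W : (𝔛.X 0).Opens) : Submodule (O 𝔛 hX.1 W) (SF 𝔛 hX.1 B W) where
  carrier := {s | ∀ k, ∀ x ∈ W, x ∈ U k → ∃ (V : (𝔛.X 0).Opens) (hV : V ≤ W) (hVU : V ≤ U k), x ∈ V ∧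
    rsF B hV s ∈ Submodule.span (O 𝔛 hX.1 V) (Set.range fun i => rsF B hVU (g k i))}
  zero_mem' k x hx hxU := ⟨W ⊓ U k, inf_le_left, inf_le_right, ⟨hx, hxU⟩, by
    rw [show rsF B (inf_le_left : W ⊓ U k ≤ W) (0 : SF 𝔛 hX.1 B W) = 0 from
      res_zero (R := ModSite.ringSh (𝔛.Osh hX.1)) B _]
    exact zero_mem _⟩
  add_mem' {s t} hs ht k x hx hxU := by
    obtain ⟨V, hV, hVU, hxV, h1⟩ := hs k x hx hxU
    obtain ⟨V', hV', hVU', hxV', h2⟩ := ht k x hx hxU
    refine ⟨V ⊓ V', inf_le_left.trans hV, inf_le_left.trans hVU, ⟨hxV, hxV'⟩, ?_⟩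
    rw [show rsF B (inf_le_left.trans hV) (s + t) = rsF B (inf_le_left : V ⊓ V' ≤ V) (rsF B hV s) +
      rsF B (inf_le_right : V ⊓ V' ≤ V') (rsF B hV' t) from by
        rw [rsF_rsF, rsF_rsF]; exact res_add (R := ModSite.ringSh (𝔛.Osh hX.1)) B _ _ _]
    refine add_mem ?_ ?_
    · obtain ⟨c, hc⟩ := (Submodule.mem_span_range_iff_exists_fun _).1 h1
      rw [← hc, rsF_comb]
      exact Submodule.sum_mem _ fun i _ => Submodule.smul_mem _ _ (Submodule.subset_span ⟨i, rfl⟩)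
    · obtain ⟨c, hc⟩ := (Submodule.mem_span_range_iff_exists_fun _).1 h2
      rw [← hc, rsF_comb]
      exact Submodule.sum_mem _ fun i _ => Submodule.smul_mem _ _ (Submodule.subset_span ⟨i, rfl⟩)
  smul_mem' r s hs k x hx hxU := by
    obtain ⟨V, hV, hVU, hxV, h1⟩ := hs k x hx hxU
    refine ⟨V, hV, hVU, hxV, ?_⟩
    rw [show rsF B hV (r • s) = resO 𝔛 hX.1 hV r • rsF B hV s from
      res_smul (R := ModSite.ringSh (𝔛.Osh hX.1)) B hV r s]
    exact Submodule.smul_mem _ _ h1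

/-- The presheaf of locally spanned sections. -/
def spanPre : B.val.Submodule where
  obj W := locSpan hX B U g W.unop
  map {W W'} f s hs k x hx hxU := by
    obtain ⟨V, hV, hVU, hxV, h1⟩ := hs k x (leOfHom f.unop hx) hxU
    obtain ⟨c, hc⟩ := (Submodule.mem_span_range_iff_exists_fun _).1 h1
    refine ⟨V ⊓ W'.unop, inf_le_right, inf_le_left.trans hVU, ⟨hxV, hx⟩, ?_⟩
    have h2 : rsF B (inf_le_right : V ⊓ W'.unop ≤ W'.unop) (rsF B (leOfHom f.unop) s) =
        rsF B (inf_le_left : V ⊓ W'.unop ≤ V) (rsF B hV s) := by rw [rsF_rsF, rsF_rsF]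
    show rsF B (inf_le_right : V ⊓ W'.unop ≤ W'.unop) (rsF B (leOfHom f.unop) s) ∈ _
    rw [h2, ← hc, rsF_comb]
    exact Submodule.sum_mem _ fun i _ => Submodule.smul_mem _ _ (Submodule.subset_span ⟨i, rfl⟩)

theorem isSheaf_spanPre :
    Presheaf.IsSheaf (Opens.grothendieckTopology (𝔛.X 0)) (spanPre hX B U g).toPresheafOfModules.presheaf := by
  rw [Presheaf.isSheaf_iff_isSheaf_forget _ _ (CategoryTheory.forget AddCommGrpCat.{u}),
    isSheaf_iff_isSheaf_of_type]
  intro E R hR x hx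
  let y : Presieve.FamilyOfElements (B.val.presheaf ⋙ CategoryTheory.forget _) R.arrows :=
    fun V f hf => Subtype.val (x f hf)
  have hy : y.Compatible := fun V₁ V₂ W g₁ g₂ f₁ f₂ h₁ h₂ e => congrArg Subtype.val (hx g₁ g₂ h₁ h₂ e)
  obtain ⟨s, hs, huniq⟩ := (isSheaf_iff_isSheaf_of_type _ _).1
    ((Presheaf.isSheaf_iff_isSheaf_forget _ _ (CategoryTheory.forget AddCommGrpCat.{u})).1 B.isSheaf) R hR y hy
  have hmem : s ∈ locSpan hX B U g E := fun k z hz hzU => by
    obtain ⟨W, f, hf, hzW⟩ := hR z hz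
    have hs' : rsF B (leOfHom f) s = (x f hf).1 := hs f hf
    obtain ⟨V, hV, hVU, hzV, h1⟩ := (x f hf).2 k z hzW hzU
    refine ⟨V, hV.trans (leOfHom f), hVU, hzV, ?_⟩
    rw [← rsF_rsF B (leOfHom f) hV s, hs']
    exact h1
  exact ⟨⟨s, hmem⟩, fun V f hf => Subtype.ext (hs f hf),
    fun t ht => Subtype.ext (huniq t.1 fun V f hf => congrArg Subtype.val (ht f hf))⟩

/-- The submodule of locally spanned sections. -/
def spanMod : FSch.ModF 𝔛 hX.1 := ⟨(spanPre hX B U g).toPresheafOfModules, isSheaf_spanPre hX B U g⟩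

/-- Its inclusion. -/
def spanι : spanMod hX B U g ⟶ B := ⟨(spanPre hX B U g).ι⟩

instance : Mono (spanι hX B U g) :=
  (SheafOfModules.forget _).mono_of_mono_map (inferInstanceAs (Mono (spanPre hX B U g).ι))

theorem exists_span_sect {W : (𝔛.X 0).Opens} {s : SF 𝔛 hX.1 B W} (hs : s ∈ locSpan hX B U g W) :
    ∃ t : SF 𝔛 hX.1 (spanMod hX B U g) W, apF (spanι hX B U g) W t = s := ⟨⟨s, hs⟩, rfl⟩

theorem span_mem {W : (𝔛.X 0).Opens} (t : SF 𝔛 hX.1 (spanMod hX B U g) W) :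
    apF (spanι hX B U g) W t ∈ locSpan hX B U g W := t.2

variable (hcov : ∀ x, ∃ k, x ∈ U k) (hB : QR B)
  (hcomp : ∀ k (i : Fin (n k)), g k i ∈ locSpan hX B U g (U k))

include hcov hB hcomp in
theorem isCohF_spanMod : FSch.IsCohF 𝔛 hX.1 (spanMod hX B U g) := by
  refine isCohF_of_qr_finGen hX (hB.of_mono (spanι hX B U g)) fun x => ?_
  obtain ⟨k, hk⟩ := hcov x
  choose t ht using fun i => exists_span_sect hX B U g (hcomp k i)
  refine ⟨U k, hk, n k, t, fun W hW y hy z => ?_⟩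
  obtain ⟨V, hV, hVU, hyV, hmem⟩ := span_mem hX B U g z k y hy (hW hy)
  obtain ⟨c, hc⟩ := (Submodule.mem_span_range_iff_exists_fun _).1 hmem
  refine ⟨V, hV, hyV, c, injective_apF (spanι hX B U g) V ?_⟩
  refine (apF_rsF _ hV z).trans (hc.symm.trans ?_)
  rw [map_sum]
  exact Finset.sum_congr rfl fun i _ => (((apF (spanι hX B U g) V).map_smul _ _).trans
    (congrArg (fun t => c i • t) ((apF_rsF _ (hV.trans hW) (t i)).trans (congrArg (rsF B _) (ht i))))).symm

end Groth.L09.IndCoh
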