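import Groth.Agent.L09.IndCoh.IndPres

/-!
# Covered modules on affine formal schemes
-/

set_option autoImplicit false
set_option linter.style.haveILetI false
set_option linter.unusedSectionVars false
set_option backward.isDefEq.respectTransparency false
set_option backward.isDefEq.respectTransparency.types false

universe u

open CategoryTheory CategoryTheory.Limits AlgebraicGeometry TopologicalSpace Opposite

noncomputable section

namespace Groth.L09.IndCoh

open Groth.L17.FSheaf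

variable {𝔛 : FSch.Sys.{u}} (hX : 𝔛.IsLocNoethFormal)

theorem good_free (I : Type u) : Good hX (SheafOfModules.free (R := ModSite.ringSh (𝔛.Osh hX.1)) I) := by
  let K := ULift.{u} (Fin 1)
  let u₁ : FSch.ModF 𝔛 hX.1 := SheafOfModules.unit (ModSite.ringSh (𝔛.Osh hX.1))
  have hu : Good hX u₁ := Good.of_iso hX (good_coh hX (isCohF_free hX 1))
    { hom := Sigma.desc (fun _ : K => 𝟙 u₁)
      inv := Sigma.ι (fun _ : K => u₁) ⟨0⟩
      hom_inv_id := Sigma.hom_ext _ _ fun i => by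
        obtain rfl : i = ⟨0⟩ := ULift.ext _ _ (Subsingleton.elim _ _)
        exact ((Sigma.ι_desc_assoc _ _ _).trans (Category.id_comp _)).trans (Category.comp_id _).symm
      inv_hom_id := Sigma.ι_desc _ _ }
  exact good_sigma hX I (Discrete.functor fun _ : I => u₁) fun _ => hu

theorem genOn_of_top_epi {M : FSch.ModF 𝔛 hX.1} (hg : GenOn M ⊤) :
    Epi (freeTop (I := SF 𝔛 hX.1 M ⊤) (R := ModSite.ringSh (𝔛.Osh hX.1)) M id) := by
  refine Preadditive.epi_of_cancel_zero _ fun {H} q hq => ?_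
  refine SheafOfModules.hom_ext (PresheafOfModules.hom_ext fun W => ModuleCat.hom_ext (LinearMap.ext fun z => ?_))
  obtain ⟨W, rfl⟩ : ∃ W', W = op W' := ⟨W.unop, rfl⟩
  refine eq_of_locally (R := ModSite.ringSh (𝔛.Osh hX.1)) H _ _ fun x hx => ?_
  obtain ⟨V, hV, hxV, hmem⟩ := hg (le_top : W ≤ ⊤) z x hx
  refine ⟨V, hV, hxV, ?_⟩
  show rsF H hV (apF q W z) = rsF H hV 0
  rw [← apF_rsF q hV]
  refine Eq.trans ?_ (res_zero (R := ModSite.ringSh (𝔛.Osh hX.1)) H hV).symm
  have hle : Submodule.span (O 𝔛 hX.1 V) (Set.range fun t : SF 𝔛 hX.1 M ⊤ => rsF M (hV.trans le_top) t) ≤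
      LinearMap.ker (apF q V) := by
    refine Submodule.span_le.2 ?_
    rintro _ ⟨t, rfl⟩
    show apF q V (rsF M (hV.trans le_top) t) = 0
    rw [show rsF M (hV.trans le_top) t = apF (freeTop (R := ModSite.ringSh (𝔛.Osh hX.1)) M id) V
      (e₀ (R := ModSite.ringSh (𝔛.Osh hX.1)) (SF 𝔛 hX.1 M ⊤) t (op V)) from
        (freeTop_e₀ (R := ModSite.ringSh (𝔛.Osh hX.1)) M id t V).symm]
    exact hom_comp_zero hq _ _
  exact hle hmem

/-- On an affine formal scheme, small filtered colimits of coherent modules are the cokernels of maps of free modules. -/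
theorem ind_iff_exists_cokernel (htop : IsAffineOpen (⊤ : (𝔛.X 0).Opens)) (M : FSch.ModF 𝔛 hX.1) :
    (ObjectProperty.ind.{u} fun 𝔊 : FSch.ModF 𝔛 hX.1 => FSch.IsCohF 𝔛 hX.1 𝔊) M ↔
      ∃ (α β : Type u) (φ : (SheafOfModules.free α : FSch.ModF 𝔛 hX.1) ⟶ SheafOfModules.free β),
        Nonempty (cokernel φ ≅ M) := by
  rw [ind_iff_good hX]
  refine ⟨fun hM => ?_, fun ⟨α, β, φ, ⟨e⟩⟩ => Good.of_iso hX (good_cokernel hX (good_free hX α).2 (good_free hX β) φ) e⟩
  let π := freeTop (I := SF 𝔛 hX.1 M ⊤) (R := ModSite.ringSh (𝔛.Osh hX.1)) M id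
  haveI hπ : Epi π := genOn_of_top_epi hX (genOn_cov hX hM.2 htop)
  have hK : GenOn (kernel π) ⊤ := genOn_kernel hX htop (genOn_cov hX (good_free hX _).2 htop) hM.1 π
  let ρ := freeTop (I := SF 𝔛 hX.1 (kernel π) ⊤) (R := ModSite.ringSh (𝔛.Osh hX.1)) (kernel π) id
  haveI hρ : Epi ρ := genOn_of_top_epi hX hK
  refine ⟨_, _, ρ ≫ kernel.ι π, ⟨?_⟩⟩
  exact cokernelEpiComp ρ (kernel.ι π) ≪≫
    (colimit.isColimit _).coconePointUniqueUpToIso (Abelian.epiIsCokernelOfKernel _ (kernelIsKernel π))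

end Groth.L09.IndCoh
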