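import Groth.Agent.L09.IndCoh.Rel

/-!
# Relations over affine opens generate
-/

set_option autoImplicit false
set_option linter.style.haveILetI false
set_option linter.unusedSectionVars false
set_option backward.isDefEq.respectTransparency false
set_option backward.isDefEq.respectTransparency.types false

universe u

open CategoryTheory CategoryTheory.Limits AlgebraicGeometry TopologicalSpace Opposite

noncomputable section

namespace Groth.L09.IndCoh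

open Groth.L17.FSheaf

variable {𝔛 : FSch.Sys.{u}} (hX : 𝔛.IsLocNoethFormal) (U : (𝔛.X 0).Opens)

theorem hX' : (R' 𝔛 hX.1 U).IsLocNoethFormal := isLocNoethFormal_restrictOpen 𝔛 hX.1 U hX

variable {M : FSch.ModF 𝔛 hX.1}

/-- Generation of relations is preserved by restriction to an open. -/
theorem relGen_rf {V : ((R' 𝔛 hX.1 U).X 0).Opens} {n : ℕ} {y : Fin n → SF 𝔛 hX.1 M (ι₀ 𝔛 hX.1 U ''ᵁ V)}
    (hy : RelGen M y) : RelGen ((rf 𝔛 hX.1 U).obj M) fun i => up 𝔛 hX.1 U V (y i) := by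
  intro W' hW' c hc v hv
  obtain ⟨V₁, hV₁, hvV₁, hmem⟩ := hy ((ι₀ 𝔛 hX.1 U).image_mono hW') (fun i => (eR 𝔛 hX.1 U W').symm (c i)) hc
    (ι₀ 𝔛 hX.1 U v) ⟨v, hv, rfl⟩
  obtain ⟨B, rfl⟩ : ∃ B, V₁ = ι₀ 𝔛 hX.1 U ''ᵁ B :=
    ⟨_, (im_preim 𝔛 hX.1 U (hV₁.trans (im_le 𝔛 hX.1 U W'))).symm⟩
  have hBW : B ≤ W' := fun z hz => by
    obtain ⟨w, hw, hwz⟩ := hV₁ ⟨z, hz, rfl⟩
    rwa [← (ι₀ 𝔛 hX.1 U).isOpenEmbedding.injective hwz]
  refine ⟨B, hBW, by
    obtain ⟨w, hw, hwv⟩ := hvV₁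
    rwa [← (ι₀ 𝔛 hX.1 U).isOpenEmbedding.injective hwv], ?_⟩
  let E := eR 𝔛 hX.1 U
  have key : ∀ a : Fin n → O 𝔛 hX.1 (ι₀ 𝔛 hX.1 U ''ᵁ B), a ∈ resRels M ((ι₀ 𝔛 hX.1 U).image_mono (hBW.trans hW')) y →
      (fun i => E B (a i)) ∈ resRels ((rf 𝔛 hX.1 U).obj M) (hBW.trans hW') fun i => up 𝔛 hX.1 U V (y i) := by
    intro a ha
    induction ha using Submodule.span_induction with
    | mem a ha =>
      obtain ⟨r, hr, rfl⟩ := ha
      refine Submodule.subset_span ⟨fun i => E V (r i), ?_, funext fun i => (toR'_res 𝔛 hX.1 U (hBW.trans hW') (r i)).symm⟩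
      exact mem_Rels.2 ((Finset.sum_congr rfl fun i _ => smul_up 𝔛 hX.1 U V (r i) (y i)).trans (mem_Rels.1 hr))
    | zero => simp only [Pi.zero_apply, map_zero]; exact zero_mem _
    | add a b _ _ ha hb => simp only [Pi.add_apply, map_add]; exact add_mem ha hb
    | smul t a _ ha => simp only [Pi.smul_apply, smul_eq_mul, map_mul]; exact Submodule.smul_mem _ (E B t) ha
  have h1 := key _ hmem
  have h2 : (fun i => resO (R' 𝔛 hX.1 U) (h' 𝔛 hX.1 U) hBW (c i)) =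
      fun i => E B (resO 𝔛 hX.1 hV₁ ((E W').symm (c i))) := funext fun i =>
    (congrArg (resO (R' 𝔛 hX.1 U) (h' 𝔛 hX.1 U) hBW) ((E W').apply_symm_apply (c i)).symm).trans
      (toR'_res 𝔛 hX.1 U hBW _).symm
  rwa [h2]

theorem qr_rf (hM : QR M) : QR ((rf 𝔛 hX.1 U).obj M) := by
  intro V n y v hv
  obtain ⟨U₁, hU₁, haff, hvU₁, hg⟩ := hM (ι₀ 𝔛 hX.1 U ''ᵁ V) n y (ι₀ 𝔛 hX.1 U v) ⟨v, hv, rfl⟩
  obtain ⟨B, rfl⟩ : ∃ B, U₁ = ι₀ 𝔛 hX.1 U ''ᵁ B :=
    ⟨_, (im_preim 𝔛 hX.1 U (hU₁.trans (im_le 𝔛 hX.1 U V))).symm⟩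
  have hBV : B ≤ V := fun z hz => by
    obtain ⟨w, hw, hwz⟩ := hU₁ ⟨z, hz, rfl⟩
    rwa [← (ι₀ 𝔛 hX.1 U).isOpenEmbedding.injective hwz]
  refine ⟨B, hBV, ?_, by
    obtain ⟨w, hw, hwv⟩ := hvU₁
    rwa [← (ι₀ 𝔛 hX.1 U).isOpenEmbedding.injective hwv], relGen_rf hX U hg⟩
  rw [← (ι₀ 𝔛 hX.1 U).preimage_image_eq B]
  exact haff.preimage_of_isOpenImmersion _ ((ι₀ 𝔛 hX.1 U).image_le_opensRange B)

/-- The kernel of a map from a finite free module has generators over the whole affine space. -/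
theorem relGen_top {N : FSch.ModF 𝔛 hX.1} (hN : QR N) (htop : IsAffineOpen (⊤ : (𝔛.X 0).Opens)) {n : ℕ}
    (y : Fin n → SF 𝔛 hX.1 N ⊤) : RelGen N y := by
  classical
  let R := ModSite.ringSh (𝔛.Osh hX.1)
  let I := ULift.{u} (Fin n)
  let F : FSch.ModF 𝔛 hX.1 := SheafOfModules.free (R := R) I
  let e : ∀ W : (𝔛.X 0).Opens, I → SF 𝔛 hX.1 F W := fun W i => e₀ (R := R) I i (op W)
  let φ : F ⟶ N := freeTop (R := R) N fun i : I => y i.down
  have hφ : ∀ (W : (𝔛.X 0).Opens) (a : I → O 𝔛 hX.1 W),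
      apF φ W (∑ i, a i • e W i) = ∑ i : Fin n, a ⟨i⟩ • rsF N (le_top : W ≤ ⊤) (y i) := fun W a =>
    (freeTop_comb (R := R) N (fun i : I => y i.down) W a).trans
      (Fintype.sum_equiv Equiv.ulift _ _ fun i => rfl)
  have he : ∀ {V W : (𝔛.X 0).Opens} (le : W ≤ V) i, rsF F le (e V i) = e W i := fun le i =>
    e₀_map (R := R) i (homOfLE le).op
  have hres : ∀ {V W : (𝔛.X 0).Opens} (le : W ≤ V) (a : I → O 𝔛 hX.1 V),
      rsF F le (∑ i, a i • e V i) = ∑ i, resO 𝔛 hX.1 le (a i) • e W i := fun {V W} le a => by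
    refine (res_sum (R := R) F Finset.univ le fun i => a i • e V i).trans (Finset.sum_congr rfl fun i _ => ?_)
    exact (res_smul (R := R) F le (a i) (e V i)).trans (congrArg (fun t => resO 𝔛 hX.1 le (a i) • t) (he le i))
  have hcomb : ∀ (W : (𝔛.X 0).Opens) (c : I → O 𝔛 hX.1 W), ∀ i, ∑ j, c j • e W j = 0 → c i = 0 :=
    fun W c i hc => coeff_eq_zero (R := R) (op W) c hc i
  have hK : LGen (kernel φ) := fun x => by
    obtain ⟨U₁, _, haff, hxU₁, hg⟩ := hN ⊤ n y x trivial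
    refine ⟨U₁, haff, hxU₁, fun W hW z p hp => ?_⟩
    obtain ⟨a, ha⟩ := exists_coeff₀ (R := R) (op W) (apF (kernel.ι φ) W z)
    have h0 : apF φ W (apF (kernel.ι φ) W z) = 0 := hom_comp_zero (kernel.condition φ) _ z
    rw [show apF (kernel.ι φ) W z = ∑ i, a i • e W i from ha, hφ] at h0
    obtain ⟨V, hV, hpV, hmem⟩ := hg hW (fun i => a ⟨i⟩) (by
      refine Eq.trans (Finset.sum_congr rfl fun i _ => ?_) h0
      exact congrArg (fun t => (show O 𝔛 hX.1 W from a ⟨i⟩) • t) (rsF_rsF N le_top hW (y i))) p hp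
    refine ⟨V, hV, hpV, ?_⟩
    have key : ∀ b, b ∈ resRels N (hV.trans hW) (fun i => rsF N (le_top : U₁ ≤ ⊤) (y i)) →
        ∃ t ∈ Submodule.span (O 𝔛 hX.1 V) (Set.range fun t : SF 𝔛 hX.1 (kernel φ) U₁ => rsF (kernel φ) (hV.trans hW) t),
          apF (kernel.ι φ) V t = ∑ i : I, b i.down • e V i := by
      intro b hb
      induction hb using Submodule.span_induction with
      | mem b hb =>
        obtain ⟨r, hr, rfl⟩ := hb
        obtain ⟨k, hk⟩ := (exists_kernel_sect φ (op U₁)).1 (∑ i : I, r i.down • e U₁ i)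
          ((hφ U₁ fun i => r i.down).trans (mem_Rels.1 hr))
        exact ⟨_, Submodule.subset_span ⟨k, rfl⟩,
          (apF_rsF (kernel.ι φ) (hV.trans hW) k).trans ((congrArg (rsF F (hV.trans hW)) hk).trans (hres _ _))⟩
      | zero => exact ⟨0, zero_mem _, by simp⟩
      | add b b' _ _ hb hb' =>
        obtain ⟨t, ht, hte⟩ := hb
        obtain ⟨t', ht', hte'⟩ := hb'
        exact ⟨t + t', add_mem ht ht', by simp [hte, hte', add_smul, Finset.sum_add_distrib]⟩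
      | smul s b _ hb =>
        obtain ⟨t, ht, hte⟩ := hb
        exact ⟨s • t, Submodule.smul_mem _ _ ht, by rw [map_smul, hte, Finset.smul_sum]; simp [smul_smul]⟩
    obtain ⟨t, ht, hte⟩ := key _ hmem
    rw [injective_apF (kernel.ι φ) V ((apF_rsF (kernel.ι φ) hV z).trans
      ((congrArg (rsF F hV) ha).trans ((hres hV a).trans hte.symm)))]
    exact ht
  have hKc : FSch.IsCohF 𝔛 hX.1 (kernel φ) :=
    isCohF_of_mono hX (isFinitePresentation_free (R := R) n) (kernel.ι φ) hK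
  obtain ⟨l, _, g, _, -, hg⟩ := exists_gen_rel_SF 𝔛 hX hKc htop
  choose r hr using fun j => exists_coeff₀ (R := R) (op ⊤) (apF (kernel.ι φ) ⊤ (g j))
  intro W hW c hc x hx
  obtain ⟨V, hVaff, hxV, hVW⟩ := Opens.isBasis_iff_nbhd.1 (𝔛.X 0).isBasis_affineOpens hx
  refine ⟨V, hVW, hxV, ?_⟩
  obtain ⟨k, hk⟩ := (exists_kernel_sect φ (op W)).1 (∑ i : I, c i.down • e W i) ((hφ W fun i => c i.down).trans hc)
  obtain ⟨d, hd⟩ := (Submodule.mem_span_range_iff_exists_fun _).1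
    ((hg hVaff (le_top : V ≤ ⊤)).1 ▸ Submodule.mem_top : rsF (kernel φ) hVW k ∈ _)
  have hrR : ∀ j, (fun i => (show O 𝔛 hX.1 ⊤ from r j ⟨i⟩)) ∈ Rels N y := fun j => by
    refine mem_Rels.2 (Eq.trans ?_ (hom_comp_zero (kernel.condition φ) (op ⊤) (g j)))
    refine Eq.trans ?_ (congrArg (apF φ ⊤) (hr j)).symm
    refine Eq.trans (Finset.sum_congr rfl fun i _ => ?_) (hφ ⊤ (r j)).symm
    exact congrArg (fun t => (show O 𝔛 hX.1 ⊤ from r j ⟨i⟩) • t) (res_self N _ (y i)).symm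
  have h1 : ∑ i : I, resO 𝔛 hX.1 hVW (c i.down) • e V i =
      ∑ i : I, (∑ j, d j * resO 𝔛 hX.1 (le_top : V ≤ ⊤) (r j i)) • e V i := by
    have h2 := (congrArg (apF (kernel.ι φ) V) hd).trans ((apF_rsF (kernel.ι φ) hVW k).trans
      ((congrArg (rsF F hVW) hk).trans (hres hVW _)))
    refine h2.symm.trans ?_
    rw [map_sum]
    simp only [Finset.sum_smul]
    rw [Finset.sum_comm]
    refine Finset.sum_congr rfl fun j _ => ?_
    refine (map_smul _ _ _).trans ?_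
    refine (congrArg (fun t => d j • t) ((apF_rsF (kernel.ι φ) le_top (g j)).trans
      ((congrArg (rsF F (le_top : V ≤ ⊤)) (hr j)).trans (hres _ _)))).trans ?_
    rw [Finset.smul_sum]
    exact Finset.sum_congr rfl fun i _ => smul_smul _ _ _
  have h3 : (fun i => resO 𝔛 hX.1 hVW (c i)) =
      ∑ j, d j • fun i => resO 𝔛 hX.1 (le_top : V ≤ ⊤) (r j ⟨i⟩) := funext fun i => by
    have h4 := hcomb V (fun i => resO 𝔛 hX.1 hVW (c i.down) - ∑ j, d j * resO 𝔛 hX.1 (le_top : V ≤ ⊤) (r j i)) ⟨i⟩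
      (by simp only [sub_smul, Finset.sum_sub_distrib, h1, sub_self])
    simpa [Finset.sum_apply] using sub_eq_zero.1 h4
  rw [h3]
  exact Submodule.sum_mem _ fun j _ => Submodule.smul_mem _ _ (Submodule.subset_span ⟨_, hrR j, rfl⟩)

/-- The relations over an affine open generate. -/
theorem relGen_affine (hM : QR M) {U : (𝔛.X 0).Opens} (hU : IsAffineOpen U) {n : ℕ} (y : Fin n → SF 𝔛 hX.1 M U) :
    RelGen M y := by
  have haff : IsAffineOpen (⊤ : ((R' 𝔛 hX.1 U).X 0).Opens) := by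
    haveI : IsAffine ((R' 𝔛 hX.1 U).X 0) := isAffineOpen_lvU 𝔛 hX.1 hU 0
    exact isAffineOpen_top _
  have hUT : U ≤ ι₀ 𝔛 hX.1 U ''ᵁ ⊤ := fun z hz =>
    ⟨⟨z, (lvU_zero 𝔛 hX.1 U).ge hz⟩, trivial, rfl⟩
  have hTU := im_le 𝔛 hX.1 U ⊤
  let y' : Fin n → SF (R' 𝔛 hX.1 U) (hX' hX U).1 ((rf 𝔛 hX.1 U).obj M) ⊤ := fun i => up 𝔛 hX.1 U ⊤ (rsF M hTU (y i))
  have hg := relGen_top (hX' hX U) (qr_rf hX U hM) haff y'
  intro W hW c hc x hx
  obtain ⟨W', rfl⟩ : ∃ W', W = ι₀ 𝔛 hX.1 U ''ᵁ W' := ⟨_, (im_preim 𝔛 hX.1 U hW).symm⟩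
  obtain ⟨v, hv, rfl⟩ := hx
  let E := eR 𝔛 hX.1 U
  have hyW : ∀ i, rsF M ((ι₀ 𝔛 hX.1 U).image_mono (le_top : W' ≤ ⊤)) (rsF M hTU (y i)) = rsF M hW (y i) :=
    fun i => rsF_rsF M _ _ _
  obtain ⟨B, hB, hvB, hmem⟩ := hg (W := W') le_top (fun i => E W' (c i)) (by
    refine Eq.trans (Finset.sum_congr rfl fun i _ => ?_) hc
    exact (smul_up 𝔛 hX.1 U W' (c i) _).trans (congrArg (fun t => c i • t) (hyW i))) v hv
  have hBW := (ι₀ 𝔛 hX.1 U).image_mono hB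
  refine ⟨ι₀ 𝔛 hX.1 U ''ᵁ B, hBW, ⟨v, hvB, rfl⟩, ?_⟩
  have key : ∀ a, a ∈ resRels ((rf 𝔛 hX.1 U).obj M) (hB.trans le_top) y' →
      (fun i => (E B).symm (a i)) ∈ resRels M (hBW.trans hW) y := by
    intro a ha
    induction ha using Submodule.span_induction with
    | mem a ha =>
      obtain ⟨r, hr, rfl⟩ := ha
      refine Submodule.subset_span ⟨fun i => resO 𝔛 hX.1 hUT ((E ⊤).symm (r i)), ?_, funext fun i => ?_⟩
      · have h0 := congrArg (rsF M hUT) (mem_Rels.1 hr : ∑ i, r i • y' i = 0)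
        refine mem_Rels.2 (Eq.trans ?_ (h0.trans (res_zero M hUT)))
        refine Eq.trans ?_ (res_sum (R := ModSite.ringSh (𝔛.Osh hX.1)) M Finset.univ hUT _).symm
        refine Finset.sum_congr rfl fun i _ => ?_
        refine Eq.trans ?_ (res_smul (R := ModSite.ringSh (𝔛.Osh hX.1)) M hUT _ _).symm
        exact congrArg (fun t => resO 𝔛 hX.1 hUT ((E ⊤).symm (r i)) • t)
          ((rsF_rsF M hTU hUT (y i)).trans (res_self M _ (y i))).symm
      · refine (resO_resO hUT (hBW.trans hW) _).trans ((E B).injective ?_)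
        rw [RingEquiv.apply_symm_apply]
        exact (toR'_res 𝔛 hX.1 U (hB.trans le_top) _).trans
          (congrArg _ ((E ⊤).apply_symm_apply (r i)))
    | zero => simp only [Pi.zero_apply, map_zero]; exact zero_mem _
    | add a b _ _ ha hb => simp only [Pi.add_apply, map_add]; exact add_mem ha hb
    | smul t a _ ha => simp only [Pi.smul_apply, smul_eq_mul, map_mul]; exact Submodule.smul_mem _ ((E B).symm t) ha
  have h2 : (fun i => resO 𝔛 hX.1 hBW (c i)) = fun i => (E B).symm (resO (R' 𝔛 hX.1 U) (h' 𝔛 hX.1 U) hB (E W' (c i))) :=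
    funext fun i => ((E B).symm_apply_eq.2 (toR'_res 𝔛 hX.1 U hB (c i)).symm).symm
  rw [h2]
  exact key _ hmem

end Groth.L09.IndCoh
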