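import Groth.Agent.L17.FSheaf.GrLim
import Groth.Agent.L10.TopCohColim
import Groth.Agent.L15.KFlatSite.ToSheafColim
import Mathlib.CategoryTheory.ObjectProperty.Ind

/-!
# Vanishing of cohomology of small filtered colimits of coherent modules on affine formal schemes
-/

set_option autoImplicit false
set_option linter.style.haveILetI false
set_option linter.unusedSectionVars false
set_option backward.isDefEq.respectTransparency false
set_option backward.isDefEq.respectTransparency.types false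

universe u

open CategoryTheory CategoryTheory.Limits AlgebraicGeometry TopologicalSpace Opposite Abelian

noncomputable section

namespace Groth.L09.IndCoh

open Groth.L17 Groth.L17.FSheaf Groth.L17.FSheaf.GrQuot

variable {𝔛 : FSch.Sys.{u}} (hX : 𝔛.IsLocNoethFormal)

/-- Coherent modules have no cohomology on affine opens. -/
theorem hu_coh_eq_zero {𝔉 : FSch.ModF 𝔛 hX.1} (h𝔉 : FSch.IsCohF 𝔛 hX.1 𝔉) {U : (𝔛.X 0).Opens}
    (hU : IsAffineOpen U) (n : ℕ) (x : HU (X := (𝔛.X 0).toTopCat) U ((TF hX.1).obj 𝔉) (n + 1)) : x = 0 := by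
  have hG : ∀ k, LimCoh.AcyclicOn (X := (𝔛.X 0).toTopCat) (𝔛.X 0).affineOpens (levG hX 𝔉 k) := fun k =>
    haveI : Coh.IsQCoh (LF 𝔛 hX.1 𝔉 k) := (isCoh_canonSys 𝔛 hX 𝔉 h𝔉 k).1
    acyclicOn_push hX.1 k (LF 𝔛 hX.1 𝔉 k)
  have key := LimCoh.hu_lim (X := (𝔛.X 0).toTopCat) (𝔛.X 0).isBasis_affineOpens (levG hX 𝔉) (levT hX 𝔉)
    (levπ hX 𝔉) levπ_levT (levπ_ext h𝔉) (exists_levπ h𝔉) (surjective_levT h𝔉) hG U (n + 1)
  refine key.1 (fun m hm y => ?_) x fun k => hG k U hU n _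
  rcases m with _ | m
  · choose a ha using fun k => (Ext.mk₀_bijective (zFree (X := (𝔛.X 0).toTopCat) U) (levG hX 𝔉 k)).2 (y k)
    have hl : ∀ k (c : zFree (X := (𝔛.X 0).toTopCat) U ⟶ levG hX 𝔉 k),
        ∃ d : zFree (X := (𝔛.X 0).toTopCat) U ⟶ levG hX 𝔉 (k + 1), d ≫ levT hX 𝔉 k = c := fun k c => by
      obtain ⟨s, hs⟩ := surjective_levT h𝔉 U hU k (zEquiv (X := (𝔛.X 0).toTopCat) U _ c)
      exact ⟨(zEquiv (X := (𝔛.X 0).toTopCat) U _).symm s,
        (zEquiv (X := (𝔛.X 0).toTopCat) U _).injective (by rw [zEquiv_comp, Equiv.apply_symm_apply]; exact hs)⟩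
    choose d hd using hl
    let c : ∀ k, zFree (X := (𝔛.X 0).toTopCat) U ⟶ levG hX 𝔉 k := fun k =>
      Nat.rec (motive := fun k => zFree (X := (𝔛.X 0).toTopCat) U ⟶ levG hX 𝔉 k) 0 (fun k c => d k (c - a k)) k
    refine ⟨fun k => Ext.mk₀ (c k), fun k => ?_⟩
    have hc : c k = c (k + 1) ≫ levT hX 𝔉 k + a k := by
      rw [show c (k + 1) ≫ levT hX 𝔉 k = c k - a k from hd k _, sub_add_cancel]
    rw [← ha k, huMap, Ext.mk₀_comp_mk₀]
    beta_reduce
    conv_lhs => rw [show Ext.mk₀ (c k) = Ext.mk₀ (c (k + 1) ≫ levT hX 𝔉 k + a k) from congrArg _ hc]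
    rw [Ext.mk₀_add, add_sub_cancel_left]
  · exact ⟨fun _ => 0, fun k => by rw [LimCoh.huMap_zero, sub_zero, hG k U hU m (y k)]⟩

/-- Small filtered colimits of coherent modules have no cohomology on an affine formal scheme. -/
theorem subsingleton_hF_ind [IsAffine (𝔛.X 0)] {𝔉 : FSch.ModF 𝔛 hX.1}
    (h𝔉 : (ObjectProperty.ind.{u} fun 𝔊 : FSch.ModF 𝔛 hX.1 => FSch.IsCohF 𝔛 hX.1 𝔊) 𝔉) (n : ℕ) :
    Subsingleton (FSch.HF 𝔛 hX.1 𝔉 (n + 1)) := by
  obtain ⟨Λ, _, _, pres, hp⟩ := h𝔉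
  have htop : IsAffineOpen (⊤ : (𝔛.X 0).Opens) := isAffineOpen_top _
  let H := (Sheaf.cohomologyPresheafFunctor (Opens.grothendieckTopology (𝔛.X 0).toTopCat) (n + 1)).flip.obj
    (op (⊤ : (𝔛.X 0).Opens))
  haveI : PrespectralSpace ((𝔛.X 0).toTopCat) := inferInstanceAs (PrespectralSpace (𝔛.X 0))
  haveI : QuasiSeparatedSpace ((𝔛.X 0).toTopCat) := inferInstanceAs (QuasiSeparatedSpace (𝔛.X 0))
  haveI : PreservesColimitsOfShape Λ H := Groth.L10.TopColim.preservesColimitsOfShape_H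
    (X := (𝔛.X 0).toTopCat) (U := (⊤ : (𝔛.X 0).Opens)) htop.isCompact Λ (n + 1)
  haveI := Groth.L15.KFlatSite.preservesColimits_toSheaf (ModSite.ringSh (𝔛.Osh hX.1))
  let G := SheafOfModules.toSheaf.{u} (ModSite.ringSh (𝔛.Osh hX.1)) ⋙ H
  have : Subsingleton (HU (X := (𝔛.X 0).toTopCat) ⊤ ((TF hX.1).obj 𝔉) (n + 1)) := by
    refine subsingleton_of_forall_eq 0 fun z => ?_
    obtain ⟨j, y, hy⟩ := Concrete.isColimit_exists_rep (pres.diag ⋙ G) (isColimitOfPreserves G pres.isColimit) z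
    have h0 : y = 0 := hu_coh_eq_zero hX (hp j) htop n y
    rw [← hy, h0]
    exact map_zero _
  exact (hTopEquiv (X := (𝔛.X 0).toTopCat) ((TF hX.1).obj 𝔉) (n + 1)).subsingleton

end Groth.L09.IndCoh
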